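import Groth.Agent.FibreDepth.Basic

/-!
Fibre rings under base change: a flat local homomorphism.
-/

set_option autoImplicit false

universe u

namespace Groth.Agent.FibreDepth

open IsLocalRing TensorProduct CategoryTheory

attribute [local instance] Algebra.TensorProduct.rightAlgebra

variable {A A' P P' : Type u} [CommRing A] [CommRing A'] [CommRing P] [CommRing P']
  [Algebra A A'] [Algebra A P] [Algebra A' P'] [Algebra P P'] [Algebra A P']
  [IsScalarTower A A' P'] [IsScalarTower A P P'] [Algebra.IsPushout A A' P P']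

theorem exists_flat_fibRing_hom (q' : PrimeSpectrum P') (q : PrimeSpectrum P)
    (hq : q'.asIdeal.under P = q.asIdeal) :
    ∃ ψ : FibRing A q →+* FibRing A' q', RingHom.Flat (R := FibRing A q) (S := FibRing A' q') ψ ∧ IsLocalHom ψ ∧
      ∀ b : P, ψ (algebraMap P (FibRing A q) b) = algebraMap P' (FibRing A' q') (algebraMap P P' b) := by
  let p := basePrime A q
  let p' := basePrime A' q'
  haveI : p'.LiesOver p := ⟨by
    show q.asIdeal.under A = (q'.asIdeal.under A').under A
    rw [← hq, Ideal.under_under, Ideal.under_under]⟩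
  letI := Localization.AtPrime.algebraOfLiesOver p p'
  let e : p.Fiber P ⊗[p.ResidueField] p'.ResidueField ≃+* p'.Fiber P' :=
    ((Algebra.TensorProduct.comm p.ResidueField (p.Fiber P) p'.ResidueField).toRingEquiv.trans
      (Algebra.TensorProduct.cancelBaseChange A p.ResidueField p'.ResidueField p'.ResidueField P :
        p'.ResidueField ⊗[p.ResidueField] (p.Fiber P) ≃ₐ[p'.ResidueField] p'.ResidueField ⊗[A] P).toRingEquiv).trans
      ((Algebra.TensorProduct.cancelBaseChange A A' A' p'.ResidueField P).toRingEquiv.symm.trans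
        (Algebra.TensorProduct.congr (AlgEquiv.refl (R := A') (A₁ := p'.ResidueField)) (Algebra.IsPushout.equiv A A' P P')).toRingEquiv)
  let ψ₀ : p.Fiber P →+* p'.Fiber P' :=
    e.toRingHom.comp Algebra.TensorProduct.includeLeftRingHom
  have he : ∀ b : P, ψ₀ ((Algebra.TensorProduct.includeRight : P →ₐ[A] p.Fiber P) b) =
      (Algebra.TensorProduct.includeRight : P' →ₐ[A'] p'.Fiber P') (algebraMap P P' b) := fun b => by
    show Algebra.TensorProduct.congr (AlgEquiv.refl (R := A') (A₁ := p'.ResidueField)) (Algebra.IsPushout.equiv A A' P P')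
      ((Algebra.TensorProduct.cancelBaseChange A A' A' p'.ResidueField P).symm
        (Algebra.TensorProduct.cancelBaseChange A p.ResidueField p'.ResidueField p'.ResidueField P
          (Algebra.TensorProduct.comm p.ResidueField (p.Fiber P) p'.ResidueField ((1 ⊗ₜ[A] b) ⊗ₜ[p.ResidueField] 1)))) = _
    simp [Algebra.IsPushout.equiv_tmul]
  have h1 : RingHom.Flat (R := p.Fiber P) (S := p.Fiber P ⊗[p.ResidueField] p'.ResidueField)
      Algebra.TensorProduct.includeLeftRingHom :=
    RingHom.flat_algebraMap_iff.2 inferInstance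
  have h2 : RingHom.Flat (R := p.Fiber P ⊗[p.ResidueField] p'.ResidueField) (S := p'.Fiber P') (e : p.Fiber P ⊗[p.ResidueField] p'.ResidueField →+* p'.Fiber P') :=
    RingHom.Flat.of_bijective e.bijective
  have hflat : ψ₀.Flat := h1.comp h2
  let Q' := (point A' q').asIdeal
  have hQ : (point A q).asIdeal = Q'.comap ψ₀ := by
    refine (congrArg PrimeSpectrum.asIdeal (point_unique (A := A) q ⟨Q'.comap ψ₀, inferInstance⟩ ?_)).symm
    ext b
    show ψ₀ ((Algebra.TensorProduct.includeRight : P →ₐ[A] p.Fiber P) b) ∈ Q' ↔ b ∈ q.asIdeal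
    rw [he, ← hq]
    exact SetLike.ext_iff.1 (comap_point (A := A') q') (algebraMap P P' b)
  refine ⟨Localization.localRingHom _ Q' ψ₀ hQ, hflat.localRingHom _ _ hQ, inferInstance, fun b => ?_⟩
  rw [IsScalarTower.algebraMap_apply P (p.Fiber P) (FibRing A q),
    IsScalarTower.algebraMap_apply P' (p'.Fiber P') (FibRing A' q'), Localization.localRingHom_to_map]
  exact congrArg _ (he b)

omit [CommRing A] [CommRing A'] in
theorem transfer_aux {P P' R R' : Type u} [CommRing P] [CommRing P'] [CommRing R] [CommRing R'] [IsLocalRing R]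
    [IsLocalRing R'] [IsNoetherianRing R] [IsNoetherianRing R'] [Algebra P P'] [Algebra P R] [Algebra P' R']
    [Algebra P R'] [IsScalarTower P P' R'] [Algebra R R'] [IsScalarTower P R R'] [IsLocalHom (algebraMap R R')]
    [Module.Flat R R'] (M : Type u) [AddCommGroup M] [Module P M] [Module.Finite P M] (e : ℕ) :
    (PdLE P' R' (P' ⊗[P] M) e ↔ PdLE P R M e) ∧
    Module.supportDim R' (R' ⊗[P'] (P' ⊗[P] M)) + ringKrullDim R =
      Module.supportDim R (R ⊗[P] M) + ringKrullDim R' := by
  let ee : R' ⊗[P'] (P' ⊗[P] M) ≃ₗ[R'] R' ⊗[R] (R ⊗[P] M) :=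
    (AlgebraTensorModule.cancelBaseChange P P' R' R' M).trans
      (AlgebraTensorModule.cancelBaseChange P R R' R' M).symm
  refine ⟨?_, ?_⟩
  · show HasProjectiveDimensionLT (ModuleCat.of R' (R' ⊗[P'] (P' ⊗[P] M))) (e + 1) ↔
      HasProjectiveDimensionLT (ModuleCat.of R (R ⊗[P] M)) (e + 1)
    rw [← projDimLT_baseChange_iff (R := R) (R' := R') (N := R ⊗[P] M) e]
    exact ⟨fun _ => hasProjectiveDimensionLT_of_iso ee.toModuleIso _,
      fun _ => hasProjectiveDimensionLT_of_iso ee.symm.toModuleIso _⟩
  · rw [Module.supportDim_eq_of_equiv ee]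
    exact supportDim_baseChange_add

variable (M : Type u) [AddCommGroup M] [Module P M] [Module.Finite P M] [Algebra.FiniteType A P] [Algebra.FiniteType A' P']

theorem fibMod_baseChange (q' : PrimeSpectrum P') (q : PrimeSpectrum P) (hq : q'.asIdeal.under P = q.asIdeal) (e : ℕ) :
    (PdLE P' (FibRing A' q') (P' ⊗[P] M) e ↔ PdLE P (FibRing A q) M e) ∧
    Module.supportDim (FibRing A' q') (FibMod A' (P' ⊗[P] M) q') + ringKrullDim (FibRing A q) =
      Module.supportDim (FibRing A q) (FibMod A M q) + ringKrullDim (FibRing A' q') := by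
  obtain ⟨ψ, hflat, hloc, hψ⟩ := exists_flat_fibRing_hom (A := A) (A' := A') q' q hq
  letI : Algebra (FibRing A q) (FibRing A' q') := ψ.toAlgebra
  haveI : Module.Flat (FibRing A q) (FibRing A' q') := hflat
  haveI : IsLocalHom (algebraMap (FibRing A q) (FibRing A' q')) := hloc
  letI : Algebra P (FibRing A' q') := ((algebraMap P' (FibRing A' q')).comp (algebraMap P P')).toAlgebra
  haveI : IsScalarTower P P' (FibRing A' q') := .of_algebraMap_eq fun _ => rfl
  haveI : IsScalarTower P (FibRing A q) (FibRing A' q') := .of_algebraMap_eq fun b => (hψ b).symm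
  exact transfer_aux (R := FibRing A q) (R' := FibRing A' q') M e

end Groth.Agent.FibreDepth
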