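import Groth.Agent.FibreDepth.Codim

/-!
Rectified depth and codepth of fibres in terms of projective dimension and codimension.
-/

set_option autoImplicit false

universe u

namespace Groth.Agent.FibreDepth

open IsLocalRing TensorProduct CategoryTheory

attribute [local instance] Algebra.TensorProduct.rightAlgebra

section Abstract

variable {P : Type u} [CommRing P] (R : Type u) [CommRing R] [Algebra P R] (M : Type u) [AddCommGroup M] [Module P M]
  [Module.Finite P M]

theorem supportDim_tensor :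
    Module.supportDim R (R ⊗[P] M) = ringKrullDim (R ⧸ (Module.annihilator P M).map (algebraMap P R)) := by
  rw [← Module.supportDim_quotient_eq_ringKrullDim, Module.supportDim, Module.supportDim,
    support_baseChange (R := P) (R' := R) (N := M), GorLib.support_quotient]

theorem codimAt_annihilator_iff (j : ℕ) :
    CodimAt R (Module.annihilator P M) j ↔ Module.supportDim R (R ⊗[P] M) + j ≤ ringKrullDim R := by
  rw [CodimAt, supportDim_tensor]

/-- The numerical data of a finite module over a regular local ring. -/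
theorem exists_invariants [IsRegularLocalRing R] [Nontrivial (R ⊗[P] M)] (d : ℕ) (hd : ringKrullDim R = d) :
    ∃ s D : ℕ, Module.supportDim R (R ⊗[P] M) = (s : WithBot ℕ∞) ∧ LocCoh.depth R (R ⊗[P] M) = (D : ℕ∞) ∧
      s ≤ d ∧ D ≤ d ∧ D ≤ s := by
  have h1 : LocCoh.depth R (R ⊗[P] M) ≤ (d : ℕ∞) := depth_le_dim d hd
  obtain ⟨D, hD⟩ := ENat.ne_top_iff_exists.1 (ne_top_of_le_ne_top (ENat.natCast_ne_top d) h1)
  have h2 := QGorLib.depth_le_supportDim (R := R) (R ⊗[P] M)
  have h3 := Module.supportDim_le_ringKrullDim R (R ⊗[P] M)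
  rw [← hD] at h1 h2
  rw [hd] at h3
  obtain ⟨s', hs'⟩ := WithBot.ne_bot_iff_exists.1 (Module.supportDim_ne_bot_of_nontrivial R (R ⊗[P] M))
  rw [← hs'] at h2 h3
  obtain ⟨s, rfl⟩ := ENat.ne_top_iff_exists.1
    (ne_top_of_le_ne_top (ENat.natCast_ne_top d) (WithBot.coe_le_coe.1 h3))
  exact ⟨s, D, hs'.symm, hD.symm, by exact_mod_cast h3, by exact_mod_cast h1, by exact_mod_cast h2⟩

theorem natCast_le_depth_add_iff [IsRegularLocalRing R] (d t m : ℕ) (hd : ringKrullDim R = d) (hm : d + t = m)
    (n : ℕ) :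
    (n : ℕ∞) ≤ LocCoh.depth R (R ⊗[P] M) + (t : ℕ∞) ↔
      (n ≤ m ∧ PdLE P R M (m - n)) ∨ CodimAt R (Module.annihilator P M) (m + 1) := by
  rw [codimAt_annihilator_iff]
  rcases subsingleton_or_nontrivial (R ⊗[P] M) with h | h
  · refine iff_of_true ?_ (Or.inr ?_)
    · rw [CAlgBasics.depth_eq_top, top_add]; exact le_top
    · rw [Module.supportDim_eq_bot_of_subsingleton, WithBot.bot_add]; exact bot_le
  obtain ⟨s, D, hs, hD, hsd, hDd, -⟩ := exists_invariants (P := P) R M d hd
  have hpd : ∀ k, PdLE P R M k ↔ d - k ≤ D := fun k => by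
    show HasProjectiveDimensionLT (ModuleCat.of R (R ⊗[P] M)) (k + 1) ↔ _
    rw [projDimLT_iff_le_depth d hd k, hD, Nat.cast_le]
  rw [hs, hd, hpd, hD]
  constructor
  · intro h'
    have h'' : n ≤ D + t := by exact_mod_cast h'
    exact Or.inl ⟨by omega, by omega⟩
  · rintro (⟨h1, h2⟩ | h1)
    · exact_mod_cast (by omega : n ≤ D + t)
    · exfalso
      have h'' : s + (m + 1) ≤ d := by exact_mod_cast h1
      omega

theorem supportDim_le_depth_add_iff [IsRegularLocalRing R] (d m : ℕ) (hd : ringKrullDim R = d) (hm : d ≤ m) (k : ℕ) :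
    Module.supportDim R (R ⊗[P] M) ≤ ((LocCoh.depth R (R ⊗[P] M) : ℕ∞) : WithBot ℕ∞) + k ↔
      ∃ e ≤ m, PdLE P R M e ∧ CodimAt R (Module.annihilator P M) (e - k) := by
  simp only [codimAt_annihilator_iff]
  rcases subsingleton_or_nontrivial (R ⊗[P] M) with h | h
  · refine iff_of_true ?_ ⟨0, Nat.zero_le _, ?_, ?_⟩
    · rw [Module.supportDim_eq_bot_of_subsingleton]; exact bot_le
    · haveI : Module.Free R (R ⊗[P] M) := Module.Free.of_subsingleton R _
      exact RegLocal.hasProjectiveDimensionLT_of_free _ 0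
    · rw [Module.supportDim_eq_bot_of_subsingleton, WithBot.bot_add]; exact bot_le
  obtain ⟨s, D, hs, hD, hsd, hDd, hDs⟩ := exists_invariants (P := P) R M d hd
  have hpd : ∀ e, PdLE P R M e ↔ d - e ≤ D := fun e => by
    show HasProjectiveDimensionLT (ModuleCat.of R (R ⊗[P] M)) (e + 1) ↔ _
    rw [projDimLT_iff_le_depth d hd e, hD, Nat.cast_le]
  simp only [hs, hd, hpd, hD]
  constructor
  · intro h'
    have h'' : s ≤ D + k := by exact_mod_cast h'
    exact ⟨d - D, by omega, by omega, by exact_mod_cast (by omega : s + (d - D - k) ≤ d)⟩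
  · rintro ⟨e, -, h1, h2⟩
    have h'' : s + (e - k) ≤ d := by exact_mod_cast h2
    exact_mod_cast (by omega : s ≤ D + k)

theorem subsingleton_iff_codimAt [IsRegularLocalRing R] (d m : ℕ) (hd : ringKrullDim R = d) (hm : d ≤ m) :
    Subsingleton (R ⊗[P] M) ↔ CodimAt R (Module.annihilator P M) (m + 1) := by
  rw [codimAt_annihilator_iff]
  refine ⟨fun h => by rw [Module.supportDim_eq_bot_of_subsingleton, WithBot.bot_add]; exact bot_le, fun h => ?_⟩
  by_contra hne
  rw [not_subsingleton_iff_nontrivial] at hne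
  obtain ⟨s, D, hs, -, -, -, -⟩ := exists_invariants (P := P) R M d hd
  rw [hs, hd] at h
  have h'' : s + (m + 1) ≤ d := by exact_mod_cast h
  omega

end Abstract

/-- The depth of `R ⊗ M`. -/
noncomputable def tensDepth (P : Type u) [CommRing P] (R : Type u) [CommRing R] [IsLocalRing R] [Algebra P R]
    (M : Type u) [AddCommGroup M] [Module P M] : ℕ∞ :=
  LocCoh.depth R (R ⊗[P] M)

/-- The dimension of the support of `R ⊗ M`. -/
noncomputable def tensSupp (P : Type u) [CommRing P] (R : Type u) [CommRing R] [Algebra P R]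
    (M : Type u) [AddCommGroup M] [Module P M] : WithBot ℕ∞ :=
  Module.supportDim R (R ⊗[P] M)

section Polynomial

variable {A : Type u} [CommRing A] {m : ℕ} (M : Type u) [AddCommGroup M] [Module (MvPolynomial (Fin m) A) M]
  [Module.Finite (MvPolynomial (Fin m) A) M] (r : PrimeSpectrum (MvPolynomial (Fin m) A))

local notation "J" => Module.annihilator (MvPolynomial (Fin m) A) M

theorem fib_depth_add_iff (t : ℕ) (ht : Algebra.trdeg (A ⧸ basePrime A r) (MvPolynomial (Fin m) A ⧸ r.asIdeal) = t)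
    (n : ℕ) :
    (n : ℕ∞) ≤ tensDepth (MvPolynomial (Fin m) A) (FibRing A r) M + (t : ℕ∞) ↔
      (n ≤ m ∧ PdLE (MvPolynomial (Fin m) A) (FibRing A r) M (m - n)) ∨ CodimGE A J r (m + 1) := by
  obtain ⟨d, t', hd, ht', hm⟩ := fibRing_dim r
  haveI := isRegularLocalRing_fibRing r
  obtain rfl : t = t' := by exact_mod_cast ht.symm.trans ht'
  exact natCast_le_depth_add_iff (FibRing A r) M d t m hd hm n

theorem fib_coprof_iff (k : ℕ) :
    tensSupp (MvPolynomial (Fin m) A) (FibRing A r) M ≤
        ((tensDepth (MvPolynomial (Fin m) A) (FibRing A r) M : ℕ∞) : WithBot ℕ∞) + k ↔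
      ∃ e ≤ m, PdLE (MvPolynomial (Fin m) A) (FibRing A r) M e ∧ CodimGE A J r (e - k) := by
  obtain ⟨d, t', hd, -, hm⟩ := fibRing_dim r
  haveI := isRegularLocalRing_fibRing r
  exact supportDim_le_depth_add_iff (FibRing A r) M d m hd (by omega) k

theorem fib_subsingleton_iff : Subsingleton (FibMod A M r) ↔ CodimGE A J r (m + 1) := by
  obtain ⟨d, t', hd, -, hm⟩ := fibRing_dim r
  haveI := isRegularLocalRing_fibRing r
  exact subsingleton_iff_codimAt (FibRing A r) M d m hd (by omega)

end Polynomial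

end Groth.Agent.FibreDepth
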