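import Groth.Agent.FibreDepth.Open
import Groth.Agent.FibreDepth.BaseChange
import Groth.Agent.FibreDepth.Criteria

/-!
Base change of fibre invariants in affine space and openness over an arbitrary base.
-/

set_option autoImplicit false

universe u

namespace Groth.Agent.FibreDepth

open IsLocalRing TensorProduct CategoryTheory MvPolynomial Groth.Agent.GenFree Groth.Agent.FlatLocus

attribute [local instance] Algebra.TensorProduct.rightAlgebra MvPolynomial.algebraMvPolynomial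

theorem pdLE_congr {P : Type u} [CommRing P] (R : Type u) [CommRing R] [Algebra P R] {M M' : Type u} [AddCommGroup M]
    [Module P M] [AddCommGroup M'] [Module P M'] (e : M ≃ₗ[P] M') (k : ℕ) : PdLE P R M k ↔ PdLE P R M' k := by
  let e' : R ⊗[P] M ≃ₗ[R] R ⊗[P] M' := AlgebraTensorModule.congr (LinearEquiv.refl R R) e
  show HasProjectiveDimensionLT (ModuleCat.of R (R ⊗[P] M)) (k + 1) ↔ HasProjectiveDimensionLT (ModuleCat.of R (R ⊗[P] M')) (k + 1)
  exact ⟨fun _ => hasProjectiveDimensionLT_of_iso e'.toModuleIso _, fun _ => hasProjectiveDimensionLT_of_iso e'.symm.toModuleIso _⟩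

theorem flat_localized_congr {A P M M' : Type u} [CommRing A] [CommRing P] [Algebra A P] [AddCommGroup M] [Module P M]
    [Module A M] [IsScalarTower A P M] [AddCommGroup M'] [Module P M'] [Module A M'] [IsScalarTower A P M']
    (e : M ≃ₗ[P] M') (T : Submonoid P) :
    Module.Flat A (LocalizedModule T M) ↔ Module.Flat A (LocalizedModule T M') := by
  let E : LocalizedModule T M ≃ₗ[A] LocalizedModule T M' :=
    (IsLocalizedModule.linearEquiv T (LocalizedModule.mkLinearMap T M)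
      ((LocalizedModule.mkLinearMap T M') ∘ₗ e.toLinearMap)).restrictScalars A
  exact ⟨fun _ => Module.Flat.of_linearEquiv E.symm, fun _ => Module.Flat.of_linearEquiv E⟩

/-- The quotient of a free module by an extended submodule is the base change. -/
theorem nonempty_baseChange_quot {A₁ A : Type u} [CommRing A₁] [CommRing A] [Algebra A₁ A] {a m : ℕ}
    (N : Submodule (MvPolynomial (Fin m) A₁) (FreeMod A₁ a m)) :
    Nonempty ((MvPolynomial (Fin m) A ⊗[MvPolynomial (Fin m) A₁] (FreeMod A₁ a m ⧸ N)) ≃ₗ[MvPolynomial (Fin m) A]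
      (FreeMod A a m ⧸ locN A N)) := by
  classical
  let P₁ := MvPolynomial (Fin m) A₁
  let P := MvPolynomial (Fin m) A
  let ψ : FreeMod A₁ a m →ₗ[P₁] FreeMod A a m :=
    { (phi A : FreeMod A₁ a m →ₗ[A₁] FreeMod A a m).toAddMonoidHom with
      map_smul' := fun p v => (phi_smul A p v).trans (algebraMap_smul P p (phi A v)) }
  let g : (FreeMod A₁ a m ⧸ N) →ₗ[P₁] (FreeMod A a m ⧸ locN A N) :=
    N.liftQ (((locN A N).mkQ.restrictScalars P₁) ∘ₗ ψ) fun v hv =>
      (Submodule.Quotient.mk_eq_zero _).2 (phi_mem A N hv)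
  let fwd : P ⊗[P₁] (FreeMod A₁ a m ⧸ N) →ₗ[P] (FreeMod A a m ⧸ locN A N) := g.liftBaseChange P
  let ε : Fin a → FreeMod A₁ a m := fun s => Pi.single s 1
  let L : FreeMod A a m →ₗ[P] P ⊗[P₁] (FreeMod A₁ a m ⧸ N) :=
    Fintype.linearCombination P fun s => (1 : P) ⊗ₜ[P₁] N.mkQ (ε s)
  have hL : ∀ v : FreeMod A₁ a m, L (phi A v) = (1 : P) ⊗ₜ[P₁] N.mkQ v := by
    intro v
    rw [Fintype.linearCombination_apply]
    conv_rhs => rw [pi_eq_sum_univ' v]
    rw [map_sum, TensorProduct.tmul_sum]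
    refine Finset.sum_congr rfl fun s _ => ?_
    rw [map_smul, tmul_smul, ← algebraMap_smul P (v s) ((1 : P) ⊗ₜ[P₁] N.mkQ _)]
    rfl
  let bwd : (FreeMod A a m ⧸ locN A N) →ₗ[P] P ⊗[P₁] (FreeMod A₁ a m ⧸ N) :=
    (locN A N).liftQ L (Submodule.span_le.2 (by
      rintro _ ⟨v, hv, rfl⟩
      show L (phi A v) = 0
      rw [hL, show N.mkQ v = 0 from (Submodule.Quotient.mk_eq_zero _).2 hv, tmul_zero]))
  refine ⟨LinearEquiv.ofLinearMap fwd bwd ?_ ?_⟩
  · refine Submodule.linearMap_qext _ ((Pi.basisFun P (Fin a)).ext fun s => ?_)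
    show fwd (L (Pi.basisFun P (Fin a) s)) = Submodule.Quotient.mk (Pi.basisFun P (Fin a) s)
    rw [Pi.basisFun_apply, Fintype.linearCombination_apply_single, one_smul]
    show (1 : P) • g (N.mkQ (ε s)) = _
    rw [one_smul]
    show Submodule.Quotient.mk (phi A (Pi.single s 1 : FreeMod A₁ a m)) = _
    congr 1
    funext t
    rw [phi_apply]
    rcases eq_or_ne t s with rfl | h
    · rw [Pi.single_eq_same, Pi.single_eq_same, map_one]
    · rw [Pi.single_eq_of_ne h, Pi.single_eq_of_ne h, map_zero]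
  · refine LinearMap.ext fun z => ?_
    induction z with
    | zero => simp
    | tmul p x =>
      obtain ⟨v, rfl⟩ := N.mkQ_surjective x
      show bwd (p • g (N.mkQ v)) = p ⊗ₜ[P₁] N.mkQ v
      rw [map_smul]
      show p • L (phi A v) = _
      rw [hL, smul_tmul', smul_eq_mul, mul_one]
    | add x y hx hy => simp only [LinearMap.comp_apply, LinearMap.id_apply, map_add] at hx hy ⊢; rw [hx, hy]

theorem flat_mvPolynomial (A : Type u) [CommRing A] (m : ℕ) : Module.Flat A (MvPolynomial (Fin m) A) :=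
  inferInstance

theorem pdLE_descent {A₁ A : Type u} [CommRing A₁] [CommRing A] [Algebra A₁ A] {m : ℕ} (M : Type u)
    [AddCommGroup M] [Module (MvPolynomial (Fin m) A) M] (M₁ : Type u) [AddCommGroup M₁]
    [Module (MvPolynomial (Fin m) A₁) M₁] [Module.Finite (MvPolynomial (Fin m) A₁) M₁]
    (ε : M ≃ₗ[MvPolynomial (Fin m) A] MvPolynomial (Fin m) A ⊗[MvPolynomial (Fin m) A₁] M₁) (e : ℕ)
    (q : PrimeSpectrum (MvPolynomial (Fin m) A)) (q₁ : PrimeSpectrum (MvPolynomial (Fin m) A₁))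
    (hq : PrimeSpectrum.comap (MvPolynomial.map (algebraMap A₁ A)) q = q₁) :
    PdLE (MvPolynomial (Fin m) A) (FibRing A q) M e ↔ PdLE (MvPolynomial (Fin m) A₁) (FibRing A₁ q₁) M₁ e :=
  (pdLE_congr (FibRing A q) ε e).trans
    (fibMod_baseChange (A := A₁) (A' := A) M₁ q q₁ (congrArg PrimeSpectrum.asIdeal hq) e).1

theorem exists_open_of_descent {A₁ A : Type u} [CommRing A₁] [IsNoetherianRing A₁] [CommRing A] [Algebra A₁ A]
    {m : ℕ} (M : Type u) [AddCommGroup M] [Module (MvPolynomial (Fin m) A) M] [Module A M]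
    [IsScalarTower A (MvPolynomial (Fin m) A) M] (M₁ : Type u) [AddCommGroup M₁]
    [Module (MvPolynomial (Fin m) A₁) M₁] [Module A₁ M₁] [IsScalarTower A₁ (MvPolynomial (Fin m) A₁) M₁]
    [Module.Finite (MvPolynomial (Fin m) A₁) M₁]
    (ε : M ≃ₗ[MvPolynomial (Fin m) A] MvPolynomial (Fin m) A ⊗[MvPolynomial (Fin m) A₁] M₁) (e : ℕ)
    (q : PrimeSpectrum (MvPolynomial (Fin m) A))
    (hflat : Module.Flat A₁ (LocalizedModule
      (PrimeSpectrum.comap (MvPolynomial.map (algebraMap A₁ A)) q).asIdeal.primeCompl M₁))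
    (hpd : PdLE (MvPolynomial (Fin m) A) (FibRing A q) M e)
    (hup : ∀ q' : PrimeSpectrum (MvPolynomial (Fin m) A), Module.Flat A₁ (LocalizedModule
        (PrimeSpectrum.comap (MvPolynomial.map (algebraMap A₁ A)) q').asIdeal.primeCompl M₁) →
      Module.Flat A (LocalizedModule q'.asIdeal.primeCompl M)) :
    ∃ W : Set (PrimeSpectrum (MvPolynomial (Fin m) A)), IsOpen W ∧ q ∈ W ∧
      W ⊆ PdSet A (MvPolynomial (Fin m) A) M e :=
  ⟨PrimeSpectrum.comap (MvPolynomial.map (algebraMap A₁ A)) ⁻¹' PdSet A₁ (MvPolynomial (Fin m) A₁) M₁ e,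
    (isOpen_pdSet e M₁).preimage (PrimeSpectrum.continuous_comap _),
    ⟨hflat, (pdLE_descent M M₁ ε e q _ rfl).1 hpd⟩,
    fun q' hq' => ⟨hup q' hq'.1, (pdLE_descent M M₁ ε e q' _ rfl).2 hq'.2⟩⟩

/-- The flat points with fibres of projective dimension at most `e` form an open set, over any base. -/
theorem isOpen_pdSet_mvPolynomial {A : Type u} [CommRing A] {m : ℕ} (M : Type u) [AddCommGroup M]
    [Module (MvPolynomial (Fin m) A) M] [Module A M] [IsScalarTower A (MvPolynomial (Fin m) A) M]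
    [Module.FinitePresentation (MvPolynomial (Fin m) A) M] (e : ℕ) :
    IsOpen (PdSet A (MvPolynomial (Fin m) A) M e) := by
  obtain ⟨a, K, ε, hK⟩ := Module.FinitePresentation.exists_fin (MvPolynomial (Fin m) A) M
  refine isOpen_iff_forall_mem_open.2 fun q ⟨hflat, hpd⟩ => ?_
  have hq : q ∈ flatSet K := (flat_localized_congr ε q.asIdeal.primeCompl).1 hflat
  obtain ⟨S₀, N₀, hS₀, hN₀⟩ := exists_base K hK
  haveI := hS₀
  obtain ⟨S, hS, hq₁⟩ := exists_subalgebra N₀ q (mem_flatSet_iff.1 (hN₀.symm ▸ hq) _)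
  haveI : IsNoetherianRing S := isNoetherianRing_of_fg hS
  let K₁ := locN S N₀
  have hK₁ : locN A K₁ = K := (locN_locN S N₀).trans hN₀
  obtain ⟨η⟩ := nonempty_baseChange_quot (A₁ := S) (A := A) K₁
  let ε' : M ≃ₗ[MvPolynomial (Fin m) A]
      MvPolynomial (Fin m) A ⊗[MvPolynomial (Fin m) S] (FreeMod S a m ⧸ K₁) :=
    ε.trans ((Submodule.quotEquivOfEq _ _ hK₁.symm).trans η.symm)
  obtain ⟨W, hW, hqW, hsub⟩ := exists_open_of_descent (A₁ := S) (A := A) M (FreeMod S a m ⧸ K₁) ε' e q hq₁ hpd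
    fun q' hf' => (flat_localized_congr ε q'.asIdeal.primeCompl).2 (hK₁ ▸ mem_flatSet_of_comap S K₁ q' hf')
  exact ⟨W, hsub, hW, hqW⟩

end Groth.Agent.FibreDepth
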