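import Groth.Agent.FibreDepth.FibIso
import Groth.Agent.FibreDepth.Descent
import Groth.Agent.GorLib.Heights

/-!
Serre's conditions on the fibres of a flat module in affine space: openness.
-/

set_option autoImplicit false

universe u

namespace Groth.Agent.FibreDepth

open IsLocalRing TensorProduct CategoryTheory Groth.Agent.GenFree Groth.Agent.FlatLocus

attribute [local instance] Algebra.TensorProduct.rightAlgebra

/-- Cohen–Macaulayness of `R ⊗ M`, in the form of an inequality. -/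
def CMAt (P : Type u) [CommRing P] (R : Type u) [CommRing R] [IsLocalRing R] [Algebra P R] (M : Type u)
    [AddCommGroup M] [Module P M] : Prop :=
  tensSupp P R M ≤ ((tensDepth P R M : ℕ∞) : WithBot ℕ∞) + (0 : ℕ)

/-- Serre's condition `S_k` for `R ⊗ M`. -/
def TensSk (P : Type u) [CommRing P] (R : Type u) [CommRing R] [Algebra P R] (M : Type u)
    [AddCommGroup M] [Module P M] (k : ℕ) : Prop :=
  LocCoh.HasSk k R (R ⊗[P] M)

/-- Codimension in a regular local ring through the heights of primes. -/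
theorem codimAt_iff_forall_height {P R : Type u} [CommRing P] [CommRing R] [IsRegularLocalRing R] [Algebra P R]
    (J : Ideal P) (j : ℕ) :
    CodimAt R J j ↔ ∀ (𝔯 : Ideal R) [𝔯.IsPrime], J ≤ 𝔯.comap (algebraMap P R) → (j : ℕ∞) ≤ 𝔯.height := by
  obtain ⟨d, hd⟩ := RegLocal.exists_nat_ringKrullDim R
  let I := J.map (algebraMap P R)
  have key : ∀ (𝔯 : Ideal R) [𝔯.IsPrime], ∃ a b : ℕ, 𝔯.height = a ∧ ringKrullDim (R ⧸ 𝔯) = (b : WithBot ℕ∞) ∧ a + b = d := by
    intro 𝔯 _
    obtain ⟨a, ha⟩ := ENat.ne_top_iff_exists.1 (Ideal.height_ne_top (I := 𝔯) Ideal.IsPrime.ne_top')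
    haveI : Nontrivial (R ⧸ 𝔯) := Ideal.Quotient.nontrivial_iff.mpr Ideal.IsPrime.ne_top'
    haveI : IsLocalRing (R ⧸ 𝔯) := .of_surjective' (Ideal.Quotient.mk 𝔯) Ideal.Quotient.mk_surjective
    obtain ⟨b, hb⟩ := RegLocal.exists_nat_ringKrullDim (R ⧸ 𝔯)
    refine ⟨a, b, ha.symm, hb, ?_⟩
    have h := GorLib.height_add_ringKrullDim_quotient (GorLib.gorensteinLocal_of_regular R) 𝔯
    rw [← ha, hb, hd] at h
    exact_mod_cast h
  rw [CodimAt, hd]
  constructor
  · intro h 𝔯 _ hJ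
    obtain ⟨a, b, ha, hb, hab⟩ := key 𝔯
    have hle : ringKrullDim (R ⧸ 𝔯) ≤ ringKrullDim (R ⧸ I) :=
      ringKrullDim_le_of_surjective (Ideal.Quotient.factor (Ideal.map_le_iff_le_comap.2 hJ))
        (Ideal.Quotient.factor_surjective _)
    have h' := le_trans (add_le_add hle le_rfl) h
    rw [hb] at h'
    have h'' : b + j ≤ d := by exact_mod_cast h'
    rw [ha]
    exact_mod_cast (by omega : j ≤ a)
  · intro H
    rcases subsingleton_or_nontrivial (R ⧸ I) with h | h
    · rw [show ringKrullDim (R ⧸ J.map (algebraMap P R)) = ⊥ from ringKrullDim_eq_bot_of_subsingleton,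
        WithBot.bot_add]
      exact bot_le
    haveI : IsLocalRing (R ⧸ I) := .of_surjective' (Ideal.Quotient.mk I) Ideal.Quotient.mk_surjective
    obtain ⟨c, hc⟩ := RegLocal.exists_nat_ringKrullDim (R ⧸ I)
    obtain ⟨s, hs⟩ : ∃ s : LTSeries (PrimeSpectrum (R ⧸ I)), s.length = c :=
      Order.le_krullDim_iff.mp (by rw [← ringKrullDim, hc])
    let 𝔯 : Ideal R := s.head.asIdeal.comap (Ideal.Quotient.mk I)
    have hI𝔯 : I ≤ 𝔯 := fun x hx => by
      show Ideal.Quotient.mk I x ∈ s.head.asIdeal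
      rw [Ideal.Quotient.eq_zero_iff_mem.2 hx]
      exact zero_mem _
    obtain ⟨a, b, ha, hb, hab⟩ := key 𝔯
    have hja : j ≤ a := by
      have h' := H 𝔯 (Ideal.map_le_iff_le_comap.1 hI𝔯)
      rw [ha] at h'
      exact_mod_cast h'
    have hcb : c ≤ b := by
      let e : (R ⧸ 𝔯) ≃+* (R ⧸ I) ⧸ s.head.asIdeal :=
        RingEquiv.ofBijective (Ideal.quotientMap s.head.asIdeal (Ideal.Quotient.mk I) le_rfl)
          ⟨Ideal.quotientMap_injective, Ideal.quotientMap_surjective Ideal.Quotient.mk_surjective⟩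
      have h1 : (c : WithBot ℕ∞) ≤ ringKrullDim ((R ⧸ I) ⧸ s.head.asIdeal) := by
        rw [CatLib.ringKrullDim_quotient_eq_coheight s.head, ← hs]
        exact WithBot.coe_le_coe.2 (Order.length_le_coheight_head)
      rw [← ringKrullDim_eq_of_ringEquiv e, hb] at h1
      exact_mod_cast h1
    rw [hc]
    exact_mod_cast (by omega : c + j ≤ d)

/-- Serre's condition for a module over a regular local ring through codimensions of the bad loci. -/
theorem hasSk_tensor_iff_codimAt {P R : Type u} [CommRing P] [CommRing R] [IsRegularLocalRing R] [Algebra P R]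
    (M : Type u) [AddCommGroup M] [Module P M] [Module.Finite P M]
    (hreg : ∀ (𝔯 : Ideal R) [𝔯.IsPrime], IsRegularLocalRing (Localization.AtPrime 𝔯)) (m : ℕ)
    (hm : ringKrullDim R ≤ (m : WithBot ℕ∞)) (J : ℕ → Ideal P)
    (hJ : ∀ (e : ℕ) (𝔯 : Ideal R) [𝔯.IsPrime], J e ≤ 𝔯.comap (algebraMap P R) ↔
      ¬ CMAt P (Localization.AtPrime 𝔯) M ∧ ∀ e', e' < e → ¬ PdLE P (Localization.AtPrime 𝔯) M e')
    (k : ℕ) :
    TensSk P R M k ↔ ∀ e ≤ m, CodimAt R (J e) (k + e) := by
  simp only [TensSk, hasSk_tensor_iff, codimAt_iff_forall_height]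
  obtain ⟨d₀, hd₀⟩ := RegLocal.exists_nat_ringKrullDim R
  have hd₀m : d₀ ≤ m := by rw [hd₀] at hm; exact_mod_cast hm
  have key : ∀ (𝔯 : Ideal R) [𝔯.IsPrime], ∃ d : ℕ, d ≤ m ∧ 𝔯.height = d ∧
      ringKrullDim (Localization.AtPrime 𝔯) = (d : WithBot ℕ∞) := by
    intro 𝔯 _
    obtain ⟨a, ha⟩ := ENat.ne_top_iff_exists.1 (Ideal.height_ne_top (I := 𝔯) Ideal.IsPrime.ne_top')
    have h := Ideal.height_le_ringKrullDim_of_ne_top (I := 𝔯) Ideal.IsPrime.ne_top'
    rw [← ha, hd₀] at h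
    have h' : a ≤ d₀ := by exact_mod_cast h
    exact ⟨a, h'.trans hd₀m, ha.symm, by rw [IsLocalization.AtPrime.ringKrullDim_eq_height 𝔯, ← ha]; rfl⟩
  constructor
  · intro H e _ 𝔯 _ hle
    obtain ⟨hcm, hpd⟩ := (hJ e 𝔯).1 hle
    haveI := hreg 𝔯
    obtain ⟨d, hdm, hht, hd⟩ := key 𝔯
    have hnt : Nontrivial (Localization.AtPrime 𝔯 ⊗[P] M) := by
      rw [← not_subsingleton_iff_nontrivial]
      intro hsub
      refine hcm ?_
      rw [CMAt, tensSupp, Module.supportDim_eq_bot_of_subsingleton]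
      exact bot_le
    obtain ⟨s, D, hs, hD, -, hDd, -⟩ := exists_invariants (P := P) (Localization.AtPrime 𝔯) M d hd
    have h := H 𝔯
    rw [CMAt] at hcm
    rw [tensSupp, tensDepth, hs, hD] at h hcm
    have hsD : ¬ s ≤ D := fun h' => hcm (by exact_mod_cast (by omega : s ≤ D + 0))
    have hk : k ≤ D := by
      rcases le_total k s with h' | h'
      · rw [min_eq_left (by exact_mod_cast h')] at h
        exact_mod_cast h
      · rw [min_eq_right (by exact_mod_cast h')] at h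
        exact absurd (by exact_mod_cast h) hsD
    have he : e ≤ d - D := by
      by_contra hlt
      refine hpd (d - D) (by omega) ?_
      show HasProjectiveDimensionLT _ (d - D + 1)
      rw [projDimLT_iff_le_depth d hd, hD]
      exact_mod_cast (by omega : d - (d - D) ≤ D)
    rw [hht]
    exact_mod_cast (by omega : k + e ≤ d)
  · intro H 𝔯 _
    haveI := hreg 𝔯
    obtain ⟨d, hdm, hht, hd⟩ := key 𝔯
    rcases subsingleton_or_nontrivial (Localization.AtPrime 𝔯 ⊗[P] M) with h | h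
    · rw [tensSupp, Module.supportDim_eq_bot_of_subsingleton, min_eq_right bot_le]
      exact bot_le
    obtain ⟨s, D, hs, hD, -, hDd, -⟩ := exists_invariants (P := P) (Localization.AtPrime 𝔯) M d hd
    rw [tensSupp, tensDepth, hs, hD]
    by_cases hsD : s ≤ D
    · exact le_trans (min_le_right _ _) (by exact_mod_cast hsD)
    have hle : J (d - D) ≤ 𝔯.comap (algebraMap P R) := by
      refine (hJ (d - D) 𝔯).2 ⟨?_, fun e' he' hpd => ?_⟩
      · rw [CMAt, tensSupp, tensDepth, hs, hD]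
        intro h'
        have h'' : s ≤ D + 0 := by exact_mod_cast h'
        omega
      · have h' := (projDimLT_iff_le_depth d hd e').1 hpd
        rw [hD] at h'
        have h'' : d - e' ≤ D := by exact_mod_cast h'
        omega
    have h' := H (d - D) (by omega) 𝔯 hle
    rw [hht] at h'
    have h'' : k + (d - D) ≤ d := by exact_mod_cast h'
    exact le_trans (min_le_left _ _) (by exact_mod_cast (by omega : k ≤ D))

theorem regular_of_algEquiv {P R S : Type u} [CommRing P] [CommRing R] [CommRing S] [Algebra P R] [Algebra P S]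
    (E : S ≃ₐ[P] R) [IsRegularLocalRing R] : IsRegularLocalRing S :=
  IsRegularLocalRing.of_ringEquiv E.toRingEquiv.symm

theorem transfer_algEquiv {P R S : Type u} [CommRing P] [CommRing R] [CommRing S] [Algebra P R] [Algebra P S]
    (E : S ≃ₐ[P] R) [IsRegularLocalRing R] [IsLocalRing S] (M : Type u) [AddCommGroup M] [Module P M]
    [Module.Finite P M] :
    (CMAt P S M ↔ CMAt P R M) ∧ ∀ e, PdLE P S M e ↔ PdLE P R M e := by
  haveI := regular_of_algEquiv E
  obtain ⟨hdep, hsupp⟩ := tens_congr M E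
  refine ⟨by rw [CMAt, CMAt, hdep, hsupp], fun e' => ?_⟩
  obtain ⟨d', hd'⟩ := RegLocal.exists_nat_ringKrullDim R
  have hd'' : ringKrullDim S = d' := (ringKrullDim_eq_of_ringEquiv E.toRingEquiv).trans hd'
  show HasProjectiveDimensionLT _ (e' + 1) ↔ HasProjectiveDimensionLT _ (e' + 1)
  rw [projDimLT_iff_le_depth d' hd'', projDimLT_iff_le_depth d' hd']
  exact Iff.of_eq (congrArg _ hdep)

/-- The criterion with the local rings of `R` replaced by given models. -/
theorem tensSk_iff_of_models {P R : Type u} [CommRing P] [CommRing R] [IsRegularLocalRing R] [Algebra P R]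
    (M : Type u) [AddCommGroup M] [Module P M] [Module.Finite P M] (Rr : PrimeSpectrum P → Type u)
    [∀ r, CommRing (Rr r)] [∀ r, Algebra P (Rr r)] [∀ r, IsRegularLocalRing (Rr r)] (Q : PrimeSpectrum P → Prop)
    (hloc : ∀ (𝔯 : Ideal R) [𝔯.IsPrime], ∃ r : PrimeSpectrum P, r.asIdeal = 𝔯.comap (algebraMap P R) ∧ Q r ∧
      Nonempty (Localization.AtPrime 𝔯 ≃ₐ[P] Rr r))
    (m : ℕ) (hm : ringKrullDim R ≤ (m : WithBot ℕ∞)) (J : ℕ → Ideal P)
    (hJ : ∀ (e : ℕ) (r : PrimeSpectrum P), Q r → (J e ≤ r.asIdeal ↔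
      ¬ CMAt P (Rr r) M ∧ ∀ e', e' < e → ¬ PdLE P (Rr r) M e'))
    (k : ℕ) : TensSk P R M k ↔ ∀ e ≤ m, CodimAt R (J e) (k + e) := by
  refine hasSk_tensor_iff_codimAt M (fun 𝔯 _ => ?_) m hm J (fun e 𝔯 _ => ?_) k
  · obtain ⟨r, -, -, ⟨E⟩⟩ := hloc 𝔯
    exact regular_of_algEquiv E
  · obtain ⟨r, hr, hQ, ⟨E⟩⟩ := hloc 𝔯
    obtain ⟨hcm, hpd⟩ := transfer_algEquiv E M
    simp only [hcm, hpd]
    rw [← hJ e r hQ, hr]

section Points

variable {A P : Type u} [CommRing A] [CommRing P] [Algebra A P]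

theorem exists_algEquiv_fibRing_of_fiber (p : Ideal A) [p.IsPrime] (Q : PrimeSpectrum (p.Fiber P))
    (r : PrimeSpectrum P)
    (hr : Q.asIdeal.comap (Algebra.TensorProduct.includeRight : P →ₐ[A] p.Fiber P).toRingHom = r.asIdeal) :
    Nonempty (Localization.AtPrime Q.asIdeal ≃ₐ[P] FibRing A r) := by
  have hp : basePrime A r = p := by
    ext a
    show algebraMap A P a ∈ r.asIdeal ↔ a ∈ p
    rw [← hr, Ideal.mem_comap]
    show (Algebra.TensorProduct.includeRight : P →ₐ[A] p.Fiber P) (algebraMap A P a) ∈ Q.asIdeal ↔ a ∈ p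
    rw [AlgHom.commutes, IsScalarTower.algebraMap_apply A p.ResidueField (p.Fiber P)]
    constructor
    · intro h
      by_contra ha
      exact Q.isPrime.ne_top (Ideal.eq_top_of_isUnit_mem _ h
        ((Ne.isUnit (fun h0 => ha (Ideal.algebraMap_residueField_eq_zero.1 h0))).map _))
    · intro ha
      rw [Ideal.algebraMap_residueField_eq_zero.2 ha, map_zero]
      exact zero_mem _
  subst hp
  rw [point_unique r Q hr]
  exact ⟨AlgEquiv.refl⟩

theorem exists_algEquiv_fibRing (q : PrimeSpectrum P) (𝔯 : Ideal (FibRing A q)) [𝔯.IsPrime] :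
    ∃ r : PrimeSpectrum P, r.asIdeal = 𝔯.comap (algebraMap P (FibRing A q)) ∧ r.asIdeal ≤ q.asIdeal ∧
      Nonempty (Localization.AtPrime 𝔯 ≃ₐ[P] FibRing A r) := by
  let G := (basePrime A q).Fiber P
  let Q' : PrimeSpectrum G := ⟨𝔯.comap (algebraMap G (FibRing A q)), inferInstance⟩
  let r : PrimeSpectrum P := ⟨𝔯.comap (algebraMap P (FibRing A q)), inferInstance⟩
  have hQr : Q'.asIdeal.comap (Algebra.TensorProduct.includeRight : P →ₐ[A] G).toRingHom = r.asIdeal := by
    show (𝔯.comap _).comap _ = 𝔯.comap _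
    rw [Ideal.comap_comap]
    rfl
  obtain ⟨e₂⟩ := exists_algEquiv_fibRing_of_fiber (basePrime A q) Q' r hQr
  let e₁ : Localization.AtPrime Q'.asIdeal ≃ₐ[G] Localization.AtPrime 𝔯 :=
    IsLocalization.localizationLocalizationAtPrimeIsoLocalization (point A q).asIdeal.primeCompl 𝔯
  refine ⟨r, rfl, fun x hx => ?_, ⟨(e₁.restrictScalars P).symm.trans e₂⟩⟩
  by_contra hxq
  exact Ideal.IsPrime.ne_top inferInstance (Ideal.eq_top_of_isUnit_mem 𝔯 hx (isUnit_algebraMap_fibRing q x hxq))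

end Points

section Open

variable {A : Type u} [CommRing A] {m : ℕ} (M : Type u) [AddCommGroup M] [Module (MvPolynomial (Fin m) A) M]
  [Module A M] [IsScalarTower A (MvPolynomial (Fin m) A) M] [Module.FinitePresentation (MvPolynomial (Fin m) A) M]

theorem isOpen_flat_localized :
    IsOpen {q : PrimeSpectrum (MvPolynomial (Fin m) A) | Module.Flat A (LocalizedModule q.asIdeal.primeCompl M)} := by
  obtain ⟨a, K, ε, hK⟩ := Module.FinitePresentation.exists_fin (MvPolynomial (Fin m) A) M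
  convert isOpen_flatSet K hK using 1
  ext q
  exact flat_localized_congr ε q.asIdeal.primeCompl

theorem cmAt_fib_iff (r : PrimeSpectrum (MvPolynomial (Fin m) A)) :
    CMAt (MvPolynomial (Fin m) A) (FibRing A r) M ↔ ∃ e ≤ m, PdLE (MvPolynomial (Fin m) A) (FibRing A r) M e ∧
      CodimGE A (Module.annihilator (MvPolynomial (Fin m) A) M) r e := by
  rw [CMAt, fib_coprof_iff M r 0]
  simp only [Nat.sub_zero]

/-- Openness of Serre's condition on the fibres, on the flat locus. -/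
theorem exists_open_hasSk (k : ℕ) :
    ∃ W : Set (PrimeSpectrum (MvPolynomial (Fin m) A)), IsOpen W ∧ ∀ q,
      Module.Flat A (LocalizedModule q.asIdeal.primeCompl M) →
        (q ∈ W ↔ TensSk (MvPolynomial (Fin m) A) (FibRing A q) M k) := by
  let P := MvPolynomial (Fin m) A
  let Fl : Set (PrimeSpectrum P) := {q | Module.Flat A (LocalizedModule q.asIdeal.primeCompl M)}
  let U : ℕ → Set (PrimeSpectrum P) := fun e =>
    (⋃ e' ∈ {e' | e' ≤ m}, PdSet A P M e' ∩ {r | CodimGE A (Module.annihilator P M) r e'}) ∪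
      ⋃ e' ∈ {e' | e' < e}, PdSet A P M e'
  have hU : ∀ e, IsOpen (U e) := fun e =>
    (isOpen_biUnion fun e' _ => (isOpen_pdSet_mvPolynomial M e').inter (isOpen_codimGE _ _)).union
      (isOpen_biUnion fun e' _ => isOpen_pdSet_mvPolynomial M e')
  choose J hJ using fun e => (PrimeSpectrum.isClosed_iff_zeroLocus_ideal (U e)ᶜ).1 (hU e).isClosed_compl
  refine ⟨⋂ e ∈ {e | e ≤ m}, {q | CodimGE A (J e) q (k + e)},
    (Set.finite_le_nat m).isOpen_biInter fun e _ => isOpen_codimGE (J e) (k + e), fun q hq => ?_⟩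
  obtain ⟨d, t, hd, -, hdm⟩ := fibRing_dim q
  haveI := isRegularLocalRing_fibRing q
  haveI : ∀ r : PrimeSpectrum P, IsRegularLocalRing (FibRing A r) := isRegularLocalRing_fibRing
  rw [tensSk_iff_of_models (P := P) (R := FibRing A q) M (fun r => FibRing A r) (fun r => r ∈ Fl) ?_ m ?_ J ?_ k,
    Set.mem_iInter₂]
  · rfl
  · intro 𝔯 _
    obtain ⟨r, hr, hrq, hE⟩ := exists_algEquiv_fibRing q 𝔯
    exact ⟨r, hr, (isOpen_flat_localized M).stableUnderGeneralization
      ((PrimeSpectrum.le_iff_specializes r q).1 hrq) hq, hE⟩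
  · rw [hd]
    exact_mod_cast (by omega : d ≤ m)
  intro e r hflat
  rw [show J e ≤ r.asIdeal ↔ r ∈ PrimeSpectrum.zeroLocus (J e : Set P) from Iff.rfl, ← hJ e]
  rw [show CMAt P (FibRing A r) M ↔ _ from cmAt_fib_iff M r]
  simp only [U, Set.mem_compl_iff, Set.mem_union, Set.mem_iUnion₂, Set.mem_inter_iff,
    Set.mem_ofPred_eq, exists_prop, not_or, not_exists, not_and]
  constructor
  · rintro ⟨h1, h2⟩
    exact ⟨fun e' he' hp => h1 e' he' ⟨hflat, hp⟩, fun e' he' hp => h2 e' he' ⟨hflat, hp⟩⟩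
  · rintro ⟨h1, h2⟩
    exact ⟨fun e' he' hp => h1 e' he' hp.2, fun e' he' hp => h2 e' he' hp.2⟩

end Open

end Groth.Agent.FibreDepth
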