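import Groth.Agent.FibreDepth.Loci
import Groth.Agent.FibreDepth.Sk

/-!
Affine models identifying the fibre of a finitely presented module with a quotient of a module over the
fibre of affine space; openness of Serre's conditions on the fibres.
-/

set_option autoImplicit false
set_option linter.style.haveILetI false

universe u

open CategoryTheory AlgebraicGeometry IsLocalRing TensorProduct Topology

namespace Groth.Agent.FibreDepth

/-- `N'` is `R ⊗ M` seen along a surjection `R → O'`. -/
def TensIso (P : Type u) [CommRing P] (R : Type u) [CommRing R] [Algebra P R] (M : Type u) [AddCommGroup M]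
    [Module P M] (O' : Type u) [CommRing O'] (N' : Type u) [AddCommGroup N'] [Module O' N'] : Prop :=
  FibIso R (R ⊗[P] M) O' N'

theorem tensIso_aux {P R S O O' : Type u} [CommRing P] [CommRing R] [CommRing S] [CommRing O] [CommRing O']
    [Algebra P R] [Algebra P S] [Algebra S O] [Algebra O O'] (φ : S →ₐ[P] R) (hφ : Function.Surjective φ)
    (hSO : Function.Surjective (algebraMap S O)) (hOO : Function.Surjective (algebraMap O O'))
    {M Mx N' : Type u} [AddCommGroup M] [Module P M] [AddCommGroup Mx] [Module P Mx] [Module S Mx] [Module O Mx]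
    [IsScalarTower P S Mx] [IsScalarTower S O Mx] [AddCommGroup N'] [Module O N'] [Module O' N']
    [IsScalarTower O O' N'] (g : M →ₗ[P] Mx) (hg : IsBaseChange S g) (g' : Mx →ₗ[O] N') (hg' : IsBaseChange O' g')
    (hker : RingHom.ker (algebraMap O O') = (RingHom.ker φ.toRingHom).map (algebraMap S O)) :
    TensIso P R M O' N' := by
  letI : Algebra S R := φ.toRingHom.toAlgebra
  haveI : IsScalarTower P S R := .of_algebraMap_eq fun b => (φ.commutes b).symm
  obtain ⟨h, hh⟩ := exists_isBaseChange_tensor (S := S) (R := R) g hg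
  obtain ⟨e₁⟩ := exists_quot_equiv hφ h hh
  obtain ⟨e₂⟩ := exists_quot_equiv hOO g' hg'
  have hle : RingHom.ker φ.toRingHom ≤ RingHom.ker ((algebraMap O O').comp (algebraMap S O)) := fun s hs => by
    have : algebraMap S O s ∈ RingHom.ker (algebraMap O O') := by
      rw [hker]; exact Ideal.mem_map_of_mem _ hs
    exact this
  let ψ : R →+* O' := RingHom.liftOfSurjective φ.toRingHom hφ ⟨(algebraMap O O').comp (algebraMap S O), hle⟩
  have hψ : ∀ s : S, ψ (φ s) = algebraMap O O' (algebraMap S O s) :=
    RingHom.liftOfSurjective_comp_apply φ.toRingHom hφ ⟨(algebraMap O O').comp (algebraMap S O), hle⟩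
  have hsub : (RingHom.ker (algebraMap O O') • ⊤ : Submodule O Mx).restrictScalars S =
      (RingHom.ker (algebraMap S R) • ⊤ : Submodule S Mx) := by
    rw [hker]
    ext z
    rw [Submodule.restrictScalars_mem]
    exact (LocFlat.mem_smul_top_iff (R := S) (S := O) (RingHom.ker φ.toRingHom) z).symm
  let e₃ : (Mx ⧸ (RingHom.ker (algebraMap S R) • ⊤ : Submodule S Mx)) ≃ₗ[S]
      (Mx ⧸ (RingHom.ker (algebraMap O O') • ⊤ : Submodule O Mx)) :=
    (Submodule.quotEquivOfEq _ _ hsub.symm).trans (Submodule.Quotient.restrictScalarsEquiv S _)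
  refine ⟨ψ, fun z => ?_, (e₁.trans e₃).toAddEquiv.trans e₂.symm.toAddEquiv, fun r n => ?_⟩
  · obtain ⟨o, rfl⟩ := hOO z
    obtain ⟨s, rfl⟩ := hSO o
    exact ⟨φ s, hψ s⟩
  obtain ⟨s, rfl⟩ := hφ r
  show e₂.symm ((e₁.trans e₃) (φ s • n)) = ψ (φ s) • e₂.symm ((e₁.trans e₃) n)
  rw [hψ, algebraMap_smul, ← map_smul e₂.symm, algebraMap_smul, ← map_smul (e₁.trans e₃)]
  rfl

theorem tensIso_hasSk_iff {P R O' N' M : Type u} [CommRing P] [CommRing R] [Algebra P R] [CommRing O']
    [AddCommGroup N'] [Module O' N'] [AddCommGroup M] [Module P M] [Module.Finite P M]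
    (h : TensIso P R M O' N') (k : ℕ) : TensSk P R M k ↔ LocCoh.HasSk k O' N' :=
  FibIso.hasSk_iff h k

attribute [local instance] Algebra.TensorProduct.rightAlgebra

section Presentation

variable {A P B : Type u} [CommRing A] [CommRing P] [CommRing B] [Algebra A P] [Algebra A B] [Algebra P B]
  [IsScalarTower A P B] {M : Type u} [AddCommGroup M] [Module B M] [Module P M] [IsScalarTower P B M]

theorem tensIso_of_presentation (hπ : Function.Surjective (algebraMap P B)) (q : PrimeSpectrum B)
    {O O' Mx N' : Type u} [CommRing O] [IsLocalRing O] [Algebra B O] [IsLocalization.AtPrime O q.asIdeal]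
    [Algebra A O] [IsScalarTower A B O] [AddCommGroup Mx] [Module O Mx] [Module B Mx] [IsScalarTower B O Mx]
    (g : M →ₗ[B] Mx) [IsLocalizedModule q.asIdeal.primeCompl g]
    [CommRing O'] [Algebra O O'] [AddCommGroup N'] [Module O N'] [Module O' N'] [IsScalarTower O O' N']
    (hOO : Function.Surjective (algebraMap O O')) (g' : Mx →ₗ[O] N') (hg' : IsBaseChange O' g')
    (hker : RingHom.ker (algebraMap O O') = (q.asIdeal.under A).map (algebraMap A O)) :
    TensIso P (FibRing A (PrimeSpectrum.comap (algebraMap P B) q)) M O' N' := by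
  let q' := PrimeSpectrum.comap (algebraMap P B) q
  let S := Localization.AtPrime q'.asIdeal
  have hunit : ∀ y : q'.asIdeal.primeCompl, IsUnit (((algebraMap B O).comp (algebraMap P B)) y) := fun y =>
    IsLocalization.map_units O (⟨algebraMap P B y, y.2⟩ : q.asIdeal.primeCompl)
  letI : Algebra P O := ((algebraMap B O).comp (algebraMap P B)).toAlgebra
  haveI : IsScalarTower P B O := .of_algebraMap_eq fun _ => rfl
  letI : Algebra S O := (IsLocalization.lift (M := q'.asIdeal.primeCompl) (S := S) hunit).toAlgebra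
  haveI : IsScalarTower P S O := .of_algebraMap_eq fun b => (IsLocalization.lift_eq hunit b).symm
  have hsurj : Function.Surjective (algebraMap S O) := fun z => by
    obtain ⟨x, ⟨s, hs⟩, rfl⟩ := IsLocalization.exists_mk'_eq q.asIdeal.primeCompl z
    obtain ⟨x, rfl⟩ := hπ x
    obtain ⟨s, rfl⟩ := hπ s
    refine ⟨IsLocalization.mk' S x (⟨s, hs⟩ : q'.asIdeal.primeCompl), ?_⟩
    show IsLocalization.lift hunit _ = _
    rw [IsLocalization.lift_mk'_spec]
    show algebraMap B O (algebraMap P B x) = algebraMap B O (algebraMap P B s) * _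
    exact (IsLocalization.mk'_spec' O (algebraMap P B x) (⟨algebraMap P B s, hs⟩ : q.asIdeal.primeCompl)).symm
  letI : Module S Mx := Module.compHom Mx (algebraMap S O)
  haveI : IsScalarTower S O Mx := .of_algebraMap_smul fun _ _ => rfl
  letI : Module P Mx := Module.compHom Mx (algebraMap P B)
  haveI : IsScalarTower P B Mx := .of_algebraMap_smul fun _ _ => rfl
  haveI : IsScalarTower P S Mx := .of_algebraMap_smul fun b z => by
    show algebraMap S O (algebraMap P S b) • z = algebraMap P B b • z
    rw [← IsScalarTower.algebraMap_apply, IsScalarTower.algebraMap_apply P B O, algebraMap_smul]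
  haveI : IsLocalizedModule (Algebra.algebraMapSubmonoid B q'.asIdeal.primeCompl) g := by
    rw [primeCompl_eq_image hπ q]; infer_instance
  haveI : IsLocalizedModule q'.asIdeal.primeCompl (g.restrictScalars P) := IsLocalizedModule.restrictScalars _ _
  obtain ⟨φ, hφ, hkerφ⟩ := exists_surjective_fibRing (A := A) q'
  refine tensIso_aux (S := S) φ hφ hsurj hOO (g.restrictScalars P)
    (IsLocalizedModule.isBaseChange q'.asIdeal.primeCompl S (g.restrictScalars P)) g' hg' ?_
  have hp : basePrime A q' = q.asIdeal.under A := by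
    ext a
    show algebraMap P B (algebraMap A P a) ∈ q.asIdeal ↔ algebraMap A B a ∈ q.asIdeal
    rw [← IsScalarTower.algebraMap_apply]
  rw [hker, hkerφ, hp, Ideal.map_map]
  congr 1
  ext a
  refine Eq.symm ?_
  show algebraMap S O (algebraMap A S a) = _
  rw [IsScalarTower.algebraMap_apply A P S, ← IsScalarTower.algebraMap_apply P S O,
    IsScalarTower.algebraMap_apply A B O, IsScalarTower.algebraMap_apply A P B]
  rfl


end Presentation

variable {X Y : Scheme.{u}} (f : X ⟶ Y)

/-- An affine piece of `f` on which the fibre of a module is a quotient of a module over affine space. -/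
structure IsoModel (O : X → Type u) [∀ x, CommRing (O x)] (N : X → Type u) [∀ x, AddCommGroup (N x)]
    [∀ x, Module (O x) (N x)] (flatAt : X → Prop) where
  A : Type u
  [commA : CommRing A]
  B : Type u
  [commB : CommRing B]
  m : ℕ
  M : Type u
  [addM : AddCommGroup M]
  [modM : Module (MvPolynomial (Fin m) A) M]
  [modA : Module A M]
  [towerM : IsScalarTower A (MvPolynomial (Fin m) A) M]
  [fpM : Module.FinitePresentation (MvPolynomial (Fin m) A) M]
  φ : MvPolynomial (Fin m) A →+* B
  emb : PrimeSpectrum B → X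
  isOpenEmbedding : IsOpenEmbedding emb
  iso : ∀ q : PrimeSpectrum B,
    letI := Algebra.TensorProduct.rightAlgebra (R := A) (A := (basePrime A (PrimeSpectrum.comap φ q)).ResidueField)
      (B := MvPolynomial (Fin m) A)
    TensIso (MvPolynomial (Fin m) A) (FibRing A (PrimeSpectrum.comap φ q)) M (O (emb q)) (N (emb q))
  flat : ∀ q : PrimeSpectrum B, flatAt (emb q) →
    Module.Flat A (LocalizedModule (PrimeSpectrum.comap φ q).asIdeal.primeCompl M)

attribute [instance] IsoModel.commA IsoModel.commB IsoModel.addM IsoModel.modM IsoModel.modA IsoModel.towerM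
  IsoModel.fpM

/-- The ring of the fibre at `x`. -/
abbrev fibreRingAt (x : X) : Type u := (f.fiber (f.base x)).presheaf.stalk (f.asFiber x)

/-- The fibre of `F` at `x`. -/
abbrev fibreModAt (F : X.Modules) (x : X) : Type u :=
  ((Scheme.Modules.pullback (f.fiberι (f.base x))).obj F).presheaf.stalk (f.asFiber x)

theorem exists_isoModel [LocallyOfFinitePresentation f] (F : X.Modules) [Coh.IsQCoh F] (hF : CohB1.IsFP F) (x : X) :
    ∃ 𝔐 : IsoModel (fibreRingAt f) (fibreModAt f F) (FlatMod.IsFlatOverAt f F), x ∈ Set.range 𝔐.emb := by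
  obtain ⟨_, ⟨V : Y.Opens, (hV : IsAffineOpen V), rfl⟩, hxV, -⟩ :=
    Y.isBasis_affineOpens.exists_subset_of_mem_open (Set.mem_univ (f x)) isOpen_univ
  obtain ⟨_, ⟨W : X.Opens, (hW : IsAffineOpen W), rfl⟩, hxW, hWV⟩ :=
    X.isBasis_affineOpens.exists_subset_of_mem_open (a := x) (u := ↑(f ⁻¹ᵁ V)) hxV (f ⁻¹ᵁ V).2
  let A := Γ(Y, V)
  let B := Γ(X, W)
  let MW := Γ(F, W)
  have hfp := f.finitePresentation_appLE hV hW hWV
  algebraize [(f.appLE V W hWV).hom]
  letI := Module.compHom MW (f.appLE V W hWV).hom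
  haveI : IsScalarTower A B MW := .of_algebraMap_smul fun _ _ => rfl
  haveI : Module.FinitePresentation B MW := QCohLib.finitePresentation_sections F hF hW
  obtain ⟨m, π, hπ, hker⟩ := Algebra.FinitePresentation.out (R := A) (A := B)
  letI : Algebra (MvPolynomial (Fin m) A) B := π.toRingHom.toAlgebra
  haveI : IsScalarTower A (MvPolynomial (Fin m) A) B := .of_algebraMap_eq fun r => (π.commutes r).symm
  letI : Module (MvPolynomial (Fin m) A) MW := Module.compHom MW π.toRingHom
  haveI : IsScalarTower (MvPolynomial (Fin m) A) B MW := .of_algebraMap_smul fun _ _ => rfl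
  haveI : IsScalarTower A (MvPolynomial (Fin m) A) MW := .of_algebraMap_smul fun r z => by
    show π (algebraMap A (MvPolynomial (Fin m) A) r) • z = r • z
    rw [π.commutes, algebraMap_smul]
  haveI : Module.FinitePresentation (MvPolynomial (Fin m) A) B :=
    Module.finitePresentation_of_surjective (Algebra.linearMap (MvPolynomial (Fin m) A) B) hπ hker
  haveI : Module.FinitePresentation (MvPolynomial (Fin m) A) MW :=
    Module.FinitePresentation.trans (R := MvPolynomial (Fin m) A) (S := B) (M := MW)
  have hmem : ∀ q : PrimeSpectrum B, hW.fromSpec q ∈ W := fun q => by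
    rw [← SetLike.mem_coe, ← hW.range_fromSpec]
    exact ⟨q, rfl⟩
  have hprime : ∀ q : PrimeSpectrum B, hW.primeIdealOf ⟨hW.fromSpec q, hmem q⟩ = q := fun q =>
    hW.fromSpec.isOpenEmbedding.injective (hW.fromSpec_primeIdealOf _)
  have hinv : ∀ (q : PrimeSpectrum B) (y : Y) (z : f.fiber y), f.fiberι y z = hW.fromSpec q →
      letI := Algebra.TensorProduct.rightAlgebra (R := A)
        (A := (basePrime A (PrimeSpectrum.comap π.toRingHom q)).ResidueField) (B := MvPolynomial (Fin m) A)
      TensIso (MvPolynomial (Fin m) A) (FibRing A (PrimeSpectrum.comap π.toRingHom q)) MW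
        ((f.fiber y).presheaf.stalk z) (((Scheme.Modules.pullback (f.fiberι y)).obj F).presheaf.stalk z) := by
    intro q y z hz
    let x' := f.fiberι y z
    have hx' : x' ∈ W := by
      show f.fiberι y z ∈ W
      rw [hz]; exact hmem q
    have hprime' : hW.primeIdealOf ⟨x', hx'⟩ = q :=
      hW.fromSpec.isOpenEmbedding.injective ((hW.fromSpec_primeIdealOf _).trans hz)
    let O := X.presheaf.stalk x'
    letI : Algebra B O := TopCat.Presheaf.algebra_section_stalk X.presheaf ⟨x', hx'⟩
    letI : Algebra A O := ((algebraMap B O).comp (algebraMap A B)).toAlgebra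
    haveI : IsScalarTower A B O := .of_algebraMap_eq fun _ => rfl
    letI := Module.compHom (F.presheaf.stalk x') (X.presheaf.germ W x' hx').hom
    haveI : IsScalarTower B O (F.presheaf.stalk x') := .of_algebraMap_smul fun _ _ => rfl
    obtain ⟨g, hg⟩ := GenFree.exists_isLocalizedModule_germ F hW x' hx'
    rw [hprime'] at hg
    haveI := hg
    haveI : IsLocalization.AtPrime O q.asIdeal := by
      have h := hW.isLocalization_stalk ⟨x', hx'⟩
      rwa [hprime'] at h
    let O' := (f.fiber y).presheaf.stalk z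
    letI : Algebra O O' := ((f.fiberι y).stalkMap z).hom.toAlgebra
    letI := Module.compHom (((Scheme.Modules.pullback (f.fiberι y)).obj F).presheaf.stalk z)
      ((f.fiberι y).stalkMap z).hom
    haveI : IsScalarTower O O' (((Scheme.Modules.pullback (f.fiberι y)).obj F).presheaf.stalk z) :=
      .of_algebraMap_smul fun _ _ => rfl
    refine tensIso_of_presentation (A := A) (P := MvPolynomial (Fin m) A) (M := MW) (O := O)
      (Mx := F.presheaf.stalk x') hπ q g (FlatLocus.fiberι_stalkMap_surjective f y z)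
      _ (PullbackMod.isBaseChange_pullStalkL (f.fiberι y) F z) ?_
    refine (FlatLocus.ker_fiberι_stalkMap f y z).trans ?_
    have hyV : f.base x' ∈ V := hWV hx'
    letI := TopCat.Presheaf.algebra_section_stalk Y.presheaf ⟨f.base x', hyV⟩
    haveI := hV.isLocalization_stalk ⟨f.base x', hyV⟩
    have hpr : (hV.primeIdealOf ⟨f.base x', hyV⟩).asIdeal = q.asIdeal.under A := by
      rw [← congr($(IsAffineOpen.comap_primeIdealOf_appLE V hV W hW hWV hx').1), hprime']
      rfl
    show fibreIdeal f x' = _
    rw [fibreIdeal, ← IsLocalization.AtPrime.map_eq_maximalIdeal (hV.primeIdealOf ⟨f.base x', hyV⟩).asIdeal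
      (Y.presheaf.stalk (f.base x')), Ideal.map_map, hpr]
    congr 1
    ext r
    show (f.stalkMap x') (Y.presheaf.germ V (f.base x') hyV r) = X.presheaf.germ W x' hx' (f.appLE V W hWV r)
    rw [Scheme.Hom.germ_stalkMap_apply, Scheme.Hom.appLE, CommRingCat.comp_apply, X.presheaf.germ_res_apply]
  exact ⟨{
    A := A
    B := B
    m := m
    M := MW
    φ := π.toRingHom
    emb := hW.fromSpec
    isOpenEmbedding := hW.fromSpec.isOpenEmbedding
    iso := fun q => hinv q _ _ (f.fiberι_asFiber (hW.fromSpec q))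
    flat := fun q hq => by
      have h := (FlatLocus.isFlatOverAt_iff f F hV hW hWV _ (hmem q)).1 hq
      rw [hprime] at h
      let q' := PrimeSpectrum.comap π.toRingHom q
      haveI : IsLocalizedModule (Algebra.algebraMapSubmonoid B q'.asIdeal.primeCompl)
          (LocalizedModule.mkLinearMap q.asIdeal.primeCompl MW) := by
        rw [show Algebra.algebraMapSubmonoid B q'.asIdeal.primeCompl = q.asIdeal.primeCompl from
          primeCompl_eq_image (P := MvPolynomial (Fin m) A) hπ q]
        infer_instance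
      haveI : IsLocalizedModule q'.asIdeal.primeCompl
          ((LocalizedModule.mkLinearMap q.asIdeal.primeCompl MW).restrictScalars (MvPolynomial (Fin m) A)) :=
        IsLocalizedModule.restrictScalars _ _
      haveI := h
      exact Module.Flat.of_linearEquiv
        ((IsLocalizedModule.iso q'.asIdeal.primeCompl
          ((LocalizedModule.mkLinearMap q.asIdeal.primeCompl MW).restrictScalars (MvPolynomial (Fin m) A))).restrictScalars A) },
    hW.primeIdealOf ⟨x, hxW⟩, hW.fromSpec_primeIdealOf _⟩

theorem exists_isoModel_self [LocallyOfFinitePresentation f] (x : X) :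
    ∃ 𝔐 : IsoModel (fibreRingAt f) (fibreRingAt f) (fun x => (f.stalkMap x).hom.Flat), x ∈ Set.range 𝔐.emb := by
  obtain ⟨_, ⟨V : Y.Opens, (hV : IsAffineOpen V), rfl⟩, hxV, -⟩ :=
    Y.isBasis_affineOpens.exists_subset_of_mem_open (Set.mem_univ (f x)) isOpen_univ
  obtain ⟨_, ⟨W : X.Opens, (hW : IsAffineOpen W), rfl⟩, hxW, hWV⟩ :=
    X.isBasis_affineOpens.exists_subset_of_mem_open (a := x) (u := ↑(f ⁻¹ᵁ V)) hxV (f ⁻¹ᵁ V).2
  let A := Γ(Y, V)
  let B := Γ(X, W)
  have hfp := f.finitePresentation_appLE hV hW hWV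
  algebraize [(f.appLE V W hWV).hom]
  obtain ⟨m, π, hπ, hker⟩ := Algebra.FinitePresentation.out (R := A) (A := B)
  letI : Algebra (MvPolynomial (Fin m) A) B := π.toRingHom.toAlgebra
  haveI : IsScalarTower A (MvPolynomial (Fin m) A) B := .of_algebraMap_eq fun r => (π.commutes r).symm
  haveI : Module.FinitePresentation (MvPolynomial (Fin m) A) B :=
    Module.finitePresentation_of_surjective (Algebra.linearMap (MvPolynomial (Fin m) A) B) hπ hker
  have hmem : ∀ q : PrimeSpectrum B, hW.fromSpec q ∈ W := fun q => by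
    rw [← SetLike.mem_coe, ← hW.range_fromSpec]
    exact ⟨q, rfl⟩
  have hprime : ∀ q : PrimeSpectrum B, hW.primeIdealOf ⟨hW.fromSpec q, hmem q⟩ = q := fun q =>
    hW.fromSpec.isOpenEmbedding.injective (hW.fromSpec_primeIdealOf _)
  have hinv : ∀ (q : PrimeSpectrum B) (y : Y) (z : f.fiber y), f.fiberι y z = hW.fromSpec q →
      letI := Algebra.TensorProduct.rightAlgebra (R := A)
        (A := (basePrime A (PrimeSpectrum.comap π.toRingHom q)).ResidueField) (B := MvPolynomial (Fin m) A)
      TensIso (MvPolynomial (Fin m) A) (FibRing A (PrimeSpectrum.comap π.toRingHom q)) B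
        ((f.fiber y).presheaf.stalk z) ((f.fiber y).presheaf.stalk z) := by
    intro q y z hz
    let x' := f.fiberι y z
    have hx' : x' ∈ W := by
      show f.fiberι y z ∈ W
      rw [hz]; exact hmem q
    have hprime' : hW.primeIdealOf ⟨x', hx'⟩ = q :=
      hW.fromSpec.isOpenEmbedding.injective ((hW.fromSpec_primeIdealOf _).trans hz)
    let O := X.presheaf.stalk x'
    letI : Algebra B O := TopCat.Presheaf.algebra_section_stalk X.presheaf ⟨x', hx'⟩
    letI : Algebra A O := ((algebraMap B O).comp (algebraMap A B)).toAlgebra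
    haveI : IsScalarTower A B O := .of_algebraMap_eq fun _ => rfl
    haveI : IsLocalization.AtPrime O q.asIdeal := by
      have h := hW.isLocalization_stalk ⟨x', hx'⟩
      rwa [hprime'] at h
    haveI : IsLocalizedModule q.asIdeal.primeCompl (Algebra.linearMap B O) :=
      isLocalizedModule_iff_isLocalization.mpr (by simpa using (inferInstance : IsLocalization.AtPrime O q.asIdeal))
    let O' := (f.fiber y).presheaf.stalk z
    letI : Algebra O O' := ((f.fiberι y).stalkMap z).hom.toAlgebra
    refine tensIso_of_presentation (A := A) (P := MvPolynomial (Fin m) A) (M := B) (O := O)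
      (Mx := O) hπ q (Algebra.linearMap B O) (FlatLocus.fiberι_stalkMap_surjective f y z)
      (Algebra.linearMap O O') (IsBaseChange.linearMap O O') ?_
    refine (FlatLocus.ker_fiberι_stalkMap f y z).trans ?_
    have hyV : f.base x' ∈ V := hWV hx'
    letI := TopCat.Presheaf.algebra_section_stalk Y.presheaf ⟨f.base x', hyV⟩
    haveI := hV.isLocalization_stalk ⟨f.base x', hyV⟩
    have hpr : (hV.primeIdealOf ⟨f.base x', hyV⟩).asIdeal = q.asIdeal.under A := by
      rw [← congr($(IsAffineOpen.comap_primeIdealOf_appLE V hV W hW hWV hx').1), hprime']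
      rfl
    show fibreIdeal f x' = _
    rw [fibreIdeal, ← IsLocalization.AtPrime.map_eq_maximalIdeal (hV.primeIdealOf ⟨f.base x', hyV⟩).asIdeal
      (Y.presheaf.stalk (f.base x')), Ideal.map_map, hpr]
    congr 1
    ext r
    show (f.stalkMap x') (Y.presheaf.germ V (f.base x') hyV r) = X.presheaf.germ W x' hx' (f.appLE V W hWV r)
    rw [Scheme.Hom.germ_stalkMap_apply, Scheme.Hom.appLE, CommRingCat.comp_apply, X.presheaf.germ_res_apply]
  exact ⟨{
    A := A
    B := B
    m := m
    M := B
    φ := π.toRingHom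
    emb := hW.fromSpec
    isOpenEmbedding := hW.fromSpec.isOpenEmbedding
    iso := fun q => hinv q _ _ (f.fiberι_asFiber (hW.fromSpec q))
    flat := fun q hq => by
      have hq' : (f.stalkMap (hW.fromSpec q)).hom.Flat := hq
      have h := (flat_stalkMap_iff f hV hW hWV _ (hmem q)).1 hq'
      rw [hprime] at h
      exact flat_localized_of_surjective (A := A) (P := MvPolynomial (Fin m) A) hπ q h },
    hW.primeIdealOf ⟨x, hxW⟩, hW.fromSpec_primeIdealOf _⟩

variable {f}

namespace IsoModel

variable {O : X → Type u} [∀ x, CommRing (O x)] {N : X → Type u} [∀ x, AddCommGroup (N x)]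
  [∀ x, Module (O x) (N x)] {flatAt : X → Prop} (𝔐 : IsoModel O N flatAt)

theorem exists_open_hasSk (k : ℕ) : ∃ U : Set (PrimeSpectrum 𝔐.B), IsOpen U ∧
    ∀ q, flatAt (𝔐.emb q) → (q ∈ U ↔ LocCoh.HasSk k (O (𝔐.emb q)) (N (𝔐.emb q))) := by
  obtain ⟨W, hW, h⟩ := FibreDepth.exists_open_hasSk (A := 𝔐.A) (m := 𝔐.m) 𝔐.M k
  refine ⟨PrimeSpectrum.comap 𝔐.φ ⁻¹' W, hW.preimage (PrimeSpectrum.continuous_comap _), fun q hq => ?_⟩
  rw [Set.mem_preimage, h _ (𝔐.flat q hq)]
  exact tensIso_hasSk_iff (𝔐.iso q) k

end IsoModel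

/-- The points of the flat locus with fibres satisfying Serre's condition form an open set. -/
theorem isOpen_hasSk {O : X → Type u} [∀ x, CommRing (O x)] {N : X → Type u} [∀ x, AddCommGroup (N x)]
    [∀ x, Module (O x) (N x)] {flatAt : X → Prop}
    (hcov : ∀ x, ∃ 𝔐 : IsoModel O N flatAt, x ∈ Set.range 𝔐.emb) (ho : IsOpen {x | flatAt x}) (k : ℕ) :
    IsOpen {x : X | flatAt x ∧ LocCoh.HasSk k (O x) (N x)} := by
  refine isOpen_iff_forall_mem_open.2 fun x ⟨hx, hk⟩ => ?_
  obtain ⟨𝔐, q, rfl⟩ := hcov x
  obtain ⟨U, hU, h⟩ := 𝔐.exists_open_hasSk k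
  refine ⟨𝔐.emb '' (U ∩ 𝔐.emb ⁻¹' {x | flatAt x}), ?_,
    𝔐.isOpenEmbedding.isOpenMap _ (hU.inter (ho.preimage 𝔐.isOpenEmbedding.continuous)),
    q, ⟨(h q hx).2 hk, hx⟩, rfl⟩
  rintro _ ⟨q', ⟨hq', hf⟩, rfl⟩
  exact ⟨hf, (h q' hf).1 hq'⟩

end Groth.Agent.FibreDepth
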