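import Groth.Agent.FibreDepth.Constr
import Groth.Agent.FibreDepth.IsoModel

/-!
Local constructibility of the loci defined by depth and Serre's conditions on the fibres of a morphism.
-/

set_option autoImplicit false
set_option linter.style.haveILetI false

universe u

open CategoryTheory AlgebraicGeometry IsLocalRing TensorProduct Topology

namespace Groth.Agent.FibreDepth

theorem isLocallyConstructible_of_embeddings {X : Type u} [TopologicalSpace X] (s : Set X)
    (h : ∀ x : X, ∃ (B : Type u) (_ : CommRing B) (emb : PrimeSpectrum B → X),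
      IsOpenEmbedding emb ∧ x ∈ Set.range emb ∧ IsConstructible (emb ⁻¹' s)) :
    IsLocallyConstructible s := by
  intro x
  obtain ⟨B, _, emb, ho, hx, hc⟩ := h x
  refine ⟨Set.range emb, ho.isOpen_range.mem_nhds hx, ho.isOpen_range, ?_⟩
  let e := ho.toIsEmbedding.toHomeomorph
  have hset : e ⁻¹' ((Subtype.val : ↥(Set.range emb) → X) ⁻¹' s) = emb ⁻¹' s := rfl
  have h := hc.preimage_of_isOpenEmbedding e.symm.isOpenEmbedding
  rw [← hset, ← Set.preimage_comp] at h
  rwa [e.self_comp_symm, Set.preimage_id] at h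

theorem tensSupp_le {P : Type u} [CommRing P] (R : Type u) [CommRing R] [Algebra P R] (M : Type u) [AddCommGroup M]
    [Module P M] : tensSupp P R M ≤ ringKrullDim R :=
  Module.supportDim_le_ringKrullDim R (R ⊗[P] M)

variable {X Y : Scheme.{u}} {f : X ⟶ Y}

namespace Model

variable {dep : X → ℕ∞} {supp : X → WithBot ℕ∞} {flatAt : X → Prop} (𝔐 : Model f dep supp flatAt)

attribute [local instance] Algebra.TensorProduct.rightAlgebra

theorem codimGE_annihilator_iff (r : PrimeSpectrum (MvPolynomial (Fin 𝔐.m) 𝔐.A)) (j : ℕ) :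
    CodimGE 𝔐.A (Module.annihilator (MvPolynomial (Fin 𝔐.m) 𝔐.A) 𝔐.M) r j ↔
      CodimSupp (MvPolynomial (Fin 𝔐.m) 𝔐.A) (FibRing 𝔐.A r) 𝔐.M j :=
  codimAt_annihilator_iff (FibRing 𝔐.A r) 𝔐.M j

theorem isConstructible_codim (j : ℕ) :
    IsConstructible {q : PrimeSpectrum 𝔐.B |
      CodimGE 𝔐.A (Module.annihilator (MvPolynomial (Fin 𝔐.m) 𝔐.A) 𝔐.M) (𝔐.pt q) j} := by
  simp only [codimGE_annihilator_iff]
  exact CMFlatLib.isConstructible_comap 𝔐.φ (isConstructible_codimSupp 𝔐.M j)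

theorem isConstructible_pdLE (e : ℕ) :
    IsConstructible {q : PrimeSpectrum 𝔐.B |
      PdLE (MvPolynomial (Fin 𝔐.m) 𝔐.A) (FibRing 𝔐.A (𝔐.pt q)) 𝔐.M e} :=
  CMFlatLib.isConstructible_comap 𝔐.φ (isConstructible_pd 𝔐.M e)

theorem isConstructible_depth_add_dim (n : ℕ) :
    IsConstructible {q : PrimeSpectrum 𝔐.B | (n : WithBot ℕ∞) ≤ ((dep (𝔐.emb q) : ℕ∞) : WithBot ℕ∞) +
      topologicalKrullDim ↥(closure ({f.asFiber (𝔐.emb q)} : Set ↥(f.fiber (f.base (𝔐.emb q)))))} := by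
  simp only [depth_add_dim_iff]
  by_cases hn : n ≤ 𝔐.m
  · simp only [hn, true_and, Set.ofPred_or]
    exact (𝔐.isConstructible_pdLE _).union (𝔐.isConstructible_codim _)
  · simp only [hn, false_and, false_or]
    exact 𝔐.isConstructible_codim _

theorem isConstructible_depth_add_dim_eq (n : ℕ∞) :
    IsConstructible {q : PrimeSpectrum 𝔐.B | ((dep (𝔐.emb q) : ℕ∞) : WithBot ℕ∞) +
      topologicalKrullDim ↥(closure ({f.asFiber (𝔐.emb q)} : Set ↥(f.fiber (f.base (𝔐.emb q))))) =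
        (n : WithBot ℕ∞)} := by
  have key : ∀ q : PrimeSpectrum 𝔐.B, ∃ c : ℕ∞, ((dep (𝔐.emb q) : ℕ∞) : WithBot ℕ∞) +
      topologicalKrullDim ↥(closure ({f.asFiber (𝔐.emb q)} : Set ↥(f.fiber (f.base (𝔐.emb q))))) =
        (c : WithBot ℕ∞) ∧ (c = ⊤ ↔ ((𝔐.m + 1 : ℕ) : ℕ∞) ≤ c) := by
    intro q
    obtain ⟨t, ht, -⟩ := 𝔐.dim_eq q
    refine ⟨dep (𝔐.emb q) + t, by rw [ht]; rfl, fun h => h ▸ le_top, fun h => ?_⟩
    refine ENat.eq_top_iff_forall_ge.2 fun l => ?_
    have h1 := (𝔐.depth_add_dim_iff q (𝔐.m + 1)).1 (by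
      rw [ht]
      exact_mod_cast h)
    rcases h1 with ⟨h1, -⟩ | h1
    · omega
    have h2 := (𝔐.depth_add_dim_iff q l).2 (Or.inr h1)
    rw [ht] at h2
    exact_mod_cast h2
  induction n using ENat.recTopCoe with
  | top =>
    convert 𝔐.isConstructible_depth_add_dim (𝔐.m + 1) using 1
    ext q
    obtain ⟨c, hc, hiff⟩ := key q
    simp only [Set.mem_ofPred_eq, hc, WithBot.coe_inj]
    rw [hiff]
    exact (WithBot.coe_le_coe).symm
  | coe n =>
    convert (𝔐.isConstructible_depth_add_dim n).sdiff (𝔐.isConstructible_depth_add_dim (n + 1)) using 1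
    ext q
    obtain ⟨c, hc, -⟩ := key q
    simp only [Set.mem_ofPred_eq, Set.mem_sdiff, hc, WithBot.coe_inj]
    induction c using ENat.recTopCoe with
    | top => simp
    | coe c =>
      constructor
      · intro h
        obtain rfl : c = n := by exact_mod_cast h
        exact ⟨le_rfl, by intro h'; have : c + 1 ≤ c := by exact_mod_cast h'
                          omega⟩
      · rintro ⟨h1, h2⟩
        have h1' : n ≤ c := by exact_mod_cast h1
        have h2' : ¬ n + 1 ≤ c := fun h => h2 (by exact_mod_cast h)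
        exact_mod_cast (by omega : c = n)

theorem isConstructible_coprof (k : ℕ) :
    IsConstructible {q : PrimeSpectrum 𝔐.B | supp (𝔐.emb q) ≤ ((dep (𝔐.emb q) : ℕ∞) : WithBot ℕ∞) + k} := by
  simp only [coprof_iff]
  convert IsConstructible.biUnion (t := {e : ℕ | e ≤ 𝔐.m}) (Set.finite_le_nat _) fun e _ =>
    (𝔐.isConstructible_pdLE e).inter (𝔐.isConstructible_codim (e - k)) using 1
  ext q
  simp only [Set.mem_ofPred_eq, Set.mem_iUnion₂, Set.mem_inter_iff, exists_prop]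

theorem exists_data (q : PrimeSpectrum 𝔐.B) (h : supp (𝔐.emb q) ≠ ⊥) :
    ∃ s D : ℕ, supp (𝔐.emb q) = (s : WithBot ℕ∞) ∧ dep (𝔐.emb q) = (D : ℕ∞) ∧ D ≤ s := by
  obtain ⟨d, t, hd, -, -⟩ := fibRing_dim (A := 𝔐.A) (𝔐.pt q)
  have hle : supp (𝔐.emb q) ≤ (d : WithBot ℕ∞) := by
    rw [𝔐.supp_eq q, ← hd]
    exact tensSupp_le _ 𝔐.M
  have hD := 𝔐.dep_le_supp q h
  obtain ⟨s, hs⟩ := WithBot.ne_bot_iff_exists.1 h
  rw [← hs] at hle hD
  obtain ⟨s, rfl⟩ := ENat.ne_top_iff_exists.1 (ne_top_of_le_ne_top (ENat.natCast_ne_top d) (WithBot.coe_le_coe.1 hle))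
  obtain ⟨D, hD'⟩ := ENat.ne_top_iff_exists.1 (ne_top_of_le_ne_top (ENat.natCast_ne_top s) (WithBot.coe_le_coe.1 hD))
  rw [← hD'] at hD
  exact ⟨s, D, hs.symm, hD'.symm, by exact_mod_cast hD⟩

theorem isConstructible_coprof_eq (hne : ∀ x, supp x ≠ ⊥) (k : ℕ) :
    IsConstructible {q : PrimeSpectrum 𝔐.B | supp (𝔐.emb q) = ((dep (𝔐.emb q) : ℕ∞) : WithBot ℕ∞) + k} := by
  rcases k with _ | k
  · convert 𝔐.isConstructible_coprof 0 using 1
    ext q
    obtain ⟨s, D, hs, hD, hDs⟩ := 𝔐.exists_data q (hne _)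
    simp only [Set.mem_ofPred_eq, hs, hD]
    refine ⟨fun h => h.le, fun h => ?_⟩
    have : s ≤ D + 0 := by exact_mod_cast h
    exact_mod_cast (by omega : s = D + 0)
  · convert (𝔐.isConstructible_coprof (k + 1)).sdiff (𝔐.isConstructible_coprof k) using 1
    ext q
    obtain ⟨s, D, hs, hD, hDs⟩ := 𝔐.exists_data q (hne _)
    simp only [Set.mem_ofPred_eq, Set.mem_sdiff, hs, hD]
    constructor
    · intro h
      refine ⟨h.le, fun h' => ?_⟩
      have h1 : s = D + (k + 1) := by exact_mod_cast h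
      have h2 : s ≤ D + k := by exact_mod_cast h'
      omega
    · rintro ⟨h1, h2⟩
      have h1' : s ≤ D + (k + 1) := by exact_mod_cast h1
      have h2' : ¬ s ≤ D + k := fun h => h2 (by exact_mod_cast h)
      exact_mod_cast (by omega : s = D + (k + 1))

end Model

namespace IsoModel

attribute [local instance] Algebra.TensorProduct.rightAlgebra

variable {O : X → Type u} [∀ x, CommRing (O x)] {N : X → Type u} [∀ x, AddCommGroup (N x)]
  [∀ x, Module (O x) (N x)] {flatAt : X → Prop} (𝔐 : IsoModel O N flatAt)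

theorem isConstructible_hasSk (k : ℕ) :
    IsConstructible {q : PrimeSpectrum 𝔐.B | LocCoh.HasSk k (O (𝔐.emb q)) (N (𝔐.emb q))} := by
  convert CMFlatLib.isConstructible_comap 𝔐.φ (isConstructible_tensSk (A := 𝔐.A) (m := 𝔐.m) 𝔐.M k) using 1
  ext q
  exact (tensIso_hasSk_iff (𝔐.iso q) k).symm

end IsoModel

end Groth.Agent.FibreDepth
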