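import Groth.Agent.FibreDepth.Loci
import Groth.Agent.DimFormulaLib.Scheme
import Groth.Agent.CMFlatLib.Locus

/-!
Upper semicontinuity of the dimension of fibres.
-/

set_option autoImplicit false

universe u

open CategoryTheory AlgebraicGeometry Topology

namespace Groth.Agent.FibreDepth

variable {X Y : Scheme.{u}} (f : X ⟶ Y) [LocallyOfFiniteType f]

theorem isOpen_fibreDimAt_le_nat (n : ℕ) : IsOpen {x : X | FlatMor.fibreDimAt f x ≤ (n : WithBot ℕ∞)} := by
  refine isOpen_iff_forall_mem_open.2 fun x hx => ?_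
  obtain ⟨c⟩ := DimFormulaLib.exists_chart f x
  have key : ∀ P : PrimeSpectrum c.B, FlatMor.fibreDimAt f (c.j P) =
      FlatMor.localDim (PrimeSpectrum ((basePrime c.A P).Fiber c.B)) (point c.A P) := fun P => (c.move P).fibreDimAt_eq
  refine ⟨c.j '' {P : PrimeSpectrum c.B |
      FlatMor.localDim (PrimeSpectrum ((basePrime c.A P).Fiber c.B)) (point c.A P) ≤ (n : WithBot ℕ∞)},
    ?_, c.j.isOpenEmbedding.isOpenMap _ (isOpen_localDim_le n), c.q, ?_, c.hq⟩
  · rintro _ ⟨P, hP, rfl⟩
    exact (key P).trans_le hP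
  · exact (key c.q).symm.trans_le (show FlatMor.fibreDimAt f (c.j c.q) ≤ (n : WithBot ℕ∞) by rw [c.hq]; exact hx)

theorem isOpen_fibreDimAt_le (c : WithBot ℕ∞) : IsOpen {x : X | FlatMor.fibreDimAt f x ≤ c} := by
  induction c using WithBot.recBotCoe with
  | bot =>
    convert isOpen_empty
    refine Set.eq_empty_of_forall_notMem fun x hx => ?_
    rw [Set.mem_ofPred_eq] at hx
    obtain ⟨n, hn⟩ := CMFlatLib.exists_nat_fibreDimAt f x
    rw [hn] at hx
    exact WithBot.coe_ne_bot (le_bot_iff.1 hx)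
  | coe c =>
    induction c using ENat.recTopCoe with
    | top => convert isOpen_univ; exact Set.eq_univ_of_forall fun x => Set.mem_ofPred_eq ▸ WithBot.coe_top (α := ℕ∞) ▸ le_top
    | coe n => exact isOpen_fibreDimAt_le_nat f n

omit [LocallyOfFiniteType f] in
theorem fibre_dim_le_iff (y : Y) (c : WithBot ℕ∞) :
    topologicalKrullDim ↥(f.fiber y) ≤ c ↔ ∀ z : ↥(f.fiber y), FlatMor.localDim ↥(f.fiber y) z ≤ c := by
  rw [DimFormulaLib.topologicalKrullDim_eq_iSup_localDim, iSup_le_iff]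

theorem isOpen_fibre_dim_le (hf : IsClosedMap f.base) (c : WithBot ℕ∞) :
    IsOpen {y : Y | topologicalKrullDim ↥(f.fiber y) ≤ c} := by
  rw [show {y : Y | topologicalKrullDim ↥(f.fiber y) ≤ c} = (f.base '' {x : X | FlatMor.fibreDimAt f x ≤ c}ᶜ)ᶜ from ?_]
  · exact (hf _ (isOpen_fibreDimAt_le f c).isClosed_compl).isOpen_compl
  ext y
  rw [Set.mem_ofPred_eq, fibre_dim_le_iff, Set.mem_compl_iff]
  constructor
  · rintro h ⟨x, hx, rfl⟩
    exact hx (h (f.asFiber x))
  · intro h z
    by_contra hne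
    have hy : f (f.fiberι y z) = y := by
      have : f.fiberι y z ∈ f ⁻¹' {y} := by rw [← f.range_fiberι y]; exact ⟨z, rfl⟩
      exact this
    refine h ⟨f.fiberι y z, fun hle => hne ?_, hy⟩
    clear h hne
    generalize hx : f.fiberι y z = x at hy hle
    subst hy
    rwa [← show f.asFiber x = z from (f.fiberι (f x)).isEmbedding.injective
      ((f.fiberι_asFiber x).trans hx.symm)]

end Groth.Agent.FibreDepth
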