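import Groth.Agent.FibreDepth.Scheme

/-!
Openness of the loci defined by the depth of the fibres of a flat module.
-/

set_option autoImplicit false
set_option linter.style.haveILetI false

universe u

open CategoryTheory AlgebraicGeometry IsLocalRing TensorProduct Topology

namespace Groth.Agent.FibreDepth

attribute [local instance] Algebra.TensorProduct.rightAlgebra

theorem depth_le_supp {P R : Type u} [CommRing P] [CommRing R] [IsLocalRing R] [IsNoetherianRing R] [Algebra P R]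
    (M : Type u) [AddCommGroup M] [Module P M] [Module.Finite P M] (h : tensSupp P R M ≠ ⊥) :
    ((tensDepth P R M : ℕ∞) : WithBot ℕ∞) ≤ tensSupp P R M := by
  haveI : Nontrivial (R ⊗[P] M) := Module.supportDim_ne_bot_iff_nontrivial R _ |>.1 h
  exact QGorLib.depth_le_supportDim (R := R) (R ⊗[P] M)

variable {X Y : Scheme.{u}} {f : X ⟶ Y} {dep : X → ℕ∞} {supp : X → WithBot ℕ∞} {flatAt : X → Prop}

namespace Model

variable (𝔐 : Model f dep supp flatAt)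

/-- The point of affine space under `q`. -/
noncomputable abbrev pt (q : PrimeSpectrum 𝔐.B) : PrimeSpectrum (MvPolynomial (Fin 𝔐.m) 𝔐.A) :=
  PrimeSpectrum.comap 𝔐.φ q

theorem depth_add_dim_iff (q : PrimeSpectrum 𝔐.B) (n : ℕ) :
    (n : WithBot ℕ∞) ≤ ((dep (𝔐.emb q) : ℕ∞) : WithBot ℕ∞) +
        topologicalKrullDim ↥(closure ({f.asFiber (𝔐.emb q)} : Set ↥(f.fiber (f.base (𝔐.emb q))))) ↔
      (n ≤ 𝔐.m ∧ PdLE (MvPolynomial (Fin 𝔐.m) 𝔐.A) (FibRing 𝔐.A (𝔐.pt q)) 𝔐.M (𝔐.m - n)) ∨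
        CodimGE 𝔐.A (Module.annihilator (MvPolynomial (Fin 𝔐.m) 𝔐.A) 𝔐.M) (𝔐.pt q) (𝔐.m + 1) := by
  obtain ⟨t, ht, htr⟩ := 𝔐.dim_eq q
  rw [ht, 𝔐.depth_eq q, ← fib_depth_add_iff 𝔐.M (𝔐.pt q) t htr n]
  rw [show (t : WithBot ℕ∞) = ((t : ℕ∞) : WithBot ℕ∞) from rfl,
    show (n : WithBot ℕ∞) = ((n : ℕ∞) : WithBot ℕ∞) from rfl, ← WithBot.coe_add, WithBot.coe_le_coe]

theorem coprof_iff (q : PrimeSpectrum 𝔐.B) (k : ℕ) :
    supp (𝔐.emb q) ≤ ((dep (𝔐.emb q) : ℕ∞) : WithBot ℕ∞) + k ↔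
      ∃ e ≤ 𝔐.m, PdLE (MvPolynomial (Fin 𝔐.m) 𝔐.A) (FibRing 𝔐.A (𝔐.pt q)) 𝔐.M e ∧
        CodimGE 𝔐.A (Module.annihilator (MvPolynomial (Fin 𝔐.m) 𝔐.A) 𝔐.M) (𝔐.pt q) (e - k) := by
  rw [𝔐.supp_eq q, 𝔐.depth_eq q]
  exact fib_coprof_iff 𝔐.M (𝔐.pt q) k

theorem dep_le_supp (q : PrimeSpectrum 𝔐.B) (h : supp (𝔐.emb q) ≠ ⊥) :
    ((dep (𝔐.emb q) : ℕ∞) : WithBot ℕ∞) ≤ supp (𝔐.emb q) := by
  rw [𝔐.supp_eq q] at h ⊢
  rw [𝔐.depth_eq q]
  exact depth_le_supp 𝔐.M h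

theorem isOpen_codim (j : ℕ) :
    IsOpen {q : PrimeSpectrum 𝔐.B |
      CodimGE 𝔐.A (Module.annihilator (MvPolynomial (Fin 𝔐.m) 𝔐.A) 𝔐.M) (𝔐.pt q) j} :=
  (isOpen_codimGE (Module.annihilator (MvPolynomial (Fin 𝔐.m) 𝔐.A) 𝔐.M) j).preimage
    (PrimeSpectrum.continuous_comap 𝔐.φ)

theorem exists_nhd_pdLE (ho : IsOpen {x | flatAt x}) (e : ℕ) (q : PrimeSpectrum 𝔐.B) (hq : flatAt (𝔐.emb q))
    (h : PdLE (MvPolynomial (Fin 𝔐.m) 𝔐.A) (FibRing 𝔐.A (𝔐.pt q)) 𝔐.M e) :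
    ∃ U : Set (PrimeSpectrum 𝔐.B), IsOpen U ∧ q ∈ U ∧ ∀ q' ∈ U, flatAt (𝔐.emb q') ∧
      PdLE (MvPolynomial (Fin 𝔐.m) 𝔐.A) (FibRing 𝔐.A (𝔐.pt q')) 𝔐.M e :=
  ⟨𝔐.emb ⁻¹' {x | flatAt x} ∩ PrimeSpectrum.comap 𝔐.φ ⁻¹' PdSet 𝔐.A (MvPolynomial (Fin 𝔐.m) 𝔐.A) 𝔐.M e,
    (ho.preimage 𝔐.isOpenEmbedding.continuous).inter
      ((isOpen_pdSet_mvPolynomial 𝔐.M e).preimage (PrimeSpectrum.continuous_comap _)),
    ⟨hq, 𝔐.flat q hq, h⟩, fun _ hq' => ⟨hq'.1, hq'.2.2⟩⟩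

end Model

theorem isOpen_of_models (hcov : ∀ x, ∃ 𝔐 : Model f dep supp flatAt, x ∈ Set.range 𝔐.emb) (s : Set X)
    (h : ∀ 𝔐 : Model f dep supp flatAt, IsOpen (𝔐.emb ⁻¹' s)) : IsOpen s := by
  refine isOpen_iff_forall_mem_open.2 fun x hx => ?_
  obtain ⟨𝔐, q, hq⟩ := hcov x
  exact ⟨𝔐.emb '' (𝔐.emb ⁻¹' s), Set.image_preimage_subset _ _, 𝔐.isOpenEmbedding.isOpenMap _ (h 𝔐),
    q, show 𝔐.emb q ∈ s by rw [hq]; exact hx, hq⟩

/-- The rectified depth of the fibres is lower semicontinuous on the flat locus. -/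
theorem isOpen_depth_add_dim (hcov : ∀ x, ∃ 𝔐 : Model f dep supp flatAt, x ∈ Set.range 𝔐.emb)
    (ho : IsOpen {x | flatAt x}) (n : ℕ) :
    IsOpen {x : X | flatAt x ∧ (n : WithBot ℕ∞) ≤ ((dep x : ℕ∞) : WithBot ℕ∞) +
      topologicalKrullDim ↥(closure ({f.asFiber x} : Set ↥(f.fiber (f.base x))))} := by
  refine isOpen_of_models hcov _ fun 𝔐 => ?_
  simp only [Set.preimage_ofPred_eq, 𝔐.depth_add_dim_iff]
  refine isOpen_iff_forall_mem_open.2 fun q ⟨hq, h⟩ => ?_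
  rcases h with ⟨hn, hpd⟩ | hc
  · obtain ⟨U, hU, hqU, hsub⟩ := 𝔐.exists_nhd_pdLE ho _ q hq hpd
    exact ⟨U, fun q' hq' => ⟨(hsub q' hq').1, Or.inl ⟨hn, (hsub q' hq').2⟩⟩, hU, hqU⟩
  · exact ⟨_, fun q' hq' => ⟨hq'.1, Or.inr hq'.2⟩,
      (ho.preimage 𝔐.isOpenEmbedding.continuous).inter (𝔐.isOpen_codim _), hq, hc⟩

/-- The codepth of the fibres is upper semicontinuous on the flat locus. -/
theorem isOpen_coprof (hcov : ∀ x, ∃ 𝔐 : Model f dep supp flatAt, x ∈ Set.range 𝔐.emb)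
    (ho : IsOpen {x | flatAt x}) (k : ℕ) :
    IsOpen {x : X | flatAt x ∧ supp x ≤ ((dep x : ℕ∞) : WithBot ℕ∞) + k} := by
  refine isOpen_of_models hcov _ fun 𝔐 => ?_
  simp only [Set.preimage_ofPred_eq, 𝔐.coprof_iff, exists_prop]
  refine isOpen_iff_forall_mem_open.2 fun q ⟨hq, e, he, h1, h2⟩ => ?_
  obtain ⟨U, hU, hqU, hsub⟩ := 𝔐.exists_nhd_pdLE ho e q hq h1
  exact ⟨_, fun q' hq' => ⟨(hsub q' hq'.1).1, e, he, (hsub q' hq'.1).2, hq'.2⟩,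
    hU.inter (𝔐.isOpen_codim (e - k)), hqU, h2⟩

section Modules

variable (f) (F : X.Modules)

theorem isQCoh_of_isFP (hF : CohB1.IsFP F) : Coh.IsQCoh F :=
  haveI : SheafOfModules.IsFinitePresentation.{u} F := hF
  inferInstance

theorem cm_iff_coprof [LocallyOfFinitePresentation f] [Coh.IsQCoh F] (hF : CohB1.IsFP F) (x : X) :
    (Subsingleton (((Scheme.Modules.pullback (f.fiberι (f.base x))).obj F).presheaf.stalk (f.asFiber x)) ∨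
      LocCoh.IsCohenMacaulayModule ((f.fiber (f.base x)).presheaf.stalk (f.asFiber x))
        (((Scheme.Modules.pullback (f.fiberι (f.base x))).obj F).presheaf.stalk (f.asFiber x))) ↔
    fiberSupp f F x ≤ ((CInt.fiberDepth f F x : ℕ∞) : WithBot ℕ∞) + (0 : ℕ) := by
  rw [Nat.cast_zero, add_zero]
  constructor
  · rintro (h | h)
    · rw [fiberSupp, Module.supportDim_eq_bot_of_subsingleton]; exact bot_le
    · exact h.le
  · intro h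
    rw [← Module.supportDim_eq_bot_iff_subsingleton ((f.fiber (f.base x)).presheaf.stalk (f.asFiber x))]
    obtain ⟨𝔐, q, rfl⟩ := exists_model f F hF x
    exact or_iff_not_imp_left.2 fun hne => le_antisymm h (𝔐.dep_le_supp q hne)

theorem isOpen_flatAt [LocallyOfFinitePresentation f] [Coh.IsQCoh F] (hF : CohB1.IsFP F) :
    IsOpen {x | FlatMod.IsFlatOverAt f F x} :=
  FlatLocus.isOpen_isFlatOverAt f F hF

end Modules

theorem isOpen_forall_fiber [IsProper f] (s : Set X) (hs : IsOpen s) (Q : ∀ (y : Y), ↥(f.fiber y) → Prop)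
    (hQ : ∀ x : X, x ∈ s ↔ Q (f.base x) (f.asFiber x)) : IsOpen {y : Y | ∀ z : ↥(f.fiber y), Q y z} := by
  have key : ∀ (y : Y) (z : f.fiber y), f.fiberι y z ∈ s ↔ Q y z := by
    intro y z
    have hy : f (f.fiberι y z) = y := by
      have : f.fiberι y z ∈ f ⁻¹' {y} := by rw [← f.range_fiberι y]; exact ⟨z, rfl⟩
      exact this
    generalize hx : f.fiberι y z = x at hy
    subst hy
    rw [hQ x, show f.asFiber x = z from (f.fiberι (f x)).isEmbedding.injective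
      ((f.fiberι_asFiber x).trans hx.symm)]
  rw [show {y : Y | ∀ z : ↥(f.fiber y), Q y z} = (f.base '' sᶜ)ᶜ from ?_]
  · exact ((f.isClosedMap) _ hs.isClosed_compl).isOpen_compl
  ext y
  constructor
  · rintro h ⟨x, hx, rfl⟩
    exact hx ((hQ x).2 (h (f.asFiber x)))
  · intro h z
    rw [← key]
    by_contra hne
    refine h ⟨f.fiberι y z, hne, ?_⟩
    have : f.fiberι y z ∈ f ⁻¹' {y} := by rw [← f.range_fiberι y]; exact ⟨z, rfl⟩
    exact this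

end Groth.Agent.FibreDepth
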