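import Groth.Agent.FibreDepth.AssFibres
import Groth.Agent.FibreDepth.Loci
import Groth.Agent.S5752
import Groth.Prelude.Def_FDesc

/-!
Associated points and irreducible components of the supports of the fibres of a flat module on a scheme.
-/

set_option autoImplicit false
set_option linter.style.haveILetI false

universe u

open CategoryTheory AlgebraicGeometry IsLocalRing TensorProduct Topology

namespace Groth.Agent.FibreDepth

attribute [local instance] Algebra.TensorProduct.rightAlgebra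

theorem codimAt_ann_dim_iff {P R : Type u} [CommRing P] [CommRing R] [Algebra P R] (M : Type u) [AddCommGroup M]
    [Module P M] [Module.Finite P M] (d : ℕ) (hd : ringKrullDim R = d) :
    CodimAt R (Module.annihilator P M) d ↔ tensSupp P R M ≤ 0 := by
  rw [codimAt_annihilator_iff, hd]
  show tensSupp P R M + (d : WithBot ℕ∞) ≤ d ↔ _
  cases tensSupp P R M with
  | bot => simp
  | coe s =>
    rw [show (d : WithBot ℕ∞) = ((d : ℕ∞) : WithBot ℕ∞) from rfl, ← WithBot.coe_add, WithBot.coe_le_coe,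
      show (0 : WithBot ℕ∞) = ((0 : ℕ∞) : WithBot ℕ∞) from rfl, WithBot.coe_le_coe]
    conv_lhs => rhs; rw [← zero_add (d : ℕ∞)]
    exact ENat.add_le_add_iff_right (ENat.natCast_ne_top d)

theorem pdLE_dim {P R : Type u} [CommRing P] [CommRing R] [IsRegularLocalRing R] [Algebra P R] (M : Type u)
    [AddCommGroup M] [Module P M] [Module.Finite P M] (d : ℕ) (hd : ringKrullDim R = d) : PdLE P R M d := by
  show HasProjectiveDimensionLT _ (d + 1)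
  rw [projDimLT_iff_le_depth d hd, Nat.sub_self]
  exact bot_le

theorem codimAt_ann_of_supp_zero {P R : Type u} [CommRing P] [CommRing R] [Algebra P R] (M : Type u) [AddCommGroup M]
    [Module P M] [Module.Finite P M] (d : ℕ) (hd : ringKrullDim R = d) (h : tensSupp P R M = 0) (e : ℕ) :
    CodimAt R (Module.annihilator P M) e ↔ e ≤ d := by
  rw [codimAt_annihilator_iff, hd]
  show tensSupp P R M + (e : WithBot ℕ∞) ≤ d ↔ _
  rw [h, zero_add]
  exact Nat.cast_le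

variable {X Y : Scheme.{u}} (f : X ⟶ Y)

/-- The dimension of the closure of `x` in its fibre. -/
noncomputable def clDim (x : X) : WithBot ℕ∞ :=
  topologicalKrullDim ↥(closure ({f.asFiber x} : Set ↥(f.fiber (f.base x))))

theorem fib_transfer (y : Y) (z : f.fiber y) (Q : ∀ y : Y, ↥(f.fiber y) → Prop) :
    f.base (f.fiberι y z) = y ∧ (Q (f.base (f.fiberι y z)) (f.asFiber (f.fiberι y z)) ↔ Q y z) := by
  have hy : f (f.fiberι y z) = y := by
    have : f.fiberι y z ∈ f ⁻¹' {y} := by rw [← f.range_fiberι y]; exact ⟨z, rfl⟩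
    exact this
  refine ⟨hy, ?_⟩
  generalize hx : f.fiberι y z = x at hy
  subst hy
  rw [show f.asFiber x = z from (f.fiberι (f x)).isEmbedding.injective ((f.fiberι_asFiber x).trans hx.symm)]

theorem forall_fiber_iff (Q : ∀ y : Y, ↥(f.fiber y) → Prop) (x : X) :
    (∀ z : f.fiber (f.base x), f.asFiber x ∈ closure {z} → Q (f.base x) z) ↔
      ∀ x' : X, x' ⤳ x → f.base x' = f.base x → Q (f.base x') (f.asFiber x') := by
  constructor
  · intro h x' hsp hb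
    obtain ⟨z, hz⟩ : x' ∈ Set.range (f.fiberι (f.base x)) := by rw [f.range_fiberι]; exact hb
    subst hz
    refine (fib_transfer f (f.base x) z Q).2.2 (h z (specializes_iff_mem_closure.1 ?_))
    refine (f.fiberι (f.base x)).isEmbedding.isInducing.specializes_iff.1 ?_
    rw [f.fiberι_asFiber]
    exact hsp
  · intro h z hz
    obtain ⟨hy, hQ⟩ := fib_transfer f (f.base x) z Q
    refine hQ.1 (h _ ?_ hy)
    have := (specializes_iff_mem_closure.2 hz).map (f.fiberι (f.base x)).continuous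
    rwa [f.fiberι_asFiber] at this

variable {f} {dep : X → ℕ∞} {supp : X → WithBot ℕ∞} {flatAt : X → Prop}

namespace Model

variable (𝔐 : Model f dep supp flatAt)

theorem exists_dims (q : PrimeSpectrum 𝔐.B) :
    ∃ d t : ℕ, ringKrullDim (FibRing 𝔐.A (𝔐.pt q)) = (d : WithBot ℕ∞) ∧ clDim f (𝔐.emb q) = (t : WithBot ℕ∞) ∧
      d + t = 𝔐.m := by
  obtain ⟨t, ht, htr⟩ := 𝔐.dim_eq q
  obtain ⟨d, t', hd, ht', hm⟩ := fibRing_dim (A := 𝔐.A) (𝔐.pt q)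
  obtain rfl : t = t' := by exact_mod_cast htr.symm.trans ht'
  exact ⟨d, t, hd, ht, hm⟩

theorem pt_le_iff (z q : PrimeSpectrum 𝔐.B) : (𝔐.pt z).asIdeal ≤ (𝔐.pt q).asIdeal ↔ 𝔐.emb z ⤳ 𝔐.emb q := by
  rw [𝔐.isOpenEmbedding.toIsEmbedding.isInducing.specializes_iff, ← PrimeSpectrum.le_iff_specializes]
  refine ⟨fun h x hx => ?_, fun h => Ideal.comap_mono h⟩
  obtain ⟨y, rfl⟩ := 𝔐.surjective x
  exact h (show y ∈ (𝔐.pt z).asIdeal from hx)

theorem pt_injective : Function.Injective 𝔐.pt :=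
  PrimeSpectrum.comap_injective_of_surjective _ 𝔐.surjective

theorem exists_pt_of_mem_support (r : PrimeSpectrum (MvPolynomial (Fin 𝔐.m) 𝔐.A))
    (h : r ∈ Module.support (MvPolynomial (Fin 𝔐.m) 𝔐.A) 𝔐.M) : ∃ z, 𝔐.pt z = r := by
  have hk : RingHom.ker 𝔐.φ ≤ r.asIdeal := 𝔐.ker_le.trans (Module.mem_support_iff_of_finite.1 h)
  haveI := Ideal.map_isPrime_of_surjective 𝔐.surjective hk
  refine ⟨⟨r.asIdeal.map 𝔐.φ, inferInstance⟩, PrimeSpectrum.ext ?_⟩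
  show (r.asIdeal.map 𝔐.φ).comap 𝔐.φ = r.asIdeal
  rw [Ideal.comap_map_of_surjective _ 𝔐.surjective, ← RingHom.ker_eq_comap_bot, sup_eq_left.2 hk]

theorem supp_ne_bot_iff (q : PrimeSpectrum 𝔐.B) :
    supp (𝔐.emb q) ≠ ⊥ ↔ 𝔐.pt q ∈ Module.support (MvPolynomial (Fin 𝔐.m) 𝔐.A) 𝔐.M := by
  rw [mem_support_iff_fib (A := 𝔐.A), 𝔐.supp_eq q]

theorem forall_gen_iff (q : PrimeSpectrum 𝔐.B) (Q : X → Prop) :
    (∀ x', x' ⤳ 𝔐.emb q → f.base x' = f.base (𝔐.emb q) → Q x') ↔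
      ∀ z : PrimeSpectrum 𝔐.B, ((𝔐.pt z).asIdeal ≤ (𝔐.pt q).asIdeal ∧
        basePrime 𝔐.A (𝔐.pt z) = basePrime 𝔐.A (𝔐.pt q)) → Q (𝔐.emb z) := by
  constructor
  · exact fun h z hz => h _ ((𝔐.pt_le_iff z q).1 hz.1) ((𝔐.fibre_eq z q).2 hz.2)
  · intro h x' hsp hb
    obtain ⟨z, rfl⟩ := hsp.mem_open 𝔐.isOpenEmbedding.isOpen_range ⟨q, rfl⟩
    exact h z ⟨(𝔐.pt_le_iff z q).2 hsp, (𝔐.fibre_eq z q).1 hb⟩

theorem supp_ne_bot_of_dep_zero (q : PrimeSpectrum 𝔐.B) (h : dep (𝔐.emb q) = 0) : supp (𝔐.emb q) ≠ ⊥ := by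
  obtain ⟨d, t, hd, -, -⟩ := 𝔐.exists_dims q
  haveI := isRegularLocalRing_fibRing (A := 𝔐.A) (𝔐.pt q)
  rw [𝔐.depth_eq q] at h
  rw [𝔐.supp_eq q]
  exact ((tensDepth_eq_zero_iff 𝔐.M d hd).1 h).1

theorem dep_zero_of_supp_zero (q : PrimeSpectrum 𝔐.B) (h : supp (𝔐.emb q) = 0) : dep (𝔐.emb q) = 0 := by
  have h' := 𝔐.dep_le_supp q (h.trans_ne WithBot.zero_ne_bot)
  rw [h] at h'
  exact nonpos_iff_eq_zero.1 (WithBot.coe_le_coe.1 h')

theorem exists_min_le (q : PrimeSpectrum 𝔐.B) (h : supp (𝔐.emb q) ≠ ⊥) :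
    ∃ z, 𝔐.emb z ⤳ 𝔐.emb q ∧ f.base (𝔐.emb z) = f.base (𝔐.emb q) ∧ supp (𝔐.emb z) = 0 := by
  rw [𝔐.supp_eq q] at h
  obtain ⟨r, ⟨hle, hb⟩, hr⟩ := exists_supp_zero_fib (A := 𝔐.A) 𝔐.M (𝔐.pt q) h
  obtain ⟨z, rfl⟩ := 𝔐.exists_pt_of_mem_support r
    ((mem_support_iff_fib (A := 𝔐.A) 𝔐.M r).2 (hr.trans_ne WithBot.zero_ne_bot))
  exact ⟨z, (𝔐.pt_le_iff z q).1 hle, (𝔐.fibre_eq z q).2 hb, (𝔐.supp_eq z).trans hr⟩

theorem eq_of_supp_zero (q : PrimeSpectrum 𝔐.B) (h : supp (𝔐.emb q) = 0) (x' : X) (hsp : x' ⤳ 𝔐.emb q)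
    (hb : f.base x' = f.base (𝔐.emb q)) (hne : supp x' ≠ ⊥) : x' = 𝔐.emb q := by
  obtain ⟨z, rfl⟩ := hsp.mem_open 𝔐.isOpenEmbedding.isOpen_range ⟨q, rfl⟩
  rw [𝔐.supp_eq z] at hne
  rw [𝔐.supp_eq q] at h
  rw [𝔐.pt_injective (eq_of_supp_zero_fib (A := 𝔐.A) 𝔐.M (𝔐.pt q) (𝔐.pt z) h ((𝔐.pt_le_iff z q).2 hsp)
    ((𝔐.fibre_eq z q).1 hb) hne)]

theorem exists_open_assGood (G : ℕ → Set (PrimeSpectrum (MvPolynomial (Fin 𝔐.m) 𝔐.A))) (hG : ∀ e, IsOpen (G e)) :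
    ∃ U : Set (PrimeSpectrum 𝔐.B), IsOpen U ∧ ∀ q, flatAt (𝔐.emb q) → (q ∈ U ↔
      ∀ z : PrimeSpectrum 𝔐.B, ((𝔐.pt z).asIdeal ≤ (𝔐.pt q).asIdeal ∧
        basePrime 𝔐.A (𝔐.pt z) = basePrime 𝔐.A (𝔐.pt q)) →
          ∀ d : ℕ, ringKrullDim (FibRing 𝔐.A (𝔐.pt z)) = d → dep (𝔐.emb z) = 0 → 𝔐.pt z ∈ G d) := by
  obtain ⟨W, hW, h⟩ := FibreDepth.exists_open_assGood (A := 𝔐.A) (m := 𝔐.m) 𝔐.M G hG
  refine ⟨PrimeSpectrum.comap 𝔐.φ ⁻¹' W, hW.preimage (PrimeSpectrum.continuous_comap _), fun q hq => ?_⟩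
  rw [Set.mem_preimage, h _ (𝔐.flat q hq)]
  constructor
  · intro H z hz d hd h0
    rw [𝔐.depth_eq z] at h0
    exact H (𝔐.pt z) hz d hd h0
  · intro H r hr d hd h0
    haveI := isRegularLocalRing_fibRing (A := 𝔐.A) r
    obtain ⟨z, rfl⟩ := 𝔐.exists_pt_of_mem_support r
      ((mem_support_iff_fib (A := 𝔐.A) 𝔐.M r).2 ((tensDepth_eq_zero_iff 𝔐.M d hd).1 h0).1)
    exact H z hr d hd ((𝔐.depth_eq z).trans h0)

end Model

/-- Points through which all associated points of the fibre have dimensions in `Φ`. -/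
theorem isOpen_ass_dims (hcov : ∀ x, ∃ 𝔐 : Model f dep supp flatAt, x ∈ Set.range 𝔐.emb) (hflat : ∀ x, flatAt x)
    (Φ : Finset ℕ) :
    IsOpen {x : X | ∀ x', x' ⤳ x → f.base x' = f.base x → dep x' = 0 → ∃ n ∈ Φ, clDim f x' = (n : WithBot ℕ∞)} := by
  refine isOpen_of_models hcov _ fun 𝔐 => ?_
  obtain ⟨U, hU, h⟩ := 𝔐.exists_open_assGood (fun d => {_r | 𝔐.m - d ∈ Φ}) fun _ => isOpen_const
  convert hU using 1
  ext q
  rw [Set.mem_preimage, Set.mem_ofPred_eq, 𝔐.forall_gen_iff q, h q (hflat _)]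
  refine forall₂_congr fun z _ => ?_
  obtain ⟨d, t, hd, ht, hm⟩ := 𝔐.exists_dims z
  rw [ht]
  constructor
  · intro H d' hd' h0
    obtain rfl : d = d' := by exact_mod_cast hd.symm.trans hd'
    obtain ⟨n, hn, htn⟩ := H h0
    obtain rfl : t = n := by exact_mod_cast htn
    show 𝔐.m - d ∈ Φ
    rwa [show 𝔐.m - d = t by omega]
  · intro H h0
    refine ⟨t, ?_, rfl⟩
    have : 𝔐.m - d ∈ Φ := H d hd h0
    rwa [show 𝔐.m - d = t by omega] at this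

/-- Points lying on no embedded associated cycle of their fibre. -/
theorem isOpen_ass_supp_zero (hcov : ∀ x, ∃ 𝔐 : Model f dep supp flatAt, x ∈ Set.range 𝔐.emb) (hflat : ∀ x, flatAt x) :
    IsOpen {x : X | ∀ x', x' ⤳ x → f.base x' = f.base x → dep x' = 0 → supp x' = 0} := by
  refine isOpen_of_models hcov _ fun 𝔐 => ?_
  obtain ⟨U, hU, h⟩ := 𝔐.exists_open_assGood
    (fun d => {r | CodimGE 𝔐.A (Module.annihilator (MvPolynomial (Fin 𝔐.m) 𝔐.A) 𝔐.M) r d}) fun d => isOpen_codimGE _ d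
  convert hU using 1
  ext q
  rw [Set.mem_preimage, Set.mem_ofPred_eq, 𝔐.forall_gen_iff q, h q (hflat _)]
  refine forall₂_congr fun z _ => ?_
  obtain ⟨d, t, hd, -, hm⟩ := 𝔐.exists_dims z
  have key : ∀ d' : ℕ, ringKrullDim (FibRing 𝔐.A (𝔐.pt z)) = d' →
      (CodimGE 𝔐.A (Module.annihilator (MvPolynomial (Fin 𝔐.m) 𝔐.A) 𝔐.M) (𝔐.pt z) d' ↔ supp (𝔐.emb z) ≤ 0) := by
    intro d' hd'
    rw [𝔐.supp_eq z]
    exact codimAt_ann_dim_iff (P := MvPolynomial (Fin 𝔐.m) 𝔐.A) 𝔐.M d' hd'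
  constructor
  · intro H d' hd' h0
    exact (key d' hd').2 (H h0).le
  · intro H h0
    refine le_antisymm ((key d hd).1 (H d hd h0)) ?_
    have hne := 𝔐.supp_ne_bot_of_dep_zero z h0
    obtain ⟨s, hs⟩ := WithBot.ne_bot_iff_exists.1 hne
    rw [← hs]
    exact WithBot.coe_le_coe.2 bot_le

/-- The images of the points generic in the support of their fibre, with closures of given dimension. -/
theorem isOpen_image_min (hcov : ∀ x, ∃ 𝔐 : Model f dep supp flatAt, x ∈ Set.range 𝔐.emb) (hflat : ∀ x, flatAt x)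
    (n : ℕ) : IsOpen (f.base '' {x : X | supp x = 0 ∧ clDim f x = (n : WithBot ℕ∞)}) := by
  refine isOpen_iff_forall_mem_open.2 ?_
  rintro _ ⟨x, ⟨hx, hn⟩, rfl⟩
  obtain ⟨𝔐, q, rfl⟩ := hcov x
  obtain ⟨d, t, hd, ht, hm⟩ := 𝔐.exists_dims q
  obtain rfl : t = n := by exact_mod_cast ht.symm.trans hn
  let P := MvPolynomial (Fin 𝔐.m) 𝔐.A
  let W : Set (PrimeSpectrum P) := PdSet 𝔐.A P 𝔐.M d ∩ {r | CodimGE 𝔐.A (Module.annihilator P 𝔐.M) r d}
  have hW : IsOpen W := (isOpen_pdSet_mvPolynomial 𝔐.M d).inter (isOpen_codimGE _ d)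
  have himg := isOpen_image_support (A := 𝔐.A) (m := 𝔐.m) 𝔐.M W hW fun r hr => by
    obtain ⟨z, rfl⟩ := 𝔐.exists_pt_of_mem_support r hr.2
    exact 𝔐.flat z (hflat _)
  refine ⟨𝔐.baseEmb '' (PrimeSpectrum.comap (algebraMap 𝔐.A P) '' (W ∩ Module.support P 𝔐.M)), ?_,
    𝔐.isOpenEmbedding_baseEmb.isOpenMap _ himg, _, ⟨𝔐.pt q, ⟨⟨⟨𝔐.flat q (hflat _), ?_⟩, ?_⟩, ?_⟩, rfl⟩,
    (𝔐.base_eq q).symm⟩
  · rintro _ ⟨_, ⟨r, ⟨⟨⟨-, hpd⟩, hcd⟩, hsr⟩, rfl⟩, rfl⟩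
    obtain ⟨z, rfl⟩ := 𝔐.exists_pt_of_mem_support r hsr
    obtain ⟨z', hsp, hb, h0⟩ := 𝔐.exists_min_le z ((𝔐.supp_ne_bot_iff z).2 hsr)
    refine ⟨𝔐.emb z', ⟨h0, ?_⟩, hb.trans (𝔐.base_eq z)⟩
    obtain ⟨d', t', hd', ht', hm'⟩ := 𝔐.exists_dims z'
    have hmem : 𝔐.pt z' ∈ W := hW.stableUnderGeneralization
      ((PrimeSpectrum.le_iff_specializes _ _).1 ((𝔐.pt_le_iff z' z).2 hsp)) ⟨⟨𝔐.flat z (hflat _), hpd⟩, hcd⟩
    haveI := isRegularLocalRing_fibRing (A := 𝔐.A) (𝔐.pt z')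
    obtain ⟨-, hle⟩ := (tensDepth_eq_zero_iff 𝔐.M d' hd').1 ((𝔐.depth_eq z').symm.trans (𝔐.dep_zero_of_supp_zero z' h0))
    have h1 : d' ≤ d := by
      by_contra hlt
      exact hle d (by omega) hmem.1.2
    rw [𝔐.supp_eq z'] at h0
    have h3 : d ≤ d' := (codimAt_ann_of_supp_zero (P := P) 𝔐.M d' hd' h0 d).1 hmem.2
    rw [ht', show t' = t by omega]
  · haveI := isRegularLocalRing_fibRing (A := 𝔐.A) (𝔐.pt q)
    exact pdLE_dim (P := P) 𝔐.M d hd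
  · show CodimGE 𝔐.A _ (𝔐.pt q) d
    rw [𝔐.supp_eq q] at hx
    exact (codimAt_ann_of_supp_zero (P := P) 𝔐.M d hd hx d).2 le_rfl
  · exact (𝔐.supp_ne_bot_iff q).1 (hx.trans_ne WithBot.zero_ne_bot)

section Modules

variable (f) (F : X.Modules) [LocallyOfFinitePresentation f] [Coh.IsQCoh F]

theorem finite_fibre_stalk (hF : CohB1.IsFP F) (y : Y) (z : f.fiber y) :
    Module.Finite ((f.fiber y).presheaf.stalk z)
      (((Scheme.Modules.pullback (f.fiberι y)).obj F).presheaf.stalk z) := by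
  let g := f.fiberι y
  let O := X.presheaf.stalk (g z)
  let O' := (f.fiber y).presheaf.stalk z
  letI : Algebra O O' := (g.stalkMap z).hom.toAlgebra
  letI := Module.compHom (((Scheme.Modules.pullback g).obj F).presheaf.stalk z) (g.stalkMap z).hom
  haveI : IsScalarTower O O' (((Scheme.Modules.pullback g).obj F).presheaf.stalk z) :=
    .of_algebraMap_smul fun _ _ => rfl
  haveI := FlatLocus.finite_stalk F hF (g z)
  exact Module.Finite.equiv (PullbackMod.isBaseChange_pullStalkL g F z).equiv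

omit [Coh.IsQCoh F] in
theorem isNoetherianRing_fibre_stalk (y : Y) (z : f.fiber y) : IsNoetherianRing ((f.fiber y).presheaf.stalk z) := by
  haveI : LocallyOfFiniteType (f.fiberToSpecResidueField y) := MorphismProperty.pullback_snd _ _ inferInstance
  haveI : IsLocallyNoetherian (f.fiber y) := LocallyOfFiniteType.isLocallyNoetherian (f.fiberToSpecResidueField y)
  infer_instance

theorem mem_ass_iff (hF : CohB1.IsFP F) (x : X) :
    f.asFiber x ∈ AssSch.Ass ((Scheme.Modules.pullback (f.fiberι (f.base x))).obj F) ↔ CInt.fiberDepth f F x = 0 := by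
  haveI := finite_fibre_stalk f F hF (f.base x) (f.asFiber x)
  haveI := isNoetherianRing_fibre_stalk f (f.base x) (f.asFiber x)
  exact (S5752.result _ _).symm

theorem fiberSupp_ne_bot_iff (hF : CohB1.IsFP F) (x : X) :
    Nontrivial (((Scheme.Modules.pullback (f.fiberι (f.base x))).obj F).presheaf.stalk (f.asFiber x)) ↔
      fiberSupp f F x ≠ ⊥ := by
  haveI := finite_fibre_stalk f F hF (f.base x) (f.asFiber x)
  exact (Module.supportDim_ne_bot_iff_nontrivial ((f.fiber (f.base x)).presheaf.stalk (f.asFiber x)) _).symm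

theorem exists_min_fibre (hF : CohB1.IsFP F) (x : X) (h : fiberSupp f F x ≠ ⊥) :
    ∃ x', x' ⤳ x ∧ f.base x' = f.base x ∧ fiberSupp f F x' = 0 := by
  obtain ⟨𝔐, q, rfl⟩ := exists_model f F hF x
  obtain ⟨z, h1, h2, h3⟩ := 𝔐.exists_min_le q h
  exact ⟨_, h1, h2, h3⟩

theorem eq_of_fiberSupp_zero (hF : CohB1.IsFP F) {x x' : X} (h : fiberSupp f F x = 0) (hsp : x' ⤳ x)
    (hb : f.base x' = f.base x) (hne : fiberSupp f F x' ≠ ⊥) : x' = x := by
  obtain ⟨𝔐, q, rfl⟩ := exists_model f F hF x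
  exact 𝔐.eq_of_supp_zero q h x' hsp hb hne

theorem fiberDepth_zero_of_supp_zero (hF : CohB1.IsFP F) {x : X} (h : fiberSupp f F x = 0) :
    CInt.fiberDepth f F x = 0 := by
  obtain ⟨𝔐, q, rfl⟩ := exists_model f F hF x
  exact 𝔐.dep_zero_of_supp_zero q h

theorem fiberSupp_ne_bot_of_depth_zero (hF : CohB1.IsFP F) {x : X} (h : CInt.fiberDepth f F x = 0) :
    fiberSupp f F x ≠ ⊥ := by
  obtain ⟨𝔐, q, rfl⟩ := exists_model f F hF x
  exact 𝔐.supp_ne_bot_of_dep_zero q h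

end Modules

end Groth.Agent.FibreDepth
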