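import Groth.Agent.FibreDepth.DepthAlong

/-!
Retrocompactness from affine models; the local dimension of fibres is constructible.
-/

set_option autoImplicit false
set_option linter.style.haveILetI false

universe u

open CategoryTheory AlgebraicGeometry IsLocalRing TensorProduct Topology

namespace Groth.Agent.FibreDepth

theorem isRetrocompact_of_embeddings {X : Type u} [TopologicalSpace X] (s : Set X)
    (h : ∀ x : X, ∃ (B : Type u) (_ : CommRing B) (emb : PrimeSpectrum B → X),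
      IsOpenEmbedding emb ∧ x ∈ Set.range emb ∧ IsConstructible (emb ⁻¹' s)) :
    IsRetrocompact s := by
  intro K hK hKo
  have hloc : ∀ x ∈ K, ∃ O : Set X, IsOpen O ∧ x ∈ O ∧ O ⊆ K ∧ IsCompact (s ∩ O) := by
    intro x hx
    obtain ⟨B, _, emb, ho, ⟨q, rfl⟩, hc⟩ := h x
    obtain ⟨_, ⟨g, rfl⟩, hqg, hgK⟩ :=
      PrimeSpectrum.isTopologicalBasis_basic_opens.exists_subset_of_mem_open (u := emb ⁻¹' K) hx
        (hKo.preimage ho.continuous)
    refine ⟨emb '' (PrimeSpectrum.basicOpen g : Set (PrimeSpectrum B)), ho.isOpenMap _ (PrimeSpectrum.basicOpen g).2,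
      ⟨q, hqg, rfl⟩, Set.image_subset_iff.2 hgK, ?_⟩
    rw [Set.inter_comm, ← Set.image_inter_preimage, Set.inter_comm]
    exact ((ConstrPrespectral.isRetrocompact_of_isConstructible hc) (PrimeSpectrum.isCompact_basicOpen g)
      (PrimeSpectrum.basicOpen g).2).image ho.continuous
  choose O hO hxO hOK hcO using hloc
  obtain ⟨t, ht⟩ := hK.elim_finite_subcover (fun x : K => O x.1 x.2) (fun x => hO x.1 x.2)
    fun x hx => Set.mem_iUnion.2 ⟨⟨x, hx⟩, hxO x hx⟩
  have : s ∩ K = ⋃ x ∈ t, s ∩ O x.1 x.2 := by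
    refine subset_antisymm (fun z hz => ?_) (Set.iUnion₂_subset fun x _ => Set.inter_subset_inter_right s (hOK x.1 x.2))
    obtain ⟨x, hx, hzx⟩ := Set.mem_iUnion₂.1 (ht hz.2)
    exact Set.mem_iUnion₂.2 ⟨x, hx, hz.1, hzx⟩
  rw [this]
  exact t.isCompact_biUnion fun x _ => hcO x.1 x.2

variable {X Y : Scheme.{u}} {f : X ⟶ Y}

theorem fibreDimAt_eq_add [LocallyOfFiniteType f] (x : X) :
    FlatMor.fibreDimAt f x = ringKrullDim ((f.fiber (f.base x)).presheaf.stalk (f.asFiber x)) +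
      topologicalKrullDim ↥(closure ({f.asFiber x} : Set ↥(f.fiber (f.base x)))) := by
  let g := f.fiberToSpecResidueField (f.base x)
  haveI : LocallyOfFiniteType g := MorphismProperty.pullback_snd _ _ inferInstance
  obtain ⟨a, t, ha, -, hloc, hh⟩ := DimFormulaLib.field_dims (k := Y.residueField (f.base x)) g (f.asFiber x)
  rw [DimFormulaLib.topologicalKrullDim_closure_singleton, hh]
  show FlatMor.localDim _ (f.asFiber x) = _
  rw [hloc, ha]
  rfl

namespace Model

attribute [local instance] Algebra.TensorProduct.rightAlgebra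

theorem isConstructible_fibreDimAt_le [LocallyOfFiniteType f] {dep : X → ℕ∞} {flatAt : X → Prop}
    (𝔐 : Model f dep (fun x => ringKrullDim ((f.fiber (f.base x)).presheaf.stalk (f.asFiber x))) flatAt) (n : ℕ) :
    IsConstructible {q : PrimeSpectrum 𝔐.B | FlatMor.fibreDimAt f (𝔐.emb q) ≤ (n : WithBot ℕ∞)} := by
  have key : ∀ q : PrimeSpectrum 𝔐.B, FlatMor.fibreDimAt f (𝔐.emb q) ≤ (n : WithBot ℕ∞) ↔
      𝔐.m ≤ n ∨ CodimSupp (MvPolynomial (Fin 𝔐.m) 𝔐.A) (FibRing 𝔐.A (𝔐.pt q)) 𝔐.M (𝔐.m - n) := by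
    intro q
    obtain ⟨t, ht, htr⟩ := 𝔐.dim_eq q
    obtain ⟨d, t', hd, htr', hdm⟩ := fibRing_dim (A := 𝔐.A) (𝔐.pt q)
    obtain rfl : t = t' := by exact_mod_cast htr.symm.trans htr'
    rw [fibreDimAt_eq_add, ht]
    have hs : ringKrullDim ((f.fiber (f.base (𝔐.emb q))).presheaf.stalk (f.asFiber (𝔐.emb q))) =
        tensSupp (MvPolynomial (Fin 𝔐.m) 𝔐.A) (FibRing 𝔐.A (𝔐.pt q)) 𝔐.M := 𝔐.supp_eq q
    have hle : ringKrullDim ((f.fiber (f.base (𝔐.emb q))).presheaf.stalk (f.asFiber (𝔐.emb q))) ≤ (d : WithBot ℕ∞) :=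
      hs.le.trans ((tensSupp_le _ 𝔐.M).trans hd.le)
    rw [CodimSupp, ← hs, hd]
    obtain ⟨s, hs'⟩ : ∃ s : ℕ, ringKrullDim ((f.fiber (f.base (𝔐.emb q))).presheaf.stalk (f.asFiber (𝔐.emb q))) = (s : WithBot ℕ∞) := by
      obtain ⟨s, hs'⟩ := WithBot.ne_bot_iff_exists.1 (ne_bot_of_le_ne_bot WithBot.zero_ne_bot
        (ringKrullDim_nonneg_of_nontrivial :
          (0 : WithBot ℕ∞) ≤ ringKrullDim ((f.fiber (f.base (𝔐.emb q))).presheaf.stalk (f.asFiber (𝔐.emb q)))))
      rw [← hs'] at hle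
      obtain ⟨s, rfl⟩ := ENat.ne_top_iff_exists.1 (ne_top_of_le_ne_top (ENat.natCast_ne_top d) (WithBot.coe_le_coe.1 hle))
      exact ⟨s, hs'.symm⟩
    rw [hs'] at hle ⊢
    have hle' : s ≤ d := by exact_mod_cast hle
    constructor
    · intro h
      have h' : s + t ≤ n := by exact_mod_cast h
      rcases le_total 𝔐.m n with h'' | h''
      · exact Or.inl h''
      · exact Or.inr (by exact_mod_cast (by omega : s + (𝔐.m - n) ≤ d))
    · rintro (h | h)
      · exact_mod_cast (by omega : s + t ≤ n)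
      · have h' : s + (𝔐.m - n) ≤ d := by exact_mod_cast h
        exact_mod_cast (by omega : s + t ≤ n)
  simp only [key]
  by_cases hn : 𝔐.m ≤ n
  · simp only [hn, true_or, Set.ofPred_true]
    exact .univ
  · simp only [hn, false_or]
    exact CMFlatLib.isConstructible_comap 𝔐.φ (isConstructible_codimSupp 𝔐.M _)

end Model

end Groth.Agent.FibreDepth
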