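import Groth.Agent.FibreDepth.Presentation
import Groth.Agent.PullbackMod.Stalk
import Groth.Agent.FlatLocus.FibreStalk
import Groth.Agent.FlatLocus.FibreCritMod
import Groth.Agent.FlatLocus.ModFlat
import Groth.Agent.CMFlatLib.BaseChange
import Groth.Agent.DimFormulaLib.Irreducible
import Groth.Agent.DimFormulaLib.Field
import Groth.Agent.DimFormulaLib.Equidim
import Groth.Prelude.Def_CInt

/-!
Affine models for the fibre invariants of a finitely presented module on a scheme.
-/

set_option autoImplicit false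
set_option linter.style.haveILetI false

universe u

open CategoryTheory AlgebraicGeometry IsLocalRing TensorProduct Topology

namespace Groth.Agent.FibreDepth

variable {X Y : Scheme.{u}} (f : X ⟶ Y) (F : X.Modules)

/-- The ideal of the fibre in the local ring at `x`. -/
noncomputable def fibreIdeal (x : X) : Ideal (X.presheaf.stalk x) :=
  (maximalIdeal (Y.presheaf.stalk (f x))).map (f.stalkMap x).hom

/-- The fibre of `F` at `x` as a module over the local ring at `x`. -/
abbrev fibreStalkMod (x : X) : Type u :=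
  (F.presheaf.stalk x : Type u) ⧸ (fibreIdeal f x • ⊤ : Submodule (X.presheaf.stalk x) (F.presheaf.stalk x))

theorem fib_stalk [Coh.IsQCoh F] (hF : CohB1.IsFP F) (x : X) :
    CInt.fiberDepth f F x = LocCoh.depth (X.presheaf.stalk x) (fibreStalkMod f F x) ∧
      Module.supportDim ((f.fiber (f.base x)).presheaf.stalk (f.asFiber x))
          (((Scheme.Modules.pullback (f.fiberι (f.base x))).obj F).presheaf.stalk (f.asFiber x)) =
        Module.supportDim (X.presheaf.stalk x) (fibreStalkMod f F x) ∧
      (Subsingleton (((Scheme.Modules.pullback (f.fiberι (f.base x))).obj F).presheaf.stalk (f.asFiber x)) ↔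
        Subsingleton (fibreStalkMod f F x)) := by
  have gen : ∀ (y : Y) (z : f.fiber y),
      LocCoh.depth ((f.fiber y).presheaf.stalk z) (((Scheme.Modules.pullback (f.fiberι y)).obj F).presheaf.stalk z) =
          LocCoh.depth (X.presheaf.stalk (f.fiberι y z)) (fibreStalkMod f F (f.fiberι y z)) ∧
        Module.supportDim ((f.fiber y).presheaf.stalk z)
            (((Scheme.Modules.pullback (f.fiberι y)).obj F).presheaf.stalk z) =
          Module.supportDim (X.presheaf.stalk (f.fiberι y z)) (fibreStalkMod f F (f.fiberι y z)) ∧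
        (Subsingleton (((Scheme.Modules.pullback (f.fiberι y)).obj F).presheaf.stalk z) ↔
          Subsingleton (fibreStalkMod f F (f.fiberι y z))) := by
    intro y z
    let g := f.fiberι y
    let O := X.presheaf.stalk (g z)
    let O' := (f.fiber y).presheaf.stalk z
    letI : Algebra O O' := (g.stalkMap z).hom.toAlgebra
    letI := Module.compHom (((Scheme.Modules.pullback g).obj F).presheaf.stalk z) (g.stalkMap z).hom
    haveI : IsScalarTower O O' (((Scheme.Modules.pullback g).obj F).presheaf.stalk z) :=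
      .of_algebraMap_smul fun _ _ => rfl
    have hbc := PullbackMod.isBaseChange_pullStalkL g F z
    have hsurj : Function.Surjective (algebraMap O O') := FlatLocus.fiberι_stalkMap_surjective f y z
    have hker : RingHom.ker (algebraMap O O') = fibreIdeal f (g z) := FlatLocus.ker_fiberι_stalkMap f y z
    haveI := FlatLocus.finite_stalk F hF (g z)
    have h1 := depth_eq_of_isBaseChange hsurj _ hbc
    have h2 := supportDim_eq_of_isBaseChange hsurj _ hbc
    have h3 := subsingleton_iff_of_isBaseChange hsurj _ hbc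
    rw [hker] at h1 h2 h3
    exact ⟨h1, h2, h3⟩
  have key : ∀ x' : X, x' = x →
      (LocCoh.depth (X.presheaf.stalk x') (fibreStalkMod f F x') =
          LocCoh.depth (X.presheaf.stalk x) (fibreStalkMod f F x) ∧
        Module.supportDim (X.presheaf.stalk x') (fibreStalkMod f F x') =
          Module.supportDim (X.presheaf.stalk x) (fibreStalkMod f F x) ∧
        (Subsingleton (fibreStalkMod f F x') ↔ Subsingleton (fibreStalkMod f F x))) := by
    rintro x' rfl
    exact ⟨rfl, rfl, Iff.rfl⟩
  obtain ⟨h1, h2, h3⟩ := gen (f.base x) (f.asFiber x)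
  obtain ⟨k1, k2, k3⟩ := key _ (f.fiberι_asFiber x)
  exact ⟨h1.trans k1, h2.trans k2, h3.trans k3⟩

/-- The ring of the fibre at `x` as a quotient of the local ring. -/
theorem fib_stalk_self (x : X) :
    LocCoh.depth ((f.fiber (f.base x)).presheaf.stalk (f.asFiber x)) ((f.fiber (f.base x)).presheaf.stalk (f.asFiber x)) =
        LocCoh.depth (X.presheaf.stalk x)
          ((X.presheaf.stalk x : Type u) ⧸ (fibreIdeal f x • ⊤ : Submodule (X.presheaf.stalk x) (X.presheaf.stalk x))) ∧
      ringKrullDim ((f.fiber (f.base x)).presheaf.stalk (f.asFiber x)) =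
        Module.supportDim (X.presheaf.stalk x)
          ((X.presheaf.stalk x : Type u) ⧸ (fibreIdeal f x • ⊤ : Submodule (X.presheaf.stalk x) (X.presheaf.stalk x))) := by
  have gen : ∀ (y : Y) (z : f.fiber y),
      LocCoh.depth ((f.fiber y).presheaf.stalk z) ((f.fiber y).presheaf.stalk z) =
          LocCoh.depth (X.presheaf.stalk (f.fiberι y z)) ((X.presheaf.stalk (f.fiberι y z) : Type u) ⧸
            (fibreIdeal f (f.fiberι y z) • ⊤ : Submodule (X.presheaf.stalk (f.fiberι y z)) (X.presheaf.stalk (f.fiberι y z)))) ∧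
        ringKrullDim ((f.fiber y).presheaf.stalk z) =
          Module.supportDim (X.presheaf.stalk (f.fiberι y z)) ((X.presheaf.stalk (f.fiberι y z) : Type u) ⧸
            (fibreIdeal f (f.fiberι y z) • ⊤ : Submodule (X.presheaf.stalk (f.fiberι y z)) (X.presheaf.stalk (f.fiberι y z)))) := by
    intro y z
    let g := f.fiberι y
    let O := X.presheaf.stalk (g z)
    let O' := (f.fiber y).presheaf.stalk z
    letI : Algebra O O' := (g.stalkMap z).hom.toAlgebra
    have hsurj : Function.Surjective (algebraMap O O') := FlatLocus.fiberι_stalkMap_surjective f y z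
    have hker : RingHom.ker (algebraMap O O') = fibreIdeal f (g z) := FlatLocus.ker_fiberι_stalkMap f y z
    have hbc : IsBaseChange O' (Algebra.linearMap O O') := IsBaseChange.linearMap O O'
    have h1 := depth_eq_of_isBaseChange hsurj _ hbc
    have h2 := supportDim_eq_of_isBaseChange hsurj _ hbc
    rw [hker] at h1 h2
    exact ⟨h1, (Module.supportDim_self_eq_ringKrullDim (R := O')).symm.trans h2⟩
  have key : ∀ x' : X, x' = x →
      LocCoh.depth (X.presheaf.stalk x') ((X.presheaf.stalk x' : Type u) ⧸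
          (fibreIdeal f x' • ⊤ : Submodule (X.presheaf.stalk x') (X.presheaf.stalk x'))) =
        LocCoh.depth (X.presheaf.stalk x) ((X.presheaf.stalk x : Type u) ⧸
          (fibreIdeal f x • ⊤ : Submodule (X.presheaf.stalk x) (X.presheaf.stalk x))) ∧
      Module.supportDim (X.presheaf.stalk x') ((X.presheaf.stalk x' : Type u) ⧸
          (fibreIdeal f x' • ⊤ : Submodule (X.presheaf.stalk x') (X.presheaf.stalk x'))) =
        Module.supportDim (X.presheaf.stalk x) ((X.presheaf.stalk x : Type u) ⧸
          (fibreIdeal f x • ⊤ : Submodule (X.presheaf.stalk x) (X.presheaf.stalk x))) := by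
    rintro x' rfl
    exact ⟨rfl, rfl⟩
  obtain ⟨h1, h2⟩ := gen (f.base x) (f.asFiber x)
  obtain ⟨k1, k2⟩ := key _ (f.fiberι_asFiber x)
  exact ⟨h1.trans k1, h2.trans k2⟩

/-- The dimension of the support of the fibre of `F`. -/
noncomputable def fiberSupp (x : X) : WithBot ℕ∞ :=
  Module.supportDim ((f.fiber (f.base x)).presheaf.stalk (f.asFiber x))
    (((Scheme.Modules.pullback (f.fiberι (f.base x))).obj F).presheaf.stalk (f.asFiber x))

/-- An affine piece of `f` on which fibre invariants are those of a module over affine space. -/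
structure Model (dep : X → ℕ∞) (supp : X → WithBot ℕ∞) (flatAt : X → Prop) where
  A : Type u
  [commA : CommRing A]
  B : Type u
  [commB : CommRing B]
  [alg : Algebra A B]
  m : ℕ
  M : Type u
  [addM : AddCommGroup M]
  [modM : Module (MvPolynomial (Fin m) A) M]
  [modA : Module A M]
  [towerM : IsScalarTower A (MvPolynomial (Fin m) A) M]
  [fpM : Module.FinitePresentation (MvPolynomial (Fin m) A) M]
  φ : MvPolynomial (Fin m) A →+* B
  emb : PrimeSpectrum B → X
  isOpenEmbedding : IsOpenEmbedding emb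
  depth_eq : ∀ q : PrimeSpectrum B, dep (emb q) =
    letI := Algebra.TensorProduct.rightAlgebra (R := A) (A := (basePrime A (PrimeSpectrum.comap φ q)).ResidueField)
      (B := MvPolynomial (Fin m) A)
    tensDepth (MvPolynomial (Fin m) A) (FibRing A (PrimeSpectrum.comap φ q)) M
  supp_eq : ∀ q : PrimeSpectrum B, supp (emb q) =
    letI := Algebra.TensorProduct.rightAlgebra (R := A) (A := (basePrime A (PrimeSpectrum.comap φ q)).ResidueField)
      (B := MvPolynomial (Fin m) A)
    tensSupp (MvPolynomial (Fin m) A) (FibRing A (PrimeSpectrum.comap φ q)) M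
  dim_eq : ∀ q : PrimeSpectrum B, ∃ t : ℕ,
    topologicalKrullDim ↥(closure ({f.asFiber (emb q)} : Set ↥(f.fiber (f.base (emb q))))) = (t : WithBot ℕ∞) ∧
    Algebra.trdeg (A ⧸ basePrime A (PrimeSpectrum.comap φ q))
      (MvPolynomial (Fin m) A ⧸ (PrimeSpectrum.comap φ q).asIdeal) = t
  flat : ∀ q : PrimeSpectrum B, flatAt (emb q) →
    Module.Flat A (LocalizedModule (PrimeSpectrum.comap φ q).asIdeal.primeCompl M)
  surjective : Function.Surjective φ
  ker_le : RingHom.ker φ ≤ Module.annihilator (MvPolynomial (Fin m) A) M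
  ker_fg : (RingHom.ker φ).FG
  baseEmb : PrimeSpectrum A → Y
  isOpenEmbedding_baseEmb : IsOpenEmbedding baseEmb
  base_eq : ∀ q : PrimeSpectrum B, f.base (emb q) =
    baseEmb (PrimeSpectrum.comap (algebraMap A (MvPolynomial (Fin m) A)) (PrimeSpectrum.comap φ q))
  fibre_eq : ∀ q q' : PrimeSpectrum B, f.base (emb q) = f.base (emb q') ↔
    basePrime A (PrimeSpectrum.comap φ q) = basePrime A (PrimeSpectrum.comap φ q')

attribute [instance] Model.commA Model.commB Model.alg Model.addM Model.modM Model.modA Model.towerM Model.fpM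

theorem exists_dim_closure [LocallyOfFiniteType f] {V : Y.Opens} (hV : IsAffineOpen V) {W : X.Opens}
    (hW : IsAffineOpen W) (hWV : W ≤ f ⁻¹ᵁ V) [Algebra Γ(Y, V) Γ(X, W)] [Algebra.FiniteType Γ(Y, V) Γ(X, W)]
    (halg : algebraMap Γ(Y, V) Γ(X, W) = (f.appLE V W hWV).hom) (q : PrimeSpectrum Γ(X, W)) :
    ∃ t : ℕ, topologicalKrullDim ↥(closure ({f.asFiber (hW.fromSpec q)} : Set ↥(f.fiber (f.base (hW.fromSpec q))))) =
        (t : WithBot ℕ∞) ∧ Algebra.trdeg (Γ(Y, V) ⧸ q.asIdeal.under Γ(Y, V)) (Γ(X, W) ⧸ q.asIdeal) = t := by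
  let c : DimFormulaLib.Chart f (hW.fromSpec q) :=
    { A := Γ(Y, V), B := Γ(X, W), i := hV.fromSpec, j := hW.fromSpec,
      w := by rw [halg]; exact (IsAffineOpen.SpecMap_appLE_fromSpec f hV hW hWV).symm,
      q := q, hq := rfl }
  haveI : q.asIdeal.LiesOver c.p.asIdeal := ⟨rfl⟩
  obtain ⟨t, ht⟩ : ∃ t : ℕ, Algebra.trdeg (Γ(Y, V) ⧸ c.p.asIdeal) (Γ(X, W) ⧸ q.asIdeal) = t :=
    Cardinal.lt_aleph0.1 trdeg_lt_aleph0_of_finiteType
  refine ⟨t, ?_, ht⟩
  obtain ⟨r, hr⟩ := DimFormulaLib.exists_nat_trdeg_quotient c.p.asIdeal.ResidueField (c.p.asIdeal.Fiber c.B)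
    c.Q.asIdeal
  obtain ⟨a, ha, hloc, -⟩ :=
    DimFormulaLib.localDim_eq_height_add c.p.asIdeal.ResidueField (c.p.asIdeal.Fiber c.B) c.Q r hr
  have hrt : r = t := by
    haveI : c.q.asIdeal.LiesOver c.p.asIdeal := ⟨rfl⟩
    exact_mod_cast hr.symm.trans ((DimFormulaLib.trdeg_fibre c.p.asIdeal c.q.asIdeal c.Q.asIdeal c.comap_Q).trans ht)
  let g := f.fiberToSpecResidueField (f.base (hW.fromSpec q))
  haveI : LocallyOfFiniteType g := MorphismProperty.pullback_snd _ _ inferInstance
  obtain ⟨a', t', ha', -, hloc', hh⟩ :=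
    DimFormulaLib.field_dims (k := Y.residueField (f.base (hW.fromSpec q))) g (f.asFiber (hW.fromSpec q))
  have e1 : a' = a := by
    have h := ha'.symm.trans (c.dim_stalk_fibre.trans (congrArg WithBot.some ha))
    exact_mod_cast h
  have e2 : a' + t' = a + r := by
    have h := hloc'.symm.trans (c.fibreDimAt_eq.trans hloc)
    exact_mod_cast h
  rw [DimFormulaLib.topologicalKrullDim_closure_singleton, hh, show t' = t by omega]
  rfl

theorem fromSpec_base_eq_iff {V : Y.Opens} (hV : IsAffineOpen V) {W : X.Opens} (hW : IsAffineOpen W)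
    (hWV : W ≤ f ⁻¹ᵁ V) {m : ℕ} (π : MvPolynomial (Fin m) Γ(Y, V) →+* Γ(X, W))
    (hπ : ∀ a, π (algebraMap Γ(Y, V) (MvPolynomial (Fin m) Γ(Y, V)) a) = f.appLE V W hWV a)
    (q q' : PrimeSpectrum Γ(X, W)) :
    f.base (hW.fromSpec q) = f.base (hW.fromSpec q') ↔
      basePrime Γ(Y, V) (PrimeSpectrum.comap π q) = basePrime Γ(Y, V) (PrimeSpectrum.comap π q') := by
  have h : ∀ z : PrimeSpectrum Γ(X, W), f.base (hW.fromSpec z) =
      hV.fromSpec (PrimeSpectrum.comap (f.appLE V W hWV).hom z) := fun z =>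
    (congrArg (fun g : Spec Γ(X, W) ⟶ Y => g.base z) (IsAffineOpen.SpecMap_appLE_fromSpec f hV hW hWV)).symm
  have h' : ∀ z : PrimeSpectrum Γ(X, W),
      (PrimeSpectrum.comap (f.appLE V W hWV).hom z).asIdeal = basePrime Γ(Y, V) (PrimeSpectrum.comap π z) := by
    intro z
    ext a
    show (f.appLE V W hWV).hom a ∈ z.asIdeal ↔ π (algebraMap _ _ a) ∈ z.asIdeal
    rw [hπ]
  rw [h, h, hV.fromSpec.isOpenEmbedding.injective.eq_iff, ← h', ← h']
  exact ⟨fun e => congrArg PrimeSpectrum.asIdeal e, PrimeSpectrum.ext⟩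

theorem fromSpec_base_eq {V : Y.Opens} (hV : IsAffineOpen V) {W : X.Opens} (hW : IsAffineOpen W)
    (hWV : W ≤ f ⁻¹ᵁ V) {m : ℕ} (π : MvPolynomial (Fin m) Γ(Y, V) →+* Γ(X, W))
    (hπ : ∀ a, π (algebraMap Γ(Y, V) (MvPolynomial (Fin m) Γ(Y, V)) a) = f.appLE V W hWV a)
    (q : PrimeSpectrum Γ(X, W)) :
    f.base (hW.fromSpec q) =
      hV.fromSpec (PrimeSpectrum.comap (algebraMap Γ(Y, V) (MvPolynomial (Fin m) Γ(Y, V))) (PrimeSpectrum.comap π q)) := by
  have h : PrimeSpectrum.comap (f.appLE V W hWV).hom q =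
      PrimeSpectrum.comap (algebraMap Γ(Y, V) (MvPolynomial (Fin m) Γ(Y, V))) (PrimeSpectrum.comap π q) := by
    refine PrimeSpectrum.ext (Ideal.ext fun a => ?_)
    show (f.appLE V W hWV).hom a ∈ q.asIdeal ↔ π (algebraMap _ _ a) ∈ q.asIdeal
    rw [hπ]
  exact (congrArg (fun g : Spec Γ(X, W) ⟶ Y => g.base q) (IsAffineOpen.SpecMap_appLE_fromSpec f hV hW hWV)).symm.trans
    (congrArg hV.fromSpec h)

theorem exists_model [LocallyOfFinitePresentation f] [Coh.IsQCoh F] (hF : CohB1.IsFP F) (x : X) :
    ∃ 𝔐 : Model f (CInt.fiberDepth f F) (fiberSupp f F) (FlatMod.IsFlatOverAt f F), x ∈ Set.range 𝔐.emb := by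
  obtain ⟨_, ⟨V : Y.Opens, (hV : IsAffineOpen V), rfl⟩, hxV, -⟩ :=
    Y.isBasis_affineOpens.exists_subset_of_mem_open (Set.mem_univ (f x)) isOpen_univ
  obtain ⟨_, ⟨W : X.Opens, (hW : IsAffineOpen W), rfl⟩, hxW, hWV⟩ :=
    X.isBasis_affineOpens.exists_subset_of_mem_open (a := x) (u := ↑(f ⁻¹ᵁ V)) hxV (f ⁻¹ᵁ V).2
  let A := Γ(Y, V)
  let B := Γ(X, W)
  let MW := Γ(F, W)
  have hfp := f.finitePresentation_appLE hV hW hWV
  algebraize [(f.appLE V W hWV).hom]
  letI := Module.compHom MW (f.appLE V W hWV).hom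
  haveI : IsScalarTower A B MW := .of_algebraMap_smul fun _ _ => rfl
  haveI : Module.FinitePresentation B MW := QCohLib.finitePresentation_sections F hF hW
  obtain ⟨m, π, hπ, hker⟩ := Algebra.FinitePresentation.out (R := A) (A := B)
  letI : Algebra (MvPolynomial (Fin m) A) B := π.toRingHom.toAlgebra
  haveI : IsScalarTower A (MvPolynomial (Fin m) A) B := .of_algebraMap_eq fun r => (π.commutes r).symm
  letI : Module (MvPolynomial (Fin m) A) MW := Module.compHom MW π.toRingHom
  haveI : IsScalarTower (MvPolynomial (Fin m) A) B MW := .of_algebraMap_smul fun _ _ => rfl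
  haveI : IsScalarTower A (MvPolynomial (Fin m) A) MW := .of_algebraMap_smul fun r z => by
    show π (algebraMap A (MvPolynomial (Fin m) A) r) • z = r • z
    rw [π.commutes, algebraMap_smul]
  haveI : Module.FinitePresentation (MvPolynomial (Fin m) A) B :=
    Module.finitePresentation_of_surjective (Algebra.linearMap (MvPolynomial (Fin m) A) B) hπ hker
  haveI : Module.FinitePresentation (MvPolynomial (Fin m) A) MW :=
    Module.FinitePresentation.trans (R := MvPolynomial (Fin m) A) (S := B) (M := MW)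
  have hmem : ∀ q : PrimeSpectrum B, hW.fromSpec q ∈ W := fun q => by
    rw [← SetLike.mem_coe, ← hW.range_fromSpec]
    exact ⟨q, rfl⟩
  have hprime : ∀ q : PrimeSpectrum B, hW.primeIdealOf ⟨hW.fromSpec q, hmem q⟩ = q := fun q =>
    hW.fromSpec.isOpenEmbedding.injective (hW.fromSpec_primeIdealOf _)
  have hinv : ∀ q : PrimeSpectrum B,
      letI := Algebra.TensorProduct.rightAlgebra (R := A)
        (A := (basePrime A (PrimeSpectrum.comap π.toRingHom q)).ResidueField) (B := MvPolynomial (Fin m) A)
      CInt.fiberDepth f F (hW.fromSpec q) =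
          tensDepth (MvPolynomial (Fin m) A) (FibRing A (PrimeSpectrum.comap π.toRingHom q)) MW ∧
        Module.supportDim ((f.fiber (f.base (hW.fromSpec q))).presheaf.stalk (f.asFiber (hW.fromSpec q)))
            (((Scheme.Modules.pullback (f.fiberι (f.base (hW.fromSpec q)))).obj F).presheaf.stalk
              (f.asFiber (hW.fromSpec q))) =
          tensSupp (MvPolynomial (Fin m) A) (FibRing A (PrimeSpectrum.comap π.toRingHom q)) MW := by
    intro q
    let x' := hW.fromSpec q
    have hx' := hmem q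
    let O := X.presheaf.stalk x'
    letI : Algebra B O := TopCat.Presheaf.algebra_section_stalk X.presheaf ⟨x', hx'⟩
    letI : Algebra A O := ((algebraMap B O).comp (algebraMap A B)).toAlgebra
    haveI : IsScalarTower A B O := .of_algebraMap_eq fun _ => rfl
    letI := Module.compHom (F.presheaf.stalk x') (X.presheaf.germ W x' hx').hom
    haveI : IsScalarTower B O (F.presheaf.stalk x') := .of_algebraMap_smul fun _ _ => rfl
    obtain ⟨g, hg⟩ := GenFree.exists_isLocalizedModule_germ F hW x' hx'
    rw [hprime] at hg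
    haveI := hg
    haveI : IsLocalization.AtPrime O q.asIdeal := by
      have h := hW.isLocalization_stalk ⟨x', hx'⟩
      rwa [hprime] at h
    obtain ⟨h1, h2, -⟩ := fib_of_presentation (A := A) (P := MvPolynomial (Fin m) A) (M := MW) (O := O)
      (Mx := F.presheaf.stalk x') hπ q g
    obtain ⟨k1, k2, -⟩ := fib_stalk f F hF x'
    have hyV : f.base x' ∈ V := hWV hx'
    letI := TopCat.Presheaf.algebra_section_stalk Y.presheaf ⟨f.base x', hyV⟩
    haveI := hV.isLocalization_stalk ⟨f.base x', hyV⟩
    have hI : fibreIdeal f x' = (q.asIdeal.under A).map (algebraMap A O) := by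
      have hpr : (hV.primeIdealOf ⟨f.base x', hyV⟩).asIdeal = q.asIdeal.under A := by
        rw [← congr($(IsAffineOpen.comap_primeIdealOf_appLE V hV W hW hWV hx').1), hprime]
        rfl
      rw [fibreIdeal, ← IsLocalization.AtPrime.map_eq_maximalIdeal (hV.primeIdealOf ⟨f.base x', hyV⟩).asIdeal
        (Y.presheaf.stalk (f.base x')), Ideal.map_map, hpr]
      congr 1
      ext r
      show (f.stalkMap x') (Y.presheaf.germ V (f.base x') hyV r) = X.presheaf.germ W x' hx' (f.appLE V W hWV r)
      rw [Scheme.Hom.germ_stalkMap_apply, Scheme.Hom.appLE, CommRingCat.comp_apply, X.presheaf.germ_res_apply]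
    refine ⟨k1.trans ?_, k2.trans ?_⟩
    · show LocCoh.depth O ((F.presheaf.stalk x' : Type u) ⧸ (fibreIdeal f x' • ⊤ : Submodule O (F.presheaf.stalk x'))) = _
      rw [hI]; exact h1.symm
    · show Module.supportDim O ((F.presheaf.stalk x' : Type u) ⧸ (fibreIdeal f x' • ⊤ : Submodule O (F.presheaf.stalk x'))) = _
      rw [hI]; exact h2.symm
  have hdim : ∀ q : PrimeSpectrum B, ∃ t : ℕ,
      topologicalKrullDim ↥(closure ({f.asFiber (hW.fromSpec q)} : Set ↥(f.fiber (f.base (hW.fromSpec q))))) =
        (t : WithBot ℕ∞) ∧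
      Algebra.trdeg (A ⧸ basePrime A (PrimeSpectrum.comap π.toRingHom q))
        (MvPolynomial (Fin m) A ⧸ (PrimeSpectrum.comap π.toRingHom q).asIdeal) = t := fun q => by
    obtain ⟨t, h1, h2⟩ := exists_dim_closure f hV hW hWV rfl q
    exact ⟨t, h1, (trdeg_of_presentation (A := A) (P := MvPolynomial (Fin m) A) hπ q).trans h2⟩
  exact ⟨{
    A := A
    B := B
    m := m
    M := MW
    φ := π.toRingHom
    emb := hW.fromSpec
    isOpenEmbedding := hW.fromSpec.isOpenEmbedding
    depth_eq := fun q => (hinv q).1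
    supp_eq := fun q => (hinv q).2
    dim_eq := hdim
    flat := fun q hq => by
      have h := (FlatLocus.isFlatOverAt_iff f F hV hW hWV _ (hmem q)).1 hq
      rw [hprime] at h
      let q' := PrimeSpectrum.comap π.toRingHom q
      haveI : IsLocalizedModule (Algebra.algebraMapSubmonoid B q'.asIdeal.primeCompl)
          (LocalizedModule.mkLinearMap q.asIdeal.primeCompl MW) := by
        rw [show Algebra.algebraMapSubmonoid B q'.asIdeal.primeCompl = q.asIdeal.primeCompl from
          primeCompl_eq_image (P := MvPolynomial (Fin m) A) hπ q]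
        infer_instance
      haveI : IsLocalizedModule q'.asIdeal.primeCompl
          ((LocalizedModule.mkLinearMap q.asIdeal.primeCompl MW).restrictScalars (MvPolynomial (Fin m) A)) :=
        IsLocalizedModule.restrictScalars _ _
      haveI := h
      exact Module.Flat.of_linearEquiv
        ((IsLocalizedModule.iso q'.asIdeal.primeCompl
          ((LocalizedModule.mkLinearMap q.asIdeal.primeCompl MW).restrictScalars (MvPolynomial (Fin m) A))).restrictScalars A)
    surjective := hπ
    ker_le := fun b hb => Module.mem_annihilator.2 fun z => by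
      show π.toRingHom b • z = 0
      rw [RingHom.mem_ker.1 hb, zero_smul]
    ker_fg := hker
    baseEmb := hV.fromSpec
    isOpenEmbedding_baseEmb := hV.fromSpec.isOpenEmbedding
    base_eq := fromSpec_base_eq f hV hW hWV π.toRingHom fun a => π.commutes a
    fibre_eq := fromSpec_base_eq_iff f hV hW hWV π.toRingHom fun a => π.commutes a },
    hW.primeIdealOf ⟨x, hxW⟩, hW.fromSpec_primeIdealOf _⟩

theorem flat_localized_of_surjective {A P B : Type u} [CommRing A] [CommRing P] [CommRing B] [Algebra A P]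
    [Algebra A B] [Algebra P B] [IsScalarTower A P B] (hπ : Function.Surjective (algebraMap P B))
    (q : PrimeSpectrum B) (h : Module.Flat A (Localization.AtPrime q.asIdeal)) :
    Module.Flat A (LocalizedModule (PrimeSpectrum.comap (algebraMap P B) q).asIdeal.primeCompl B) := by
  let q' := PrimeSpectrum.comap (algebraMap P B) q
  let l := Algebra.linearMap B (Localization.AtPrime q.asIdeal)
  haveI : IsLocalizedModule (Algebra.algebraMapSubmonoid B q'.asIdeal.primeCompl) l := by
    rw [show Algebra.algebraMapSubmonoid B q'.asIdeal.primeCompl = q.asIdeal.primeCompl from primeCompl_eq_image hπ q]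
    infer_instance
  haveI : IsLocalizedModule q'.asIdeal.primeCompl (l.restrictScalars P) := IsLocalizedModule.restrictScalars _ _
  exact Module.Flat.of_linearEquiv
    ((IsLocalizedModule.iso q'.asIdeal.primeCompl (l.restrictScalars P)).restrictScalars A)

theorem flat_stalkMap_iff {V : Y.Opens} (hV : IsAffineOpen V) {W : X.Opens} (hW : IsAffineOpen W)
    (hWV : W ≤ f ⁻¹ᵁ V) (x : X) (hx : x ∈ W) :
    letI := (f.appLE V W hWV).hom.toAlgebra
    (f.stalkMap x).hom.Flat ↔ Module.Flat Γ(Y, V) (Localization.AtPrime (hW.primeIdealOf ⟨x, hx⟩).asIdeal) := by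
  letI := (f.appLE V W hWV).hom.toAlgebra
  haveI : (hW.primeIdealOf ⟨x, hx⟩).asIdeal.LiesOver (hV.primeIdealOf ⟨f x, hWV hx⟩).asIdeal :=
    ⟨congr($(IsAffineOpen.comap_primeIdealOf_appLE V hV W hW hWV hx).1).symm⟩
  exact (CMFlatLib.appLE_stalkMap_iff (P := fun {R S} _ _ g => RingHom.Flat g) RingHom.Flat.respectsIso f hV hW hWV
      x hx).trans
    (CMFlatLib.localRingHom_flat_iff (hV.primeIdealOf ⟨f x, hWV hx⟩).asIdeal
      (hW.primeIdealOf ⟨x, hx⟩).asIdeal)

theorem exists_model_self' [LocallyOfFinitePresentation f] (x : X) :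
    ∃ 𝔐 : Model f (fun x => LocCoh.depth ((f.fiber (f.base x)).presheaf.stalk (f.asFiber x))
        ((f.fiber (f.base x)).presheaf.stalk (f.asFiber x)))
      (fun x => ringKrullDim ((f.fiber (f.base x)).presheaf.stalk (f.asFiber x)))
      (fun x => (f.stalkMap x).hom.Flat),
      x ∈ Set.range 𝔐.emb ∧ (IsLocallyNoetherian Y → IsNoetherianRing 𝔐.A) := by
  obtain ⟨_, ⟨V : Y.Opens, (hV : IsAffineOpen V), rfl⟩, hxV, -⟩ :=
    Y.isBasis_affineOpens.exists_subset_of_mem_open (Set.mem_univ (f x)) isOpen_univ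
  obtain ⟨_, ⟨W : X.Opens, (hW : IsAffineOpen W), rfl⟩, hxW, hWV⟩ :=
    X.isBasis_affineOpens.exists_subset_of_mem_open (a := x) (u := ↑(f ⁻¹ᵁ V)) hxV (f ⁻¹ᵁ V).2
  let A := Γ(Y, V)
  let B := Γ(X, W)
  have hfp := f.finitePresentation_appLE hV hW hWV
  algebraize [(f.appLE V W hWV).hom]
  obtain ⟨m, π, hπ, hker⟩ := Algebra.FinitePresentation.out (R := A) (A := B)
  letI : Algebra (MvPolynomial (Fin m) A) B := π.toRingHom.toAlgebra
  haveI : IsScalarTower A (MvPolynomial (Fin m) A) B := .of_algebraMap_eq fun r => (π.commutes r).symm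
  haveI : Module.FinitePresentation (MvPolynomial (Fin m) A) B :=
    Module.finitePresentation_of_surjective (Algebra.linearMap (MvPolynomial (Fin m) A) B) hπ hker
  have hmem : ∀ q : PrimeSpectrum B, hW.fromSpec q ∈ W := fun q => by
    rw [← SetLike.mem_coe, ← hW.range_fromSpec]
    exact ⟨q, rfl⟩
  have hprime : ∀ q : PrimeSpectrum B, hW.primeIdealOf ⟨hW.fromSpec q, hmem q⟩ = q := fun q =>
    hW.fromSpec.isOpenEmbedding.injective (hW.fromSpec_primeIdealOf _)
  have hinv : ∀ q : PrimeSpectrum B,
      letI := Algebra.TensorProduct.rightAlgebra (R := A)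
        (A := (basePrime A (PrimeSpectrum.comap π.toRingHom q)).ResidueField) (B := MvPolynomial (Fin m) A)
      LocCoh.depth ((f.fiber (f.base (hW.fromSpec q))).presheaf.stalk (f.asFiber (hW.fromSpec q)))
          ((f.fiber (f.base (hW.fromSpec q))).presheaf.stalk (f.asFiber (hW.fromSpec q))) =
          tensDepth (MvPolynomial (Fin m) A) (FibRing A (PrimeSpectrum.comap π.toRingHom q)) B ∧
        ringKrullDim ((f.fiber (f.base (hW.fromSpec q))).presheaf.stalk (f.asFiber (hW.fromSpec q))) =
          tensSupp (MvPolynomial (Fin m) A) (FibRing A (PrimeSpectrum.comap π.toRingHom q)) B := by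
    intro q
    let x' := hW.fromSpec q
    have hx' := hmem q
    let O := X.presheaf.stalk x'
    letI : Algebra B O := TopCat.Presheaf.algebra_section_stalk X.presheaf ⟨x', hx'⟩
    letI : Algebra A O := ((algebraMap B O).comp (algebraMap A B)).toAlgebra
    haveI : IsScalarTower A B O := .of_algebraMap_eq fun _ => rfl
    haveI : IsLocalization.AtPrime O q.asIdeal := by
      have h := hW.isLocalization_stalk ⟨x', hx'⟩
      rwa [hprime] at h
    haveI : IsLocalizedModule q.asIdeal.primeCompl (Algebra.linearMap B O) :=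
      isLocalizedModule_iff_isLocalization.mpr (by simpa using (inferInstance : IsLocalization.AtPrime O q.asIdeal))
    obtain ⟨h1, h2, -⟩ := fib_of_presentation (A := A) (P := MvPolynomial (Fin m) A) (M := B) (O := O)
      (Mx := O) hπ q (Algebra.linearMap B O)
    obtain ⟨k1, k2⟩ := fib_stalk_self f x'
    have hyV : f.base x' ∈ V := hWV hx'
    letI := TopCat.Presheaf.algebra_section_stalk Y.presheaf ⟨f.base x', hyV⟩
    haveI := hV.isLocalization_stalk ⟨f.base x', hyV⟩
    have hI : fibreIdeal f x' = (q.asIdeal.under A).map (algebraMap A O) := by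
      have hpr : (hV.primeIdealOf ⟨f.base x', hyV⟩).asIdeal = q.asIdeal.under A := by
        rw [← congr($(IsAffineOpen.comap_primeIdealOf_appLE V hV W hW hWV hx').1), hprime]
        rfl
      rw [fibreIdeal, ← IsLocalization.AtPrime.map_eq_maximalIdeal (hV.primeIdealOf ⟨f.base x', hyV⟩).asIdeal
        (Y.presheaf.stalk (f.base x')), Ideal.map_map, hpr]
      congr 1
      ext r
      show (f.stalkMap x') (Y.presheaf.germ V (f.base x') hyV r) = X.presheaf.germ W x' hx' (f.appLE V W hWV r)
      rw [Scheme.Hom.germ_stalkMap_apply, Scheme.Hom.appLE, CommRingCat.comp_apply, X.presheaf.germ_res_apply]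
    refine ⟨k1.trans ?_, k2.trans ?_⟩
    · show LocCoh.depth O ((X.presheaf.stalk x' : Type u) ⧸ (fibreIdeal f x' • ⊤ : Submodule O (X.presheaf.stalk x'))) = _
      rw [hI]; exact h1.symm
    · show Module.supportDim O ((X.presheaf.stalk x' : Type u) ⧸ (fibreIdeal f x' • ⊤ : Submodule O (X.presheaf.stalk x'))) = _
      rw [hI]; exact h2.symm
  have hdim : ∀ q : PrimeSpectrum B, ∃ t : ℕ,
      topologicalKrullDim ↥(closure ({f.asFiber (hW.fromSpec q)} : Set ↥(f.fiber (f.base (hW.fromSpec q))))) =
        (t : WithBot ℕ∞) ∧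
      Algebra.trdeg (A ⧸ basePrime A (PrimeSpectrum.comap π.toRingHom q))
        (MvPolynomial (Fin m) A ⧸ (PrimeSpectrum.comap π.toRingHom q).asIdeal) = t := fun q => by
    obtain ⟨t, h1, h2⟩ := exists_dim_closure f hV hW hWV rfl q
    exact ⟨t, h1, (trdeg_of_presentation (A := A) (P := MvPolynomial (Fin m) A) hπ q).trans h2⟩
  exact ⟨{
    A := A
    B := B
    m := m
    M := B
    φ := π.toRingHom
    emb := hW.fromSpec
    isOpenEmbedding := hW.fromSpec.isOpenEmbedding
    depth_eq := fun q => (hinv q).1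
    supp_eq := fun q => (hinv q).2
    dim_eq := hdim
    flat := fun q hq => by
      have hq' : (f.stalkMap (hW.fromSpec q)).hom.Flat := hq
      have h := (flat_stalkMap_iff f hV hW hWV _ (hmem q)).1 hq'
      rw [hprime] at h
      exact flat_localized_of_surjective (A := A) (P := MvPolynomial (Fin m) A) hπ q h
    surjective := hπ
    ker_le := fun b hb => Module.mem_annihilator.2 fun z => by
      rw [Algebra.smul_def, show algebraMap (MvPolynomial (Fin m) A) B b = 0 from hb, zero_mul]
    ker_fg := hker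
    baseEmb := hV.fromSpec
    isOpenEmbedding_baseEmb := hV.fromSpec.isOpenEmbedding
    base_eq := fromSpec_base_eq f hV hW hWV π.toRingHom fun a => π.commutes a
    fibre_eq := fromSpec_base_eq_iff f hV hW hWV π.toRingHom fun a => π.commutes a },
    ⟨hW.primeIdealOf ⟨x, hxW⟩, hW.fromSpec_primeIdealOf _⟩,
    fun _ => IsLocallyNoetherian.component_noetherian ⟨V, hV⟩⟩

theorem exists_model_self [LocallyOfFinitePresentation f] (x : X) :
    ∃ 𝔐 : Model f (fun x => LocCoh.depth ((f.fiber (f.base x)).presheaf.stalk (f.asFiber x))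
        ((f.fiber (f.base x)).presheaf.stalk (f.asFiber x)))
      (fun x => ringKrullDim ((f.fiber (f.base x)).presheaf.stalk (f.asFiber x)))
      (fun x => (f.stalkMap x).hom.Flat), x ∈ Set.range 𝔐.emb :=
  let ⟨𝔐, h, _⟩ := exists_model_self' f x
  ⟨𝔐, h⟩

end Groth.Agent.FibreDepth
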