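import Groth.Agent.GorLib.Faltings
import Groth.Agent.GorLib.CM
import Groth.Agent.RatliffLib.Equidim
import Groth.Agent.QGorLib.Depth

/-!
Depth, support dimension and projective dimension over local rings: invariance under surjections,
the Auslander–Buchsbaum equivalence over regular local rings, flat local base change.
-/

set_option autoImplicit false

universe u

namespace Groth.Agent.FibreDepth

open IsLocalRing CategoryTheory TensorProduct RingTheory.Sequence

/-- The projective dimension of `R ⊗ M` is at most `e`. -/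
def PdLE (P : Type u) [CommRing P] (R : Type u) [CommRing R] [Algebra P R] (M : Type u) [AddCommGroup M] [Module P M]
    (e : ℕ) : Prop :=
  HasProjectiveDimensionLT (ModuleCat.of R (R ⊗[P] M)) (e + 1)

section Surjection

variable {O R : Type u} [CommRing O] [CommRing R] [Algebra O R]
  {X : Type u} [AddCommGroup X] [Module O X] [Module R X] [IsScalarTower O R X]

theorem smul_top_eq_top_iff (hf : Function.Surjective (algebraMap O R)) (I : Ideal R) :
    (I.comap (algebraMap O R)) • (⊤ : Submodule O X) = ⊤ ↔ I • (⊤ : Submodule R X) = ⊤ := by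
  have h : ∀ x : X, x ∈ (I.comap (algebraMap O R)) • (⊤ : Submodule O X) ↔ x ∈ I • (⊤ : Submodule R X) := by
    intro x
    constructor
    · intro hx
      refine Submodule.smul_induction_on hx (fun a ha y _ => ?_) fun y z hy hz => add_mem hy hz
      rw [← algebraMap_smul R a y]
      exact Submodule.smul_mem_smul ha Submodule.mem_top
    · intro hx
      refine Submodule.smul_induction_on hx (fun a ha y _ => ?_) fun y z hy hz => add_mem hy hz
      obtain ⟨a, rfl⟩ := hf a
      rw [algebraMap_smul]
      exact Submodule.smul_mem_smul ha Submodule.mem_top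
  simp only [Submodule.eq_top_iff', h]

theorem idealDepth_of_surjective (hf : Function.Surjective (algebraMap O R)) (I : Ideal R) :
    LocCoh.idealDepth (I.comap (algebraMap O R)) X = LocCoh.idealDepth I X := by
  classical
  unfold LocCoh.idealDepth
  simp only [smul_top_eq_top_iff (X := X) hf I]
  split_ifs with h
  · rfl
  refine le_antisymm (iSup₂_le fun rs hrs => ?_) (iSup₂_le fun rs hrs => ?_)
  · refine le_iSup₂_of_le (rs.map (algebraMap O R))
      ⟨(isWeaklyRegular_map_algebraMap_iff (S := R) (M := X) rs).2 hrs.1, ?_⟩ (by rw [List.length_map])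
    intro r hr
    obtain ⟨a, ha, rfl⟩ := List.mem_map.1 hr
    exact hrs.2 a ha
  · choose g hg using hf
    have hmap : (rs.map g).map (algebraMap O R) = rs := by
      rw [List.map_map]
      conv_rhs => rw [← List.map_id rs]
      exact List.map_congr_left fun r _ => hg r
    refine le_iSup₂_of_le (rs.map g) ⟨?_, ?_⟩ (by rw [List.length_map])
    · refine (isWeaklyRegular_map_algebraMap_iff (S := R) (M := X) (rs.map g)).1 ?_
      rw [hmap]; exact hrs.1
    · intro a ha
      obtain ⟨r, hr, rfl⟩ := List.mem_map.1 ha
      rw [Ideal.mem_comap, hg]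
      exact hrs.2 r hr

theorem depth_of_surjective [IsLocalRing O] [IsLocalRing R] (hf : Function.Surjective (algebraMap O R)) :
    LocCoh.depth O X = LocCoh.depth R X := by
  haveI : IsLocalHom (algebraMap O R) := hf.isLocalHom _
  rw [LocCoh.depth, LocCoh.depth, ← idealDepth_of_surjective hf,
    ((local_hom_TFAE (algebraMap O R)).out 0 4 rfl rfl).mp inferInstance]

theorem supportDim_of_surjective [Module.Finite R X] (hf : Function.Surjective (algebraMap O R)) :
    Module.supportDim O X = Module.supportDim R X := by
  haveI : Module.Finite O R := Module.Finite.of_surjective (Algebra.linearMap O R) hf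
  haveI : Module.Finite O X := Module.Finite.trans R X
  rw [Module.supportDim_eq_ringKrullDim_quotient_annihilator, Module.supportDim_eq_ringKrullDim_quotient_annihilator]
  let g : O →+* R ⧸ Module.annihilator R X := (Ideal.Quotient.mk _).comp (algebraMap O R)
  refine ringKrullDim_eq_of_ringEquiv ((Ideal.quotEquivOfEq ?_).trans
    (RingHom.quotientKerEquivOfSurjective (f := g) (Ideal.Quotient.mk_surjective.comp hf)))
  ext a
  rw [RingHom.mem_ker, RingHom.comp_apply, Ideal.Quotient.eq_zero_iff_mem, Module.mem_annihilator, Module.mem_annihilator]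
  simp only [algebraMap_smul]

end Surjection

section Regular

variable {A : Type u} [CommRing A] [IsRegularLocalRing A] {M : Type u} [AddCommGroup M] [Module A M]
  [Module.Finite A M]

/-- Auslander–Buchsbaum over a regular local ring. -/
theorem projDimLT_iff_le_depth (d : ℕ) (hd : ringKrullDim A = d) (k : ℕ) :
    HasProjectiveDimensionLT (ModuleCat.of A M) (k + 1) ↔ ((d - k : ℕ) : ℕ∞) ≤ LocCoh.depth A M := by
  rw [GorLib.natCast_le_depth_iff_subsingleton_H]
  constructor
  · intro h j hj
    exact (GorLib.subsingleton_H_iff_ext (GorLib.gorensteinLocal_of_regular A) hd M j (d - j) (by omega)).2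
      (h.subsingleton _ (k + 1) (d - j) (by omega) _)
  · intro h
    exact RegLocal.projDimLT_of_ext_vanish A M d hd k fun j hkj hjd =>
      (GorLib.subsingleton_H_iff_ext (GorLib.gorensteinLocal_of_regular A) hd M (d - j) j (by omega)).1
        (h (d - j) (by omega))

theorem depth_le_dim [Nontrivial M] (d : ℕ) (hd : ringKrullDim A = d) : LocCoh.depth A M ≤ d := by
  have h1 := (QGorLib.depth_le_supportDim (R := A) M).trans (Module.supportDim_le_ringKrullDim A M)
  rw [hd] at h1
  exact WithBot.coe_le_coe.mp h1

end Regular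

section FlatLocal

variable {R R' : Type u} [CommRing R] [CommRing R'] [IsLocalRing R] [IsLocalRing R'] [IsNoetherianRing R]
  [IsNoetherianRing R'] [Algebra R R'] [IsLocalHom (algebraMap R R')] [Module.Flat R R']
  {N : Type u} [AddCommGroup N] [Module R N] [Module.Finite R N]

theorem projDimLT_baseChange_iff (k : ℕ) :
    HasProjectiveDimensionLT (ModuleCat.of R' (R' ⊗[R] N)) (k + 1) ↔
      HasProjectiveDimensionLT (ModuleCat.of R N) (k + 1) :=
  haveI : Module.FaithfullyFlat R R' := Module.FaithfullyFlat.of_flat_of_isLocalHom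
  ⟨RegLocal.of_faithfullyFlat_baseChange R' k N, RegLocal.flat_baseChange R' k N⟩

omit [IsLocalRing R] [IsLocalRing R'] [IsNoetherianRing R] [IsNoetherianRing R'] [IsLocalHom (algebraMap R R')]
  [Module.Flat R R'] in
theorem support_baseChange :
    Module.support R' (R' ⊗[R] N) =
      PrimeSpectrum.zeroLocus (((Module.annihilator R N).map (algebraMap R R') : Ideal R') : Set R') := by
  refine subset_antisymm ?_ fun Q hQ => ?_
  · rw [Module.support_eq_zeroLocus]
    refine PrimeSpectrum.zeroLocus_anti_mono_ideal (Ideal.map_le_iff_le_comap.2 fun a ha => ?_)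
    refine Module.mem_annihilator.2 fun z => ?_
    rw [algebraMap_smul]
    induction z with
    | zero => simp
    | tmul x y => rw [← tmul_smul, Module.mem_annihilator.1 ha, tmul_zero]
    | add x y hx hy => rw [smul_add, hx, hy, add_zero]
  · let p : PrimeSpectrum R := PrimeSpectrum.comap (algebraMap R R') Q
    have hp : p ∈ Module.support R N := by
      rw [Module.support_eq_zeroLocus]
      exact Ideal.map_le_iff_le_comap.1 hQ
    rw [Module.mem_support_iff_nontrivial_residueField_tensorProduct] at hp ⊢
    letI : Algebra p.asIdeal.ResidueField Q.asIdeal.ResidueField :=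
      (Ideal.ResidueField.mapₐ p.asIdeal Q.asIdeal (Algebra.ofId R R') rfl).toRingHom.toAlgebra
    haveI : IsScalarTower R p.asIdeal.ResidueField Q.asIdeal.ResidueField := .of_algebraMap_eq fun a =>
      ((Ideal.ResidueField.mapₐ p.asIdeal Q.asIdeal (Algebra.ofId R R') rfl).commutes a).symm
    have h1 : Nontrivial (Q.asIdeal.ResidueField ⊗[p.asIdeal.ResidueField] (p.asIdeal.ResidueField ⊗[R] N)) :=
      inferInstance
    let e₁ : Q.asIdeal.ResidueField ⊗[R'] (R' ⊗[R] N) ≃ₗ[R'] Q.asIdeal.ResidueField ⊗[R] N :=
      AlgebraTensorModule.cancelBaseChange R R' R' Q.asIdeal.ResidueField N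
    let e₂ : Q.asIdeal.ResidueField ⊗[p.asIdeal.ResidueField] (p.asIdeal.ResidueField ⊗[R] N) ≃ₗ[p.asIdeal.ResidueField]
        Q.asIdeal.ResidueField ⊗[R] N :=
      AlgebraTensorModule.cancelBaseChange R p.asIdeal.ResidueField p.asIdeal.ResidueField Q.asIdeal.ResidueField N
    exact (e₁.toEquiv.trans e₂.toEquiv.symm).nontrivial

omit [IsLocalHom (algebraMap R R')] in
theorem supportDim_baseChange_eq :
    Module.supportDim R' (R' ⊗[R] N) =
      ringKrullDim (R' ⧸ (Module.annihilator R N).map (algebraMap R R')) := by
  rw [← Module.supportDim_quotient_eq_ringKrullDim, Module.supportDim, Module.supportDim, support_baseChange,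
    GorLib.support_quotient]

theorem supportDim_baseChange_add :
    Module.supportDim R' (R' ⊗[R] N) + ringKrullDim R = Module.supportDim R N + ringKrullDim R' := by
  rcases subsingleton_or_nontrivial N with hN | hN
  · haveI : Subsingleton (R' ⊗[R] N) := inferInstance
    rw [Module.supportDim_eq_bot_of_subsingleton, Module.supportDim_eq_bot_of_subsingleton, WithBot.bot_add,
      WithBot.bot_add]
  let a := Module.annihilator R N
  let a' := a.map (algebraMap R R')
  have ha : a ≠ ⊤ := fun h => not_subsingleton N (Module.annihilator_eq_top_iff.1 h)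
  have ha' : a' ≠ ⊤ := fun h => (maximalIdeal.isMaximal R').ne_top
    (top_le_iff.1 (h ▸ RatliffLib.map_le_maximal a ha))
  haveI : Nontrivial (R ⧸ a) := Ideal.Quotient.nontrivial_iff.2 ha
  haveI : Nontrivial (R' ⧸ a') := Ideal.Quotient.nontrivial_iff.2 ha'
  haveI : IsLocalRing (R ⧸ a) := .of_surjective' _ Ideal.Quotient.mk_surjective
  haveI : IsLocalRing (R' ⧸ a') := .of_surjective' _ Ideal.Quotient.mk_surjective
  haveI : Module.Flat (R ⧸ a) (R' ⧸ a') := RatliffLib.flat_quot (A := R) (B := R') a
  haveI : IsLocalHom (algebraMap (R ⧸ a) (R' ⧸ a')) := by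
    refine ((local_hom_TFAE (algebraMap (R ⧸ a) (R' ⧸ a'))).out 0 2 rfl rfl).mpr ?_
    rw [← map_maximalIdeal_of_surjective (Ideal.Quotient.mk a) Ideal.Quotient.mk_surjective, Ideal.map_map,
      ← map_maximalIdeal_of_surjective (Ideal.Quotient.mk a') Ideal.Quotient.mk_surjective]
    refine le_trans (le_of_eq ?_) (Ideal.map_mono (RatliffLib.map_le_maximal _ (maximalIdeal.isMaximal R).ne_top))
    rw [Ideal.map_map]
    rfl
  rw [supportDim_baseChange_eq, Module.supportDim_eq_ringKrullDim_quotient_annihilator,
    RatliffLib.dim_flat_local (A := R ⧸ a) (A' := R' ⧸ a'), RatliffLib.dim_flat_local (A := R) (A' := R'),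
    show ringKrullDim ((R' ⧸ a') ⧸ (maximalIdeal (R ⧸ a)).map (algebraMap (R ⧸ a) (R' ⧸ a'))) =
      ringKrullDim (R' ⧸ (maximalIdeal R).map (algebraMap R R')) from ?_]
  · ac_rfl
  refine ringKrullDim_eq_of_ringEquiv ((Ideal.quotEquivOfEq (J := ((maximalIdeal R).map (algebraMap R R')).map
    (Ideal.Quotient.mk a')) ?_).trans
      (DoubleQuot.quotQuotEquivQuotOfLE (Ideal.map_mono (le_maximalIdeal ha))))
  rw [← map_maximalIdeal_of_surjective (Ideal.Quotient.mk a) Ideal.Quotient.mk_surjective, Ideal.map_map, Ideal.map_map]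
  rfl

end FlatLocal

end Groth.Agent.FibreDepth
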