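import Groth.Agent.FibreDepth.Bridge
import Groth.Agent.DimFormulaLib.Fibre

/-!
Semicontinuity of the codimension of a closed subset in the fibres of affine space.
-/

set_option autoImplicit false

universe u

namespace Groth.Agent.FibreDepth

open IsLocalRing TensorProduct

attribute [local instance] Algebra.TensorProduct.rightAlgebra

/-- The codimension of `V(J R)` in `Spec R` is at least `j`. -/
def CodimAt {P : Type u} [CommRing P] (R : Type u) [CommRing R] [Algebra P R] (J : Ideal P) (j : ℕ) : Prop :=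
  ringKrullDim (R ⧸ J.map (algebraMap P R)) + j ≤ ringKrullDim R

/-- The codimension of `V(J)` in the fibre at `q` is at least `j`. -/
def CodimGE (A : Type u) [CommRing A] {P : Type u} [CommRing P] [Algebra A P] (J : Ideal P) (q : PrimeSpectrum P)
    (j : ℕ) : Prop :=
  CodimAt (FibRing A q) J j

theorem codimAt_of_isUnit {P : Type u} [CommRing P] (R : Type u) [CommRing R] [Algebra P R] (J : Ideal P) (j : ℕ)
    (f : P) (hf : f ∈ J) (hu : IsUnit (algebraMap P R f)) : CodimAt R J j := by
  haveI : Subsingleton (R ⧸ J.map (algebraMap P R)) :=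
    Ideal.Quotient.subsingleton_iff.2 (Ideal.eq_top_of_isUnit_mem _ (Ideal.mem_map_of_mem _ hf) hu)
  rw [CodimAt, ringKrullDim_eq_bot_of_subsingleton, WithBot.bot_add]
  exact bot_le

theorem codimAt_iff_of_ker {P S R R' : Type u} [CommRing P] [CommRing S] [CommRing R] [CommRing R'] [Algebra P S]
    [Algebra P R] (φ : S →ₐ[P] R) (hφ : Function.Surjective φ) (g : S →+* R') (hg : Function.Surjective g)
    (J : Ideal P) (h : RingHom.ker g = RingHom.ker φ.toRingHom ⊔ J.map (algebraMap P S)) (j : ℕ) :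
    CodimAt R J j ↔ ringKrullDim R' + j ≤ ringKrullDim R := by
  let f : S →+* R ⧸ J.map (algebraMap P R) := (Ideal.Quotient.mk _).comp φ.toRingHom
  have hf : Function.Surjective f := Ideal.Quotient.mk_surjective.comp hφ
  have hkf : RingHom.ker f = RingHom.ker φ.toRingHom ⊔ J.map (algebraMap P S) := by
    rw [show RingHom.ker f = (RingHom.ker (Ideal.Quotient.mk (J.map (algebraMap P R)))).comap φ.toRingHom from rfl,
      Ideal.mk_ker, show J.map (algebraMap P R) = (J.map (algebraMap P S)).map φ.toRingHom by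
        rw [Ideal.map_map]; congr 1; exact RingHom.ext fun b => (φ.commutes b).symm,
      Ideal.comap_map_of_surjective φ.toRingHom hφ, ← RingHom.ker_eq_comap_bot, sup_comm]
  rw [CodimAt, ringKrullDim_eq_of_ringEquiv ((RingHom.quotientKerEquivOfSurjective hf).symm.trans
    ((Ideal.quotEquivOfEq (hkf.trans h.symm)).trans (RingHom.quotientKerEquivOfSurjective hg)))]

section Quotient

variable {A P : Type u} [CommRing A] [CommRing P] [Algebra A P]

theorem mk_surjective_localRingHom (J : Ideal P) (q : PrimeSpectrum P) (c : PrimeSpectrum (P ⧸ J))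
    (hc : q.asIdeal = c.asIdeal.comap (Ideal.Quotient.mk J)) :
    Function.Surjective (Localization.localRingHom q.asIdeal c.asIdeal (Ideal.Quotient.mk J) hc) ∧
      RingHom.ker (Localization.localRingHom q.asIdeal c.asIdeal (Ideal.Quotient.mk J) hc) =
        J.map (algebraMap P (Localization.AtPrime q.asIdeal)) := by
  refine ⟨fun z => ?_, le_antisymm (fun z hz => ?_) (Ideal.map_le_iff_le_comap.2 fun b hb => ?_)⟩
  · obtain ⟨x, ⟨s, hs⟩, rfl⟩ := IsLocalization.exists_mk'_eq c.asIdeal.primeCompl z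
    obtain ⟨x, rfl⟩ := Ideal.Quotient.mk_surjective x
    obtain ⟨s, rfl⟩ := Ideal.Quotient.mk_surjective s
    exact ⟨IsLocalization.mk' _ x (⟨s, fun h => hs ((SetLike.ext_iff.1 hc s).1 h)⟩ : q.asIdeal.primeCompl),
      Localization.localRingHom_mk' ..⟩
  · obtain ⟨b, ⟨s, hs⟩, rfl⟩ := IsLocalization.exists_mk'_eq q.asIdeal.primeCompl z
    rw [RingHom.mem_ker, Localization.localRingHom_mk', IsLocalization.mk'_eq_zero_iff] at hz
    obtain ⟨⟨u, hu⟩, hu0⟩ := hz
    obtain ⟨t, rfl⟩ := Ideal.Quotient.mk_surjective u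
    rw [IsLocalization.mk'_mem_map_algebraMap_iff]
    refine ⟨t, fun h => hu ((SetLike.ext_iff.1 hc t).1 h), ?_⟩
    rw [← Ideal.Quotient.eq_zero_iff_mem, map_mul]
    exact hu0
  · rw [Ideal.mem_comap, RingHom.mem_ker, Localization.localRingHom_to_map, Ideal.Quotient.eq_zero_iff_mem.2 hb,
      map_zero]

theorem codimGE_quot_iff (J : Ideal P) (q : PrimeSpectrum P) (c : PrimeSpectrum (P ⧸ J))
    (hc : q.asIdeal = c.asIdeal.comap (Ideal.Quotient.mk J)) (j : ℕ) :
    CodimGE A J q j ↔ ringKrullDim (FibRing A c) + j ≤ ringKrullDim (FibRing A q) := by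
  obtain ⟨φ, hφ, hkerφ⟩ := exists_surjective_fibRing (A := A) q
  obtain ⟨ψ, hψ, hkerψ⟩ := exists_surjective_fibRing (A := A) c
  obtain ⟨hπ, hkerπ⟩ := mk_surjective_localRingHom J q c hc
  let π := Localization.localRingHom q.asIdeal c.asIdeal (Ideal.Quotient.mk J) hc
  have hp : basePrime A c = basePrime A q := by
    ext a
    exact (SetLike.ext_iff.1 hc (algebraMap A P a)).symm
  let g : Localization.AtPrime q.asIdeal →+* FibRing A c := ψ.toRingHom.comp π
  have hg : Function.Surjective g := hψ.comp hπ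
  have hkg : RingHom.ker g = (basePrime A q).map (algebraMap A (Localization.AtPrime q.asIdeal)) ⊔
      J.map (algebraMap P (Localization.AtPrime q.asIdeal)) := by
    rw [show RingHom.ker g = (RingHom.ker ψ.toRingHom).comap π from rfl, hkerψ, hp,
      show (basePrime A q).map (algebraMap A (Localization.AtPrime c.asIdeal)) =
        ((basePrime A q).map (algebraMap A (Localization.AtPrime q.asIdeal))).map π by
          rw [Ideal.map_map]; congr 1; ext a
          show _ = π (algebraMap A (Localization.AtPrime q.asIdeal) a)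
          rw [IsScalarTower.algebraMap_apply A P (Localization.AtPrime q.asIdeal), Localization.localRingHom_to_map]
          exact IsScalarTower.algebraMap_apply A (P ⧸ J) (Localization.AtPrime c.asIdeal) a,
      Ideal.comap_map_of_surjective π hπ, ← RingHom.ker_eq_comap_bot, hkerπ]
  refine codimAt_iff_of_ker (S := Localization.AtPrime q.asIdeal) (R := FibRing A q) (R' := FibRing A c) φ hφ g hg J ?_ j
  rw [hkerφ, hkg]

theorem fibRing_localDim [Algebra.FiniteType A P] (q : PrimeSpectrum P) :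
    ∃ a r : ℕ, ringKrullDim (FibRing A q) = (a : WithBot ℕ∞) ∧
      Algebra.trdeg (A ⧸ basePrime A q) (P ⧸ q.asIdeal) = r ∧
      FlatMor.localDim (PrimeSpectrum ((basePrime A q).Fiber P)) (point A q) = ((a + r : ℕ) : WithBot ℕ∞) := by
  let p := basePrime A q
  let Q := point A q
  haveI : q.asIdeal.LiesOver p := ⟨rfl⟩
  obtain ⟨r, hr⟩ := DimFormulaLib.exists_nat_trdeg_quotient p.ResidueField (p.Fiber P) Q.asIdeal
  obtain ⟨a, ha, hloc, -⟩ := DimFormulaLib.localDim_eq_height_add p.ResidueField (p.Fiber P) Q r hr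
  refine ⟨a, r, ?_, ?_, hloc⟩
  · rw [IsLocalization.AtPrime.ringKrullDim_eq_height Q.asIdeal (FibRing A q), ha]
    rfl
  · rw [← DimFormulaLib.trdeg_fibre p q.asIdeal Q.asIdeal (comap_point q), hr]

/-- Upper semicontinuity of the local dimension of fibres. -/
theorem isOpen_localDim_le [Algebra.FiniteType A P] (N : ℕ) :
    IsOpen {q : PrimeSpectrum P |
      FlatMor.localDim (PrimeSpectrum ((basePrime A q).Fiber P)) (point A q) ≤ (N : WithBot ℕ∞)} := by
  refine isOpen_iff_forall_mem_open.2 fun q hq => ?_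
  obtain ⟨a, r, -, -, hloc⟩ := fibRing_localDim (A := A) q
  haveI : q.asIdeal.LiesOver (basePrime A q) := ⟨rfl⟩
  obtain ⟨g, hg, φ, hqf⟩ := DimFormulaLib.exists_quasiFinite_nhd q.asIdeal (basePrime A q) (point A q)
    (comap_point q) (a + r) hloc
  have hN : a + r ≤ N := by
    have h : ((a + r : ℕ) : WithBot ℕ∞) ≤ (N : WithBot ℕ∞) := hloc.symm.trans_le hq
    exact_mod_cast h
  refine ⟨PrimeSpectrum.basicOpen g, fun q' hq' => ?_, (PrimeSpectrum.basicOpen g).2, hg⟩
  let p' := basePrime A q'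
  let Q' := point A q'
  obtain ⟨r', hr'⟩ := DimFormulaLib.exists_nat_trdeg_quotient p'.ResidueField (p'.Fiber P) Q'.asIdeal
  obtain ⟨a', ha', hloc', -⟩ := DimFormulaLib.localDim_eq_height_add p'.ResidueField (p'.Fiber P) Q' r' hr'
  haveI : IsNoetherianRing (p'.Fiber P) := Algebra.FiniteType.isNoetherianRing p'.ResidueField _
  obtain ⟨P₀, -, hle, hrel⟩ := DimFormulaLib.exists_isMin_relHeight_eq_height Q'
  obtain ⟨n, hn⟩ := DimFormulaLib.exists_nat_trdeg_quotient p'.ResidueField (p'.Fiber P) P₀.asIdeal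
  obtain ⟨b, hb, hnb⟩ := DimFormulaLib.trdeg_eq_relHeight_add p'.ResidueField (p'.Fiber P) hle n r' hn hr'
  have hba : b = a' := by exact_mod_cast (hb.symm.trans (hrel.trans ha'))
  let P₁ := P₀.asIdeal.comap (Algebra.TensorProduct.includeRight : P →ₐ[A] p'.Fiber P).toRingHom
  have hP₁ : g ∉ P₁ := fun h => hq' ((SetLike.ext_iff.1 (comap_point (A := A) q') g).1 (hle h))
  haveI hlo : P₁.LiesOver p' := ⟨by
    let z := (PrimeSpectrum.preimageEquivFiber A P ⟨p', inferInstance⟩).symm P₀
    exact congrArg PrimeSpectrum.asIdeal z.2.symm⟩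
  have h1 := DimFormulaLib.trdeg_le_of_quasiFiniteAt (a + r) φ P₁ (hqf P₁ hP₁)
  have h2 : Algebra.trdeg (A ⧸ p') (P ⧸ P₁) = n := (DimFormulaLib.trdeg_fibre p' P₁ P₀.asIdeal rfl).symm.trans hn
  have h3 : ∀ (I : Ideal A) [P₁.LiesOver I], I = p' → Algebra.trdeg (A ⧸ I) (P ⧸ P₁) = n := by
    intro I _ hI
    subst hI
    exact h2
  rw [h3 (P₁.under A) hlo.over.symm] at h1
  have h4 : n ≤ a + r := by exact_mod_cast h1
  refine hloc'.le.trans ?_
  exact_mod_cast (by omega : a' + r' ≤ N)

end Quotient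

/-- Openness of the lower bound on the codimension in affine space. -/
theorem isOpen_codimGE {A : Type u} [CommRing A] {m : ℕ} (J : Ideal (MvPolynomial (Fin m) A)) (j : ℕ) :
    IsOpen {q : PrimeSpectrum (MvPolynomial (Fin m) A) | CodimGE A J q j} := by
  refine isOpen_iff_forall_mem_open.2 fun q hq => ?_
  by_cases hJ : J ≤ q.asIdeal
  swap
  · obtain ⟨f, hf, hfq⟩ := SetLike.not_le_iff_exists.1 hJ
    refine ⟨PrimeSpectrum.basicOpen f, fun q' hq' => ?_, (PrimeSpectrum.basicOpen f).2, hfq⟩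
    exact codimAt_of_isUnit _ J j f hf (isUnit_algebraMap_fibRing q' f hq')
  let C := MvPolynomial (Fin m) A ⧸ J
  let π : PrimeSpectrum C → PrimeSpectrum (MvPolynomial (Fin m) A) := PrimeSpectrum.comap (Ideal.Quotient.mk J)
  have hrange : Set.range π = PrimeSpectrum.zeroLocus (J : Set (MvPolynomial (Fin m) A)) := by
    exact (range_comap_of_surjective _ (Ideal.Quotient.mk J) Ideal.Quotient.mk_surjective).trans (by rw [Ideal.mk_ker])
  have hemb : Topology.IsEmbedding π :=
    (PrimeSpectrum.isClosedEmbedding_comap_of_surjective C _ Ideal.Quotient.mk_surjective).isEmbedding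
  -- the condition read on the quotient
  have key : ∀ c : PrimeSpectrum C, CodimGE A J (π c) j ↔ j ≤ m ∧
      FlatMor.localDim (PrimeSpectrum ((basePrime A c).Fiber C)) (point A c) ≤ ((m - j : ℕ) : WithBot ℕ∞) := by
    intro c
    obtain ⟨a, r, ha, hr, hloc⟩ := fibRing_localDim (A := A) c
    obtain ⟨d, t, hd, ht, hm⟩ := fibRing_dim (A := A) (π c)
    have hrt : r = t := by
      have hp : basePrime A (π c) = basePrime A c := rfl
      let e : (MvPolynomial (Fin m) A ⧸ (π c).asIdeal) ≃+* C ⧸ c.asIdeal :=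
        RingEquiv.ofBijective (Ideal.quotientMap c.asIdeal (Ideal.Quotient.mk J) le_rfl)
          ⟨Ideal.quotientMap_injective, Ideal.quotientMap_surjective Ideal.Quotient.mk_surjective⟩
      haveI : c.asIdeal.LiesOver (basePrime A c) := ⟨rfl⟩
      haveI : (π c).asIdeal.LiesOver (basePrime A (π c)) := ⟨rfl⟩
      have h := DimFormulaLib.trdeg_eq_of_ringEquiv (R := A ⧸ basePrime A (π c)) (R' := A ⧸ basePrime A c)
        (A := MvPolynomial (Fin m) A ⧸ (π c).asIdeal) (A' := C ⧸ c.asIdeal)
        (Ideal.quotEquivOfEq hp) e fun x => by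
          obtain ⟨x, rfl⟩ := Ideal.Quotient.mk_surjective x
          rfl
      rw [ht, hr] at h
      exact_mod_cast h.symm
    rw [codimGE_quot_iff J (π c) c rfl, ha, hd, hloc]
    constructor
    · intro h
      have h' : a + j ≤ d := by exact_mod_cast h
      exact ⟨by omega, by exact_mod_cast (by omega : a + r ≤ m - j)⟩
    · rintro ⟨hj, h⟩
      have h' : a + r ≤ m - j := by exact_mod_cast h
      exact_mod_cast (by omega : a + j ≤ d)
  obtain ⟨c, rfl⟩ : q ∈ Set.range π := by rw [hrange]; exact hJ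
  obtain ⟨hj, hc⟩ := (key c).1 hq
  obtain ⟨U, hU, hUV⟩ := hemb.isInducing.isOpen_iff.1 (isOpen_localDim_le (A := A) (P := C) (m - j))
  refine ⟨U, fun q' hq' => ?_, hU, (Set.ext_iff.1 hUV c).2 hc⟩
  by_cases hq'J : J ≤ q'.asIdeal
  · obtain ⟨c', rfl⟩ : q' ∈ Set.range π := by rw [hrange]; exact hq'J
    exact (key c').2 ⟨hj, (Set.ext_iff.1 hUV c').1 hq'⟩
  · obtain ⟨f, hf, hfq⟩ := SetLike.not_le_iff_exists.1 hq'J
    exact codimAt_of_isUnit _ J j f hf (isUnit_algebraMap_fibRing q' f hfq)

end Groth.Agent.FibreDepth
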