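import Groth.Agent.FibreDepth.Basic

/-!
Depth and support dimension of the fibre of a module, computed from a quotient of the localization;
dimension and regularity of the fibre rings of polynomial algebras.
-/

set_option autoImplicit false

universe u

namespace Groth.Agent.FibreDepth

open IsLocalRing TensorProduct

attribute [local instance] Algebra.TensorProduct.rightAlgebra

section Quot

variable {O R : Type u} [CommRing O] [CommRing R] [Algebra O R]
  {X N : Type u} [AddCommGroup X] [Module O X] [AddCommGroup N] [Module O N] [Module R N] [IsScalarTower O R N]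

/-- A base change along a surjection is a quotient. -/
theorem exists_quot_equiv (hf : Function.Surjective (algebraMap O R)) (g : X →ₗ[O] N) (hg : IsBaseChange R g) :
    Nonempty (N ≃ₗ[O] X ⧸ (RingHom.ker (algebraMap O R) • ⊤ : Submodule O X)) :=
  ⟨(hg.equiv.restrictScalars O).symm.trans
    ((TensorProduct.congr (LinearMap.quotKerEquivOfSurjective (Algebra.linearMap O R) hf).symm
      (LinearEquiv.refl O X)).trans (TensorProduct.quotTensorEquivQuotSMul X (RingHom.ker (algebraMap O R))))⟩

variable [IsLocalRing O] [IsLocalRing R]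

theorem depth_eq_of_isBaseChange (hf : Function.Surjective (algebraMap O R)) (g : X →ₗ[O] N) (hg : IsBaseChange R g) :
    LocCoh.depth R N = LocCoh.depth O (X ⧸ (RingHom.ker (algebraMap O R) • ⊤ : Submodule O X)) := by
  obtain ⟨e⟩ := exists_quot_equiv hf g hg
  rw [← depth_of_surjective (O := O) hf]
  exact CAlgBasics.idealDepth_congr e

theorem supportDim_eq_of_isBaseChange [Module.Finite O X] (hf : Function.Surjective (algebraMap O R))
    (g : X →ₗ[O] N) (hg : IsBaseChange R g) :
    Module.supportDim R N = Module.supportDim O (X ⧸ (RingHom.ker (algebraMap O R) • ⊤ : Submodule O X)) := by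
  obtain ⟨e⟩ := exists_quot_equiv hf g hg
  haveI : Module.Finite R N := Module.Finite.equiv hg.equiv
  rw [← supportDim_of_surjective (O := O) hf]
  exact Module.supportDim_eq_of_equiv e

theorem subsingleton_iff_of_isBaseChange (hf : Function.Surjective (algebraMap O R))
    (g : X →ₗ[O] N) (hg : IsBaseChange R g) :
    Subsingleton N ↔ Subsingleton (X ⧸ (RingHom.ker (algebraMap O R) • ⊤ : Submodule O X)) := by
  obtain ⟨e⟩ := exists_quot_equiv hf g hg
  exact e.toEquiv.subsingleton_congr

end Quot

variable {A P : Type u} [CommRing A] [CommRing P] [Algebra A P] {M : Type u} [AddCommGroup M] [Module P M]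
  (q : PrimeSpectrum P) {S Mq : Type u} [CommRing S] [Algebra P S] [IsLocalization.AtPrime S q.asIdeal] [IsLocalRing S]
  [Algebra A S] [IsScalarTower A P S] [AddCommGroup Mq] [Module S Mq] [Module P Mq] [IsScalarTower P S Mq]

omit [IsLocalization.AtPrime S q.asIdeal] [IsLocalRing S] [Algebra A S] [IsScalarTower A P S] in
theorem exists_isBaseChange_tensor {R : Type u} [CommRing R] [Algebra P R] [Algebra S R] [IsScalarTower P S R]
    (g : M →ₗ[P] Mq) (h1 : IsBaseChange S g) :
    ∃ g' : Mq →ₗ[S] R ⊗[P] M, IsBaseChange R g' := by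
  refine ⟨h1.lift (TensorProduct.mk P R M 1), IsBaseChange.of_comp h1 ?_⟩
  rw [show ((h1.lift (TensorProduct.mk P R M 1)).restrictScalars P) ∘ₗ g = TensorProduct.mk P R M 1 from
    LinearMap.ext fun x => h1.lift_eq _ x]
  exact TensorProduct.isBaseChange P M R

omit [IsLocalization.AtPrime S q.asIdeal] [Algebra A S] [IsScalarTower A P S] in
theorem fibMod_aux {R : Type u} [CommRing R] [IsLocalRing R] [Algebra P R] [Module.Finite S Mq] (g : M →ₗ[P] Mq)
    (h1 : IsBaseChange S g) (φ : S →ₐ[P] R) (hφ : Function.Surjective φ) (I : Ideal S)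
    (hker : RingHom.ker φ.toRingHom = I) :
    LocCoh.depth R (R ⊗[P] M) = LocCoh.depth S (Mq ⧸ (I • ⊤ : Submodule S Mq)) ∧
      Module.supportDim R (R ⊗[P] M) = Module.supportDim S (Mq ⧸ (I • ⊤ : Submodule S Mq)) ∧
      (Subsingleton (R ⊗[P] M) ↔ Subsingleton (Mq ⧸ (I • ⊤ : Submodule S Mq))) := by
  subst hker
  letI : Algebra S R := φ.toRingHom.toAlgebra
  haveI : IsScalarTower P S R := .of_algebraMap_eq fun b => (φ.commutes b).symm
  obtain ⟨g', hg'⟩ := exists_isBaseChange_tensor (R := R) g h1
  exact ⟨depth_eq_of_isBaseChange hφ g' hg', supportDim_eq_of_isBaseChange hφ g' hg',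
    subsingleton_iff_of_isBaseChange hφ g' hg'⟩

/-- The fibre of a module is the localization modulo the prime of the base. -/
theorem fibMod_eq_quot (g : M →ₗ[P] Mq) [IsLocalizedModule q.asIdeal.primeCompl g] [Module.Finite P M] :
    LocCoh.depth (FibRing A q) (FibMod A M q) =
        LocCoh.depth S (Mq ⧸ ((basePrime A q).map (algebraMap A S) • ⊤ : Submodule S Mq)) ∧
      Module.supportDim (FibRing A q) (FibMod A M q) =
        Module.supportDim S (Mq ⧸ ((basePrime A q).map (algebraMap A S) • ⊤ : Submodule S Mq)) ∧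
      (Subsingleton (FibMod A M q) ↔
        Subsingleton (Mq ⧸ ((basePrime A q).map (algebraMap A S) • ⊤ : Submodule S Mq))) := by
  obtain ⟨φ₀, hφ₀, hker₀⟩ := exists_surjective_fibRing (A := A) q
  let e := IsLocalization.algEquiv q.asIdeal.primeCompl S (Localization.AtPrime q.asIdeal)
  let φ : S →ₐ[P] FibRing A q := φ₀.comp e.toAlgHom
  have hφ : Function.Surjective φ := hφ₀.comp e.surjective
  have hker : RingHom.ker φ.toRingHom = (basePrime A q).map (algebraMap A S) := by
    have h1 : RingHom.ker φ.toRingHom = (RingHom.ker φ₀.toRingHom).comap e.toRingEquiv.toRingHom := rfl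
    rw [h1, hker₀]
    refine ((Ideal.map_symm (I := (basePrime A q).map (algebraMap A (Localization.AtPrime q.asIdeal))) e.toRingEquiv).symm.trans
      (Ideal.map_map _ (e.toRingEquiv.symm : Localization.AtPrime q.asIdeal →+* S))).trans ?_
    congr 1
    ext a
    show e.symm (algebraMap A (Localization.AtPrime q.asIdeal) a) = algebraMap A S a
    rw [IsScalarTower.algebraMap_apply A P (Localization.AtPrime q.asIdeal), AlgEquiv.commutes,
      ← IsScalarTower.algebraMap_apply]
  haveI : Module.Finite S Mq := Module.Finite.of_isLocalizedModule q.asIdeal.primeCompl g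
  exact fibMod_aux g (IsLocalizedModule.isBaseChange q.asIdeal.primeCompl S g) φ hφ _ hker

section Polynomial

variable {m : ℕ} (r : PrimeSpectrum (MvPolynomial (Fin m) A))

theorem isRegularLocalRing_fibRing : IsRegularLocalRing (FibRing A r) :=
  haveI : IsRegularRing ((basePrime A r).Fiber (MvPolynomial (Fin m) A)) :=
    IsRegularRing.of_ringEquiv (MvPolynomial.algebraTensorAlgEquiv A (basePrime A r).ResidueField).toRingEquiv.symm
  IsRegularRing.isRegularLocalRing_localization _

theorem fibRing_dim :
    ∃ d t : ℕ, ringKrullDim (FibRing A r) = (d : WithBot ℕ∞) ∧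
      Algebra.trdeg (A ⧸ basePrime A r) (MvPolynomial (Fin m) A ⧸ r.asIdeal) = t ∧ d + t = m := by
  let p := basePrime A r
  let G := p.Fiber (MvPolynomial (Fin m) A)
  let e : G ≃ₐ[p.ResidueField] MvPolynomial (Fin m) p.ResidueField :=
    MvPolynomial.algebraTensorAlgEquiv A p.ResidueField
  haveI : IsDomain G := e.toRingEquiv.toMulEquiv.isDomain
  haveI : IsNoetherianRing G := Algebra.FiniteType.isNoetherianRing p.ResidueField G
  let Q := point A r
  haveI : r.asIdeal.LiesOver p := ⟨rfl⟩
  obtain ⟨t, ht⟩ := DimFormulaLib.exists_nat_trdeg_quotient p.ResidueField G Q.asIdeal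
  obtain ⟨P₀, hmin, hle, hrel⟩ := DimFormulaLib.exists_isMin_relHeight_eq_height Q
  have hbot : P₀.asIdeal = ⊥ := by
    have h1 : (⟨⊥, Ideal.isPrime_bot⟩ : PrimeSpectrum G) ≤ P₀ := show (⊥ : Ideal G) ≤ P₀.asIdeal from bot_le
    exact le_antisymm (show P₀.asIdeal ≤ (⊥ : Ideal G) from hmin h1) bot_le
  have hm : Algebra.trdeg p.ResidueField (G ⧸ P₀.asIdeal) = m := by
    let e' : (G ⧸ P₀.asIdeal) ≃ₐ[p.ResidueField] MvPolynomial (Fin m) p.ResidueField :=
      ((Ideal.quotientEquivAlgOfEq p.ResidueField hbot).trans (AlgEquiv.quotientBot p.ResidueField G)).trans e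
    rw [e'.trdeg_eq, MvPolynomial.trdeg_of_isDomain, Cardinal.mk_fin, Cardinal.lift_natCast]
  obtain ⟨a, ha, hma⟩ := DimFormulaLib.trdeg_eq_relHeight_add p.ResidueField G hle m t hm ht
  refine ⟨a, t, ?_, ?_, hma.symm⟩
  · rw [IsLocalization.AtPrime.ringKrullDim_eq_height Q.asIdeal (FibRing A r), ← hrel, ha]
    rfl
  · rw [← DimFormulaLib.trdeg_fibre p r.asIdeal Q.asIdeal (comap_point r), ht]

end Polynomial

end Groth.Agent.FibreDepth
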