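import Groth.Agent.FibreDepth.Bridge
import Groth.Agent.FibreDepth.Criteria

/-!
Modules identified along a surjection of rings: depth, support dimension and Serre's conditions.
-/

set_option autoImplicit false

universe u

namespace Groth.Agent.FibreDepth

open IsLocalRing TensorProduct

/-- `N'` is `N` seen along a surjection `R → O`. -/
def FibIso (R : Type u) [CommRing R] (N : Type u) [AddCommGroup N] [Module R N] (O : Type u) [CommRing O]
    (N' : Type u) [AddCommGroup N'] [Module O N'] : Prop :=
  ∃ ψ : R →+* O, Function.Surjective ψ ∧ ∃ e : N ≃+ N', ∀ (r : R) (n : N), e (r • n) = ψ r • e n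

namespace FibIso

variable {R O : Type u} [CommRing R] [CommRing O] {N N' : Type u} [AddCommGroup N] [Module R N] [AddCommGroup N']
  [Module O N']

theorem depth_eq [IsLocalRing R] [IsLocalRing O] (h : FibIso R N O N') : LocCoh.depth R N = LocCoh.depth O N' := by
  obtain ⟨ψ, hψ, e, he⟩ := h
  letI : Algebra R O := ψ.toAlgebra
  letI : Module R N' := Module.compHom N' ψ
  haveI : IsScalarTower R O N' := .of_algebraMap_smul fun _ _ => rfl
  let e' : N ≃ₗ[R] N' := { e with map_smul' := he }
  exact (Depth.depth_congr e').trans (depth_of_surjective hψ)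

theorem supportDim_eq [Module.Finite O N'] (h : FibIso R N O N') :
    Module.supportDim R N = Module.supportDim O N' := by
  obtain ⟨ψ, hψ, e, he⟩ := h
  letI : Algebra R O := ψ.toAlgebra
  letI : Module R N' := Module.compHom N' ψ
  haveI : IsScalarTower R O N' := .of_algebraMap_smul fun _ _ => rfl
  let e' : N ≃ₗ[R] N' := { e with map_smul' := he }
  exact (Module.supportDim_eq_of_equiv e').trans (supportDim_of_surjective hψ)

theorem subsingleton_iff (h : FibIso R N O N') : Subsingleton N ↔ Subsingleton N' := by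
  obtain ⟨-, -, e, -⟩ := h
  exact e.toEquiv.subsingleton_congr

theorem module_finite [Module.Finite R N] (h : FibIso R N O N') : Module.Finite O N' := by
  obtain ⟨ψ, hψ, e, he⟩ := h
  letI : Algebra R O := ψ.toAlgebra
  letI : Module R N' := Module.compHom N' ψ
  haveI : IsScalarTower R O N' := .of_algebraMap_smul fun _ _ => rfl
  let e' : N ≃ₗ[R] N' := { e with map_smul' := he }
  haveI : Module.Finite R N' := Module.Finite.equiv e'
  exact Module.Finite.of_restrictScalars_finite R O N'

/-- Localization of an identification along a surjection. -/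
theorem localized (ψ : R →+* O) (hψ : Function.Surjective ψ) (e : N ≃+ N') (he : ∀ (r : R) (n : N), e (r • n) = ψ r • e n)
    (p : Ideal O) [p.IsPrime] (𝔯 : Ideal R) [𝔯.IsPrime] (h𝔯 : 𝔯 = p.comap ψ) :
    FibIso (Localization.AtPrime 𝔯) (LocalizedModule 𝔯.primeCompl N)
      (Localization.AtPrime p) (LocalizedModule p.primeCompl N') := by
  subst h𝔯
  letI : Algebra R O := ψ.toAlgebra
  letI : Module R N' := Module.compHom N' ψ
  haveI : IsScalarTower R O N' := .of_algebraMap_smul fun _ _ => rfl
  let e' : N ≃ₗ[R] N' := { e with map_smul' := he }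
  let φ := Localization.localRingHom (p.comap ψ) p ψ rfl
  have hφ : Function.Surjective φ := fun z => by
    obtain ⟨x, ⟨s, hs⟩, rfl⟩ := IsLocalization.exists_mk'_eq p.primeCompl z
    obtain ⟨x, rfl⟩ := hψ x
    obtain ⟨s, rfl⟩ := hψ s
    exact ⟨IsLocalization.mk' _ x (⟨s, hs⟩ : (p.comap ψ).primeCompl), Localization.localRingHom_mk' ..⟩
  let g := (LocalizedModule.mkLinearMap p.primeCompl N').restrictScalars R
  have himg : Algebra.algebraMapSubmonoid O (p.comap ψ).primeCompl = p.primeCompl := by
    ext x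
    constructor
    · rintro ⟨y, hy, rfl⟩; exact hy
    · intro hx
      obtain ⟨y, rfl⟩ := hψ x
      exact ⟨y, hx, rfl⟩
  haveI : IsLocalizedModule (Algebra.algebraMapSubmonoid O (p.comap ψ).primeCompl)
      (LocalizedModule.mkLinearMap p.primeCompl N') := by rw [himg]; infer_instance
  haveI : IsLocalizedModule (p.comap ψ).primeCompl g := IsLocalizedModule.restrictScalars _ _
  haveI : IsLocalizedModule (p.comap ψ).primeCompl (g ∘ₗ e'.toLinearMap) :=
    IsLocalizedModule.of_linearEquiv_right (p.comap ψ).primeCompl g e'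
  let E : LocalizedModule (p.comap ψ).primeCompl N ≃ₗ[R] LocalizedModule p.primeCompl N' :=
    IsLocalizedModule.linearEquiv (p.comap ψ).primeCompl (LocalizedModule.mkLinearMap (p.comap ψ).primeCompl N)
      (g ∘ₗ e'.toLinearMap)
  refine ⟨φ, hφ, E.toAddEquiv, fun z v => ?_⟩
  obtain ⟨a, ⟨t, ht⟩, rfl⟩ := IsLocalization.exists_mk'_eq (p.comap ψ).primeCompl z
  show E _ = φ _ • E v
  have hu : IsUnit (algebraMap O (Localization.AtPrime p) (ψ t)) :=
    IsLocalization.map_units _ (⟨ψ t, ht⟩ : p.primeCompl)
  have hsm : ∀ (c : R) (w : LocalizedModule p.primeCompl N'),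
      c • w = algebraMap O (Localization.AtPrime p) (ψ c) • w := fun c w =>
    ((algebraMap_smul O c w).symm).trans (algebraMap_smul (Localization.AtPrime p) (algebraMap R O c) w).symm
  refine hu.smul_left_cancel.1 ?_
  rw [← hsm t, ← map_smul, ← mul_smul (algebraMap O (Localization.AtPrime p) (ψ t)),
    show algebraMap O (Localization.AtPrime p) (ψ t) * φ (IsLocalization.mk' _ a ⟨t, ht⟩) =
      algebraMap O (Localization.AtPrime p) (ψ a) by
        rw [← Localization.localRingHom_to_map (p.comap ψ) p ψ rfl, ← map_mul, IsLocalization.mk'_spec'_mk,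
          Localization.localRingHom_to_map],
    ← hsm, ← map_smul, ← algebraMap_smul (Localization.AtPrime (p.comap ψ)) t, ← mul_smul,
    IsLocalization.mk'_spec'_mk, algebraMap_smul]

theorem hasSk_iff [Module.Finite R N] (h : FibIso R N O N') (k : ℕ) :
    LocCoh.HasSk k R N ↔ LocCoh.HasSk k O N' := by
  haveI := h.module_finite
  obtain ⟨ψ, hψ, e, he⟩ := h
  constructor
  · intro H p _
    have hl := localized ψ hψ e he p (p.comap ψ) rfl
    haveI : Module.Finite (Localization.AtPrime p) (LocalizedModule p.primeCompl N') := inferInstance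
    rw [← hl.depth_eq, ← hl.supportDim_eq]
    exact H (p.comap ψ)
  · intro H 𝔯 _
    by_cases hk : RingHom.ker ψ ≤ 𝔯
    swap
    · obtain ⟨a, ha, har⟩ := SetLike.not_le_iff_exists.1 hk
      haveI : Subsingleton (LocalizedModule 𝔯.primeCompl N) :=
        LocalizedModule.subsingleton_iff.2 fun n => ⟨a, har, e.injective (by
          rw [he, RingHom.mem_ker.1 ha, zero_smul, map_zero])⟩
      rw [Module.supportDim_eq_bot_of_subsingleton, min_eq_right bot_le]
      exact bot_le
    haveI : (𝔯.map ψ).IsPrime := Ideal.map_isPrime_of_surjective hψ hk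
    have hl := localized ψ hψ e he (𝔯.map ψ) 𝔯 (by
      rw [Ideal.comap_map_of_surjective ψ hψ, ← RingHom.ker_eq_comap_bot, sup_eq_left.2 hk])
    rw [hl.depth_eq, hl.supportDim_eq]
    exact H (𝔯.map ψ)

end FibIso

section Tensor

variable {P R : Type u} [CommRing P] [CommRing R] [Algebra P R] (M : Type u) [AddCommGroup M] [Module P M]

theorem fibIso_tensor {R' : Type u} [CommRing R'] [Algebra P R'] (e : R ≃ₐ[P] R') :
    FibIso R (R ⊗[P] M) R' (R' ⊗[P] M) := by
  refine ⟨(e : R →+* R'), e.surjective, (TensorProduct.congr e.toLinearEquiv (LinearEquiv.refl P M)).toAddEquiv, fun r n => ?_⟩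
  induction n with
  | zero => simp
  | tmul a b => simp [smul_tmul']
  | add x y hx hy => rw [smul_add, map_add, map_add, hx, hy, smul_add]

theorem fibIso_localized (𝔯 : Ideal R) [𝔯.IsPrime] :
    FibIso (Localization.AtPrime 𝔯) (LocalizedModule 𝔯.primeCompl (R ⊗[P] M)) (Localization.AtPrime 𝔯)
      (Localization.AtPrime 𝔯 ⊗[P] M) :=
  ⟨RingHom.id _, Function.surjective_id,
    (((IsLocalizedModule.isBaseChange 𝔯.primeCompl (Localization.AtPrime 𝔯)
      (LocalizedModule.mkLinearMap 𝔯.primeCompl (R ⊗[P] M))).equiv).symm.trans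
      (AlgebraTensorModule.cancelBaseChange P R (Localization.AtPrime 𝔯) (Localization.AtPrime 𝔯) M)).toAddEquiv,
    fun r n => by simp⟩

variable [Module.Finite P M]

theorem tens_congr [IsLocalRing R] {R' : Type u} [CommRing R'] [IsLocalRing R'] [Algebra P R'] (e : R ≃ₐ[P] R') :
    tensDepth P R M = tensDepth P R' M ∧ tensSupp P R M = tensSupp P R' M :=
  ⟨(fibIso_tensor M e).depth_eq, (fibIso_tensor M e).supportDim_eq⟩

theorem hasSk_tensor_iff (k : ℕ) :
    LocCoh.HasSk k R (R ⊗[P] M) ↔ ∀ (𝔯 : Ideal R) [𝔯.IsPrime],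
      min (k : WithBot ℕ∞) (tensSupp P (Localization.AtPrime 𝔯) M) ≤
        ((tensDepth P (Localization.AtPrime 𝔯) M : ℕ∞) : WithBot ℕ∞) := by
  refine forall₂_congr fun 𝔯 _ => ?_
  rw [(fibIso_localized M 𝔯).depth_eq, (fibIso_localized M 𝔯).supportDim_eq]
  rfl

end Tensor

end Groth.Agent.FibreDepth
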