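import Groth.Agent.FibreDepth.IsoModel
import Groth.Agent.GorLib.SupportChain
import Groth.Prelude.Def_EGA4b

/-!
Equidimensionality together with Serre's conditions on the fibres of a flat module: openness.
-/

set_option autoImplicit false
set_option linter.style.haveILetI false

universe u

open CategoryTheory IsLocalRing TensorProduct Topology

namespace Groth.Agent.FibreDepth

theorem minimal_iff_supportDim_zero {R N : Type u} [CommRing R] [IsNoetherianRing R] [AddCommGroup N] [Module R N]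
    [Module.Finite R N] (𝔯 : Ideal R) [𝔯.IsPrime] :
    𝔯 ∈ (Module.annihilator R N).minimalPrimes ↔
      Module.supportDim (Localization.AtPrime 𝔯) (LocalizedModule 𝔯.primeCompl N) = 0 := by
  constructor
  · intro h
    let c : PrimeSpectrum (Localization.AtPrime 𝔯) := closedPoint _
    have hc : PrimeSpectrum.comap (algebraMap R (Localization.AtPrime 𝔯)) c = ⟨𝔯, inferInstance⟩ :=
      PrimeSpectrum.ext (IsLocalization.AtPrime.comap_maximalIdeal _ 𝔯)
    have hcm : c ∈ Module.support (Localization.AtPrime 𝔯) (LocalizedModule 𝔯.primeCompl N) := by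
      rw [QGorLib.mem_support_localized_iff, hc, Module.mem_support_iff_of_finite]
      exact h.1.2
    have hsub : ∀ Q ∈ Module.support (Localization.AtPrime 𝔯) (LocalizedModule 𝔯.primeCompl N), Q = c := by
      intro Q hQ
      rw [QGorLib.mem_support_localized_iff, Module.mem_support_iff_of_finite] at hQ
      refine PrimeSpectrum.localization_comap_injective _ 𝔯.primeCompl ?_
      rw [hc]
      have hle : Q.asIdeal.comap (algebraMap R (Localization.AtPrime 𝔯)) ≤ 𝔯 := fun x hx => by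
        by_contra hxn
        exact Q.isPrime.ne_top (Ideal.eq_top_of_isUnit_mem _ hx (IsLocalization.map_units _ (⟨x, hxn⟩ : 𝔯.primeCompl)))
      exact PrimeSpectrum.ext (le_antisymm hle (h.2 ⟨inferInstance, hQ⟩ hle))
    haveI : Subsingleton (Module.support (Localization.AtPrime 𝔯) (LocalizedModule 𝔯.primeCompl N)) :=
      ⟨fun a b => Subtype.ext ((hsub _ a.2).trans (hsub _ b.2).symm)⟩
    haveI : Nonempty (Module.support (Localization.AtPrime 𝔯) (LocalizedModule 𝔯.primeCompl N)) := ⟨⟨c, hcm⟩⟩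
    exact Order.krullDim_eq_zero
  · intro h
    have hann : Module.annihilator R N ≤ 𝔯 := by
      by_contra hle
      haveI : Subsingleton (LocalizedModule 𝔯.primeCompl N) := by
        obtain ⟨a, ha, har⟩ := SetLike.not_le_iff_exists.1 hle
        exact LocalizedModule.subsingleton_iff.2 fun n => ⟨a, har, Module.mem_annihilator.1 ha n⟩
      rw [Module.supportDim_eq_bot_of_subsingleton] at h
      exact WithBot.bot_ne_zero h
    refine ⟨⟨inferInstance, hann⟩, fun p hp hle => ?_⟩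
    haveI := hp.1
    have h1 := GorLib.height_Ici_le_supportDim_localized N (⟨p, hp.1⟩ : PrimeSpectrum R) ⟨𝔯, inferInstance⟩ hp.2 hle
    rw [h] at h1
    have h2 : Order.height (⟨⟨𝔯, inferInstance⟩, hle⟩ : Set.Ici (⟨p, hp.1⟩ : PrimeSpectrum R)) = 0 :=
      le_antisymm (WithBot.coe_le_coe.1 h1) bot_le
    have hm : IsMin (⟨⟨𝔯, inferInstance⟩, hle⟩ : Set.Ici (⟨p, hp.1⟩ : PrimeSpectrum R)) := Order.height_eq_zero.1 h2
    have h3 := @hm ⟨⟨p, hp.1⟩, Set.mem_Ici.2 le_rfl⟩ hle
    exact h3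

namespace FibIso

variable {R O : Type u} [CommRing R] [CommRing O] {N N' : Type u} [AddCommGroup N] [Module R N] [AddCommGroup N']
  [Module O N']

theorem isEquidimModule_iff [Module.Finite R N] (h : FibIso R N O N') :
    EGA4.IsEquidimModule R N ↔ EGA4.IsEquidimModule O N' := by
  haveI := h.module_finite
  have hs := h.supportDim_eq
  obtain ⟨ψ, hψ, e, he⟩ := h
  have hann : Module.annihilator R N = (Module.annihilator O N').comap ψ := by
    ext r
    rw [Ideal.mem_comap, Module.mem_annihilator, Module.mem_annihilator]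
    constructor
    · intro hr n'
      obtain ⟨n, rfl⟩ := e.surjective n'
      rw [← he, hr, map_zero]
    · intro hr n
      exact e.injective (by rw [he, hr, map_zero])
  have hmin : (Module.annihilator R N).minimalPrimes = Ideal.comap ψ '' (Module.annihilator O N').minimalPrimes := by
    rw [hann, Ideal.comap_minimalPrimes_eq_of_surjective hψ]
  have hdim : ∀ (p : Ideal O), ringKrullDim (R ⧸ p.comap ψ) = ringKrullDim (O ⧸ p) := fun p =>
    ringKrullDim_eq_of_ringEquiv (RingEquiv.ofBijective (Ideal.quotientMap p ψ le_rfl)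
      ⟨Ideal.quotientMap_injective, Ideal.quotientMap_surjective hψ⟩)
  constructor
  · intro H p hp
    rw [← hdim, ← hs]
    exact H _ (hmin ▸ ⟨p, hp, rfl⟩)
  · intro H q hq
    rw [hmin] at hq
    obtain ⟨p, hp, rfl⟩ := hq
    rw [hdim, hs]
    exact H p hp

end FibIso

/-- Equidimensionality of `R ⊗ M`. -/
def TensEquidim (P : Type u) [CommRing P] (R : Type u) [CommRing R] [Algebra P R] (M : Type u) [AddCommGroup M]
    [Module P M] : Prop :=
  EGA4.IsEquidimModule R (R ⊗[P] M)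

theorem tensEquidim_iff_codimAt {P R : Type u} [CommRing P] [CommRing R] [IsRegularLocalRing R] [Algebra P R]
    (M : Type u) [AddCommGroup M] [Module P M] [Module.Finite P M] (Rr : PrimeSpectrum P → Type u)
    [∀ r, CommRing (Rr r)] [∀ r, Algebra P (Rr r)] [∀ r, IsRegularLocalRing (Rr r)] (Q : PrimeSpectrum P → Prop)
    (hloc : ∀ (𝔯 : Ideal R) [𝔯.IsPrime], ∃ r : PrimeSpectrum P, r.asIdeal = 𝔯.comap (algebraMap P R) ∧ Q r ∧
      Nonempty (Localization.AtPrime 𝔯 ≃ₐ[P] Rr r))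
    (m : ℕ) (hm : ringKrullDim R ≤ (m : WithBot ℕ∞)) (J : ℕ → Ideal P)
    (hJ : ∀ (e : ℕ) (r : PrimeSpectrum P), Q r → (J e ≤ r.asIdeal ↔
      ¬ tensSupp P (Rr r) M = ⊥ ∧ ∀ e', e' < e → ¬ PdLE P (Rr r) M e'))
    {k : ℕ} (hk : 1 ≤ k) (hS : TensSk P R M k) :
    TensEquidim P R M ↔
      ∃ c ≤ m, CodimAt R (Module.annihilator P M) c ∧ ∀ e ≤ m, c < e → CodimAt R (J e) (e + 1) := by
  obtain ⟨d₀, hd₀⟩ := RegLocal.exists_nat_ringKrullDim R
  have hd₀m : d₀ ≤ m := by rw [hd₀] at hm; exact_mod_cast hm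
  have htot : ∀ (𝔯 : Ideal R) [𝔯.IsPrime], ∃ a b : ℕ, a ≤ m ∧ 𝔯.height = a ∧
      ringKrullDim (R ⧸ 𝔯) = (b : WithBot ℕ∞) ∧ a + b = d₀ := by
    intro 𝔯 _
    obtain ⟨a, ha⟩ := ENat.ne_top_iff_exists.1 (Ideal.height_ne_top (I := 𝔯) Ideal.IsPrime.ne_top')
    haveI : Nontrivial (R ⧸ 𝔯) := Ideal.Quotient.nontrivial_iff.mpr Ideal.IsPrime.ne_top'
    haveI : IsLocalRing (R ⧸ 𝔯) := .of_surjective' (Ideal.Quotient.mk 𝔯) Ideal.Quotient.mk_surjective
    obtain ⟨b, hb⟩ := RegLocal.exists_nat_ringKrullDim (R ⧸ 𝔯)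
    have h := GorLib.height_add_ringKrullDim_quotient (GorLib.gorensteinLocal_of_regular R) 𝔯
    rw [← ha, hb, hd₀] at h
    have hab : a + b = d₀ := by exact_mod_cast h
    exact ⟨a, b, by omega, ha.symm, hb, hab⟩
  have key : ∀ (𝔯 : Ideal R) [𝔯.IsPrime] (r : PrimeSpectrum P),
      Nonempty (Localization.AtPrime 𝔯 ≃ₐ[P] Rr r) → ∀ a : ℕ, 𝔯.height = a →
        ringKrullDim (Rr r) = (a : WithBot ℕ∞) ∧
        tensSupp P (Rr r) M = Module.supportDim (Localization.AtPrime 𝔯) (LocalizedModule 𝔯.primeCompl (R ⊗[P] M)) ∧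
        tensDepth P (Rr r) M = LocCoh.depth (Localization.AtPrime 𝔯) (LocalizedModule 𝔯.primeCompl (R ⊗[P] M)) := by
    intro 𝔯 _ r ⟨E⟩ a ha
    obtain ⟨h1, h2⟩ := tens_congr M E
    refine ⟨?_, ?_, ?_⟩
    · rw [← ringKrullDim_eq_of_ringEquiv E.toRingEquiv, IsLocalization.AtPrime.ringKrullDim_eq_height 𝔯, ha]
      rfl
    · rw [(fibIso_localized M 𝔯).supportDim_eq]; exact h2.symm
    · rw [(fibIso_localized M 𝔯).depth_eq]; exact h1.symm
  have hle : ∀ (𝔯 : Ideal R), Module.annihilator R (R ⊗[P] M) ≤ 𝔯 →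
      ringKrullDim (R ⧸ 𝔯) ≤ Module.supportDim R (R ⊗[P] M) := fun 𝔯 h => by
    rw [Module.supportDim_eq_ringKrullDim_quotient_annihilator]
    exact ringKrullDim_le_of_surjective (Ideal.Quotient.factor h) (Ideal.Quotient.factor_surjective h)
  rcases subsingleton_or_nontrivial (R ⊗[P] M) with hM | hM
  · refine iff_of_true (fun p hp => ?_) ⟨m, le_rfl, ?_, fun e he hlt => absurd hlt (by omega)⟩
    · exfalso
      haveI := hp.1.1
      rw [Module.annihilator_eq_top_iff.2 hM] at hp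
      exact Ideal.IsPrime.ne_top inferInstance (top_le_iff.1 hp.1.2)
    · rw [codimAt_annihilator_iff, Module.supportDim_eq_bot_of_subsingleton, WithBot.bot_add]
      exact bot_le
  obtain ⟨s, D₀, hs, -, hsd, -, -⟩ := exists_invariants (P := P) R M d₀ hd₀
  simp only [codimAt_annihilator_iff, hs, hd₀]
  constructor
  · intro H
    refine ⟨d₀ - s, by omega, by exact_mod_cast (by omega : s + (d₀ - s) ≤ d₀), fun e _ hce => ?_⟩
    rw [codimAt_iff_forall_height]
    intro 𝔯 _ hJle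
    obtain ⟨r, hr, hQ, hE⟩ := hloc 𝔯
    rw [← hr] at hJle
    obtain ⟨hne, hpd⟩ := (hJ e r hQ).1 hJle
    obtain ⟨a, b, -, ha, hb, hab⟩ := htot 𝔯
    obtain ⟨hdr, hsr, hDr⟩ := key 𝔯 r hE a ha
    haveI : Nontrivial (Rr r ⊗[P] M) :=
      (Module.supportDim_ne_bot_iff_nontrivial (Rr r) (Rr r ⊗[P] M)).1 hne
    obtain ⟨s', D, hs', hD, -, hDd, -⟩ := exists_invariants (P := P) (Rr r) M a hdr
    have he : e ≤ a - D := by
      by_contra hlt
      refine hpd (a - D) (by omega) ?_
      show HasProjectiveDimensionLT _ (a - D + 1)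
      rw [projDimLT_iff_le_depth a hdr, hD]
      exact_mod_cast (by omega : a - (a - D) ≤ D)
    rw [ha]
    rcases Nat.eq_zero_or_pos D with hD0 | hD0
    · exfalso
      have h := hS 𝔯
      rw [← hsr, ← hDr] at h
      unfold tensSupp tensDepth at h
      rw [hs', hD] at h
      have hs0 : s' = 0 := by
        rcases le_total k s' with hks | hks
        · rw [min_eq_left (by exact_mod_cast hks)] at h
          have : k ≤ D := by exact_mod_cast h
          omega
        · rw [min_eq_right (by exact_mod_cast hks)] at h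
          have : s' ≤ D := by exact_mod_cast h
          omega
      have hmin : 𝔯 ∈ (Module.annihilator R (R ⊗[P] M)).minimalPrimes := by
        rw [minimal_iff_supportDim_zero, ← hsr, tensSupp, hs', hs0]
        rfl
      have h1 := H 𝔯 hmin
      rw [hb, hs] at h1
      have : b = s := by exact_mod_cast h1
      omega
    · exact_mod_cast (by omega : e + 1 ≤ a)
  · rintro ⟨c, -, hc, H⟩ 𝔯 hmin
    haveI := hmin.1.1
    have hc' : s + c ≤ d₀ := by exact_mod_cast hc
    obtain ⟨a, b, ham, ha, hb, hab⟩ := htot 𝔯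
    obtain ⟨r, hr, hQ, hE⟩ := hloc 𝔯
    obtain ⟨hdr, hsr, hDr⟩ := key 𝔯 r hE a ha
    have hbs : b ≤ s := by
      have h := hle 𝔯 hmin.1.2
      rw [hb, hs] at h
      exact_mod_cast h
    rw [hb, hs]
    suffices a ≤ c by exact_mod_cast (by omega : b = s)
    by_contra hlt
    have hs0 : tensSupp P (Rr r) M = 0 := hsr.trans ((minimal_iff_supportDim_zero 𝔯).1 hmin)
    have hne : ¬ tensSupp P (Rr r) M = ⊥ := by rw [hs0]; exact WithBot.zero_ne_bot
    haveI : Nontrivial (Rr r ⊗[P] M) :=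
      (Module.supportDim_ne_bot_iff_nontrivial (Rr r) (Rr r ⊗[P] M)).1 hne
    obtain ⟨s', D, hs', hD, -, hDd, hDs⟩ := exists_invariants (P := P) (Rr r) M a hdr
    have : s' = 0 := by
      rw [tensSupp, hs'] at hs0
      exact_mod_cast hs0
    have hJle : J a ≤ r.asIdeal := (hJ a r hQ).2 ⟨hne, fun e' he' hpd => by
      have h' := (projDimLT_iff_le_depth a hdr e').1 hpd
      rw [hD] at h'
      have h'' : a - e' ≤ D := by exact_mod_cast h'
      omega⟩
    have h' := (codimAt_iff_forall_height (J a) (a + 1)).1 (H a ham (by omega)) 𝔯 (hr ▸ hJle)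
    rw [ha] at h'
    have : a + 1 ≤ a := by exact_mod_cast h'
    omega

theorem tensSupp_bot_iff {P R : Type u} [CommRing P] [CommRing R] [IsRegularLocalRing R] [Algebra P R]
    (M : Type u) [AddCommGroup M] [Module P M] [Module.Finite P M] (d m : ℕ) (hd : ringKrullDim R = d) (hm : d ≤ m) :
    tensSupp P R M = ⊥ ↔ CodimAt R (Module.annihilator P M) (m + 1) :=
  (Module.supportDim_eq_bot_iff_subsingleton R (R ⊗[P] M)).trans (subsingleton_iff_codimAt R M d m hd hm)

section Affine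

attribute [local instance] Algebra.TensorProduct.rightAlgebra

variable {A : Type u} [CommRing A] {m : ℕ}

/-- Openness of equidimensionality in the presence of Serre's condition, on the flat locus. -/
theorem exists_open_equidim (M : Type u) [AddCommGroup M] [Module (MvPolynomial (Fin m) A) M] [Module A M]
    [IsScalarTower A (MvPolynomial (Fin m) A) M] [Module.FinitePresentation (MvPolynomial (Fin m) A) M]
    {k : ℕ} (hk : 1 ≤ k) :
    ∃ W : Set (PrimeSpectrum (MvPolynomial (Fin m) A)), IsOpen W ∧ ∀ q : PrimeSpectrum (MvPolynomial (Fin m) A),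
      Module.Flat A (LocalizedModule q.asIdeal.primeCompl M) →
        TensSk (MvPolynomial (Fin m) A) (FibRing A q) M k →
          (q ∈ W ↔ TensEquidim (MvPolynomial (Fin m) A) (FibRing A q) M) := by
  let P := MvPolynomial (Fin m) A
  let Fl : Set (PrimeSpectrum P) := {q | Module.Flat A (LocalizedModule q.asIdeal.primeCompl M)}
  let U : ℕ → Set (PrimeSpectrum P) := fun e =>
    {r | CodimGE A (Module.annihilator P M) r (m + 1)} ∪ ⋃ e' ∈ {e' | e' < e}, PdSet A P M e'
  have hU : ∀ e, IsOpen (U e) := fun e => (isOpen_codimGE _ _).union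
    (isOpen_biUnion fun e' _ => isOpen_pdSet_mvPolynomial M e')
  choose J hJ using fun e => (PrimeSpectrum.isClosed_iff_zeroLocus_ideal (U e)ᶜ).1 (hU e).isClosed_compl
  refine ⟨⋃ c ∈ {c | c ≤ m}, {q | CodimGE A (Module.annihilator P M) q c} ∩
      ⋂ e ∈ {e | e ≤ m ∧ c < e}, {q | CodimGE A (J e) q (e + 1)},
    isOpen_biUnion fun c _ => (isOpen_codimGE _ c).inter (((Set.finite_le_nat m).subset fun e he => he.1).isOpen_biInter
      fun e _ => isOpen_codimGE (J e) (e + 1)), fun q hq hS => ?_⟩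
  obtain ⟨d, t, hd, -, hdm⟩ := fibRing_dim q
  haveI := isRegularLocalRing_fibRing q
  haveI : ∀ r : PrimeSpectrum P, IsRegularLocalRing (FibRing A r) := isRegularLocalRing_fibRing
  rw [tensEquidim_iff_codimAt (P := P) (R := FibRing A q) M (fun r => FibRing A r) (fun r => r ∈ Fl) ?_ m ?_ J ?_ hk hS]
  · simp only [Set.mem_iUnion₂, Set.mem_inter_iff, Set.mem_iInter₂, Set.mem_ofPred_eq, exists_prop, and_imp]
    rfl
  · intro 𝔯 _
    obtain ⟨r, hr, hrq, hE⟩ := exists_algEquiv_fibRing q 𝔯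
    exact ⟨r, hr, (isOpen_flat_localized M).stableUnderGeneralization
      ((PrimeSpectrum.le_iff_specializes r q).1 hrq) hq, hE⟩
  · rw [hd]
    exact_mod_cast (by omega : d ≤ m)
  intro e r hflat
  obtain ⟨dr, tr, hdr, -, hdrm⟩ := fibRing_dim r
  rw [show J e ≤ r.asIdeal ↔ r ∈ PrimeSpectrum.zeroLocus (J e : Set P) from Iff.rfl, ← hJ e]
  have hb : tensSupp P (FibRing A r) M = ⊥ ↔ CodimGE A (Module.annihilator P M) r (m + 1) :=
    tensSupp_bot_iff (P := P) (R := FibRing A r) M dr m hdr (by omega)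
  rw [hb]
  simp only [U, Set.mem_compl_iff, Set.mem_union, Set.mem_iUnion₂, Set.mem_ofPred_eq, exists_prop, not_or, not_exists,
    not_and]
  exact and_congr_right fun _ => ⟨fun h e' he' hp => h e' he' ⟨hflat, hp⟩, fun h e' he' hp => h e' he' hp.2⟩

end Affine

section Scheme

open AlgebraicGeometry

attribute [local instance] Algebra.TensorProduct.rightAlgebra

theorem tensIso_equidim_iff {P R O' N' M : Type u} [CommRing P] [CommRing R] [Algebra P R] [CommRing O']
    [AddCommGroup N'] [Module O' N'] [AddCommGroup M] [Module P M] [Module.Finite P M]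
    (h : TensIso P R M O' N') : TensEquidim P R M ↔ EGA4.IsEquidimModule O' N' :=
  FibIso.isEquidimModule_iff h

variable {X : Scheme.{u}}

theorem isOpen_equidim_hasSk {O : X → Type u} [∀ x, CommRing (O x)] {N : X → Type u} [∀ x, AddCommGroup (N x)]
    [∀ x, Module (O x) (N x)] {flatAt : X → Prop}
    (hcov : ∀ x, ∃ 𝔐 : IsoModel O N flatAt, x ∈ Set.range 𝔐.emb) (ho : IsOpen {x | flatAt x}) {k : ℕ} (hk : 1 ≤ k) :
    IsOpen {x : X | flatAt x ∧ EGA4.IsEquidimModule (O x) (N x) ∧ LocCoh.HasSk k (O x) (N x)} := by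
  refine isOpen_iff_forall_mem_open.2 fun x ⟨hx, heq, hS⟩ => ?_
  obtain ⟨𝔐, q, rfl⟩ := hcov x
  obtain ⟨U, hU, hUiff⟩ := 𝔐.exists_open_hasSk k
  obtain ⟨W, hW, hWiff⟩ := exists_open_equidim (A := 𝔐.A) (m := 𝔐.m) 𝔐.M hk
  have key : ∀ q', flatAt (𝔐.emb q') → LocCoh.HasSk k (O (𝔐.emb q')) (N (𝔐.emb q')) →
      (PrimeSpectrum.comap 𝔐.φ q' ∈ W ↔ EGA4.IsEquidimModule (O (𝔐.emb q')) (N (𝔐.emb q'))) := fun q' hf hs => by
    rw [hWiff _ (𝔐.flat q' hf) ((tensIso_hasSk_iff (𝔐.iso q') k).2 hs)]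
    exact tensIso_equidim_iff (𝔐.iso q')
  refine ⟨𝔐.emb '' (U ∩ 𝔐.emb ⁻¹' {x | flatAt x} ∩ PrimeSpectrum.comap 𝔐.φ ⁻¹' W), ?_,
    𝔐.isOpenEmbedding.isOpenMap _ ((hU.inter (ho.preimage 𝔐.isOpenEmbedding.continuous)).inter
      (hW.preimage (PrimeSpectrum.continuous_comap _))),
    q, ⟨⟨(hUiff q hx).2 hS, hx⟩, (key q hx hS).2 heq⟩, rfl⟩
  rintro _ ⟨q', ⟨⟨hq', hf⟩, hw⟩, rfl⟩
  have hs := (hUiff q' hf).1 hq'
  exact ⟨hf, (key q' hf hs).1 hw, hs⟩

end Scheme

end Groth.Agent.FibreDepth
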