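import Groth.Agent.FlatLocus.Descent
import Groth.Agent.GenFree.Algebra
import Groth.Agent.QGorLib.FlatDepth
import Groth.Agent.CMFlatLib.Constructible

/-!
A criterion for constructibility of properties of the fibres of modules over affine space: stability under
change of base and openness in the flat case.
-/

set_option autoImplicit false
set_option linter.style.haveILetI false

universe u

open MvPolynomial TensorProduct Topology

namespace Groth.Agent.FibreDepth

open Groth.Agent.GenFree Groth.Agent.FlatLocus

/-- A property of points of affine space, depending on a presented module. -/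
abbrev PointPred (a m : ℕ) : Type (u + 1) :=
  ∀ (A : Type u) [CommRing A], Submodule (MvPolynomial (Fin m) A) (FreeMod A a m) →
    PrimeSpectrum (MvPolynomial (Fin m) A) → Prop

/-- Invariance under change of base. -/
def StableBC {a m : ℕ} (E : PointPred.{u} a m) : Prop :=
  ∀ (A A' : Type u) [CommRing A] [CommRing A'] [Algebra A A']
    (K : Submodule (MvPolynomial (Fin m) A) (FreeMod A a m)) (q : PrimeSpectrum (MvPolynomial (Fin m) A')),
    E A' (locN A' K) q ↔ E A K (PrimeSpectrum.comap (MvPolynomial.map (algebraMap A A')) q)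

/-- Openness for flat modules over Noetherian bases. -/
def OpenFlat {a m : ℕ} (E : PointPred.{u} a m) : Prop :=
  ∀ (A : Type u) [CommRing A] [IsNoetherianRing A] (K : Submodule (MvPolynomial (Fin m) A) (FreeMod A a m)),
    (∀ q, q ∈ flatSet K) → IsOpen {q | E A K q}

variable {a m : ℕ}

theorem mem_flatSet_of_flat {A : Type u} [CommRing A] [IsNoetherianRing A]
    (K : Submodule (MvPolynomial (Fin m) A) (FreeMod A a m)) [Module.Flat A (FreeMod A a m ⧸ K)]
    (q : PrimeSpectrum (MvPolynomial (Fin m) A)) : q ∈ flatSet K :=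
  QGorLib.flat_localizedModule (A := A) (FreeMod A a m ⧸ K) q.asIdeal

theorem mem_range_comap_map {A A' : Type u} [CommRing A] [CommRing A'] [Algebra A A']
    (q : PrimeSpectrum (MvPolynomial (Fin m) A)) {L : Type u} [Field L] (χ : MvPolynomial (Fin m) A →+* L)
    (hχ : RingHom.ker χ = q.asIdeal) (ψ : A' →+* L) (hψ : ∀ x : A, ψ (algebraMap A A' x) = χ (C x)) :
    q ∈ Set.range (PrimeSpectrum.comap (MvPolynomial.map (algebraMap A A') : MvPolynomial (Fin m) A →+* _)) := by
  let Φ : MvPolynomial (Fin m) A' →+* L := eval₂Hom ψ fun i => χ (X i)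
  haveI : (RingHom.ker Φ).IsPrime := RingHom.ker_isPrime Φ
  refine ⟨⟨RingHom.ker Φ, inferInstance⟩, PrimeSpectrum.ext ?_⟩
  have h : Φ.comp (MvPolynomial.map (algebraMap A A')) = χ := by
    refine MvPolynomial.ringHom_ext (fun x => ?_) fun i => ?_
    · simp [Φ, hψ]
    · simp [Φ]
  show (RingHom.ker Φ).comap _ = q.asIdeal
  rw [← hχ, ← h]
  rfl

/-- Generic flatness on an irreducible closed subset of the base: the property is constructible there. -/
theorem exists_stratum {E : PointPred.{u} a m} (hbc : StableBC E) (ho : OpenFlat E) {A : Type u} [CommRing A]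
    [IsNoetherianRing A] (K : Submodule (MvPolynomial (Fin m) A) (FreeMod A a m)) (p : Ideal A) [p.IsPrime] :
    ∃ f ∉ p, IsConstructible ({q | E A K q} ∩
      {q : PrimeSpectrum (MvPolynomial (Fin m) A) | p ≤ q.asIdeal.comap C ∧ f ∉ q.asIdeal.comap C}) := by
  haveI : IsDomain (A ⧸ p) := Ideal.Quotient.isDomain p
  let K₁ := locN (A ⧸ p) K
  obtain ⟨g, -, hg0, hfree, -⟩ := exists_good K₁ one_ne_zero
  obtain ⟨f, rfl⟩ := Ideal.Quotient.mk_surjective g
  refine ⟨f, fun hf => hg0 (Ideal.Quotient.eq_zero_iff_mem.2 hf), ?_⟩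
  let g := Ideal.Quotient.mk p f
  let A2 := Localization.Away g
  haveI : IsNoetherianRing A2 := IsLocalization.isNoetherianRing (Submonoid.powers g) _ inferInstance
  haveI := hfree
  haveI : Module.Free A2 (FreeMod A2 a m ⧸ locN A2 K₁) :=
    haveI := isLocalizedModule_psi A2 K₁ g
    Module.Free.of_equiv (IsBaseChange.equiv
      (IsLocalizedModule.isBaseChange (Submonoid.powers g) A2 (psi A2 K₁)))
  have hK : locN A2 K₁ = locN A2 K := locN_locN (R := A2) (A ⧸ p) K
  haveI : Module.Flat A2 (FreeMod A2 a m ⧸ locN A2 K) := by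
    rw [← hK]; infer_instance
  have hopen := ho A2 (locN A2 K) (mem_flatSet_of_flat _)
  let Φ : MvPolynomial (Fin m) A →+* MvPolynomial (Fin m) A2 := MvPolynomial.map (algebraMap A A2)
  haveI : Algebra.FiniteType A A2 :=
    Algebra.FiniteType.trans (S := A ⧸ p) inferInstance
      (IsLocalization.finiteType_of_monoid_fg (Submonoid.powers g) _)
  have hfp : Φ.FinitePresentation := by
    letI : Algebra (MvPolynomial (Fin m) A) (MvPolynomial (Fin m) A2) := MvPolynomial.algebraMvPolynomial
    haveI : Algebra.IsPushout A A2 (MvPolynomial (Fin m) A) (MvPolynomial (Fin m) A2) := inferInstance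
    haveI : Algebra.FiniteType (MvPolynomial (Fin m) A) (MvPolynomial (Fin m) A2) :=
      Algebra.FiniteType.equiv inferInstance
        ((Algebra.IsPushout.symm inferInstance : Algebra.IsPushout A (MvPolynomial (Fin m) A) A2
          (MvPolynomial (Fin m) A2)).equiv)
    exact RingHom.finitePresentation_algebraMap.2 (Algebra.FinitePresentation.of_finiteType.1 inferInstance)
  have hc : IsConstructible {q | E A2 (locN A2 K) q} :=
    (IsCompact.isRetrocompact (TopologicalSpace.NoetherianSpace.isCompact _) hopen).isConstructible hopen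
  convert PrimeSpectrum.isConstructible_comap_image hfp hc using 1
  ext q
  constructor
  · rintro ⟨hE, hpq, hfq⟩
    let L := q.asIdeal.ResidueField
    let χ : MvPolynomial (Fin m) A →+* L := algebraMap _ _
    have hχ : ∀ b, χ b = 0 ↔ b ∈ q.asIdeal := fun b => Ideal.algebraMap_residueField_eq_zero
    let ψ : A2 →+* L := IsLocalization.Away.lift
      (g := Ideal.Quotient.lift p (χ.comp C) fun x hx => (hχ _).2 (hpq hx)) g
      (by
        rw [show g = Ideal.Quotient.mk p f from rfl, Ideal.Quotient.lift_mk]
        exact Ne.isUnit fun h => hfq ((hχ _).1 h))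
    obtain ⟨Q, rfl⟩ := mem_range_comap_map (A' := A2) q χ (Ideal.ext fun b => hχ b) ψ
      fun x => by
        rw [IsScalarTower.algebraMap_apply A (A ⧸ p) A2]
        exact (IsLocalization.Away.lift_eq _ _ _).trans (Ideal.Quotient.lift_mk _ _ _)
    exact ⟨Q, (hbc A A2 K Q).2 hE, rfl⟩
  · rintro ⟨Q, hQ, rfl⟩
    refine ⟨(hbc A A2 K Q).1 hQ, fun x hx => ?_, fun h => ?_⟩
    · show Φ (C x) ∈ Q.asIdeal
      rw [show Φ (C x) = C (algebraMap A A2 x) from map_C _ _, IsScalarTower.algebraMap_apply A (A ⧸ p) A2,
        show algebraMap A (A ⧸ p) x = 0 from Ideal.Quotient.eq_zero_iff_mem.2 hx, map_zero, map_zero]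
      exact zero_mem _
    · have h' : C (algebraMap A A2 f) ∈ Q.asIdeal := (map_C (algebraMap A A2) f) ▸ h
      refine Q.isPrime.ne_top (Ideal.eq_top_of_isUnit_mem _ h' ((?_ : IsUnit (algebraMap A A2 f)).map C))
      rw [IsScalarTower.algebraMap_apply A (A ⧸ p) A2]
      exact IsLocalization.Away.algebraMap_isUnit g

theorem isConstructible_of_noetherian {E : PointPred.{u} a m} (hbc : StableBC E) (ho : OpenFlat E) {A : Type u}
    [CommRing A] [IsNoetherianRing A] (K : Submodule (MvPolynomial (Fin m) A) (FreeMod A a m)) :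
    IsConstructible {q | E A K q} := by
  suffices h : ∀ I : Ideal A, IsConstructible ({q | E A K q} ∩
      {q : PrimeSpectrum (MvPolynomial (Fin m) A) | I ≤ q.asIdeal.comap C}) by
    simpa [Set.inter_univ] using h ⊥
  intro I
  induction I using WellFoundedGT.induction with
  | _ I ih =>
    by_cases hI : I.IsPrime
    · haveI := hI
      obtain ⟨f, hf, hc⟩ := exists_stratum hbc ho K I
      have hlt : I < I ⊔ Ideal.span {f} := lt_of_le_of_ne le_sup_left fun h =>
        hf (h ▸ Ideal.mem_sup_right (Ideal.mem_span_singleton_self f))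
      convert hc.union (ih _ hlt) using 1
      ext q
      simp only [Set.mem_inter_iff, Set.mem_union, Set.mem_ofPred_eq, sup_le_iff, Ideal.span_singleton_le_iff_mem]
      tauto
    · have hset : {q | E A K q} ∩ {q : PrimeSpectrum (MvPolynomial (Fin m) A) | I ≤ q.asIdeal.comap C} =
          ⋃ p ∈ I.minimalPrimes, {q | E A K q} ∩
            {q : PrimeSpectrum (MvPolynomial (Fin m) A) | p ≤ q.asIdeal.comap C} := by
        ext q
        simp only [Set.mem_iUnion, Set.mem_inter_iff, Set.mem_ofPred_eq, exists_prop]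
        constructor
        · rintro ⟨hq, hIq⟩
          obtain ⟨p, hp, hpq⟩ := Ideal.exists_minimalPrimes_le hIq
          exact ⟨p, hp, hq, hpq⟩
        · rintro ⟨p, hp, hq, hpq⟩
          exact ⟨hq, hp.1.2.trans hpq⟩
      rw [hset]
      exact IsConstructible.biUnion (Ideal.finite_minimalPrimes_of_isNoetherianRing A I) fun p hp =>
        ih p (lt_of_le_of_ne hp.1.2 fun h => hI (h ▸ hp.1.1))

/-- Constructibility over an arbitrary base. -/
theorem isConstructible_of_stable {E : PointPred.{u} a m} (hbc : StableBC E) (ho : OpenFlat E) {A : Type u}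
    [CommRing A] (K : Submodule (MvPolynomial (Fin m) A) (FreeMod A a m)) (hK : K.FG) :
    IsConstructible {q | E A K q} := by
  obtain ⟨S, N₀, hS, rfl⟩ := exists_base K hK
  haveI := hS
  rw [show {q | E A (locN A N₀) q} = PrimeSpectrum.comap (MvPolynomial.map (algebraMap S A)) ⁻¹' {q | E S N₀ q} from
    Set.ext fun q => hbc S A N₀ q]
  exact CMFlatLib.isConstructible_comap _ (isConstructible_of_noetherian hbc ho N₀)

end Groth.Agent.FibreDepth
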