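import Groth.Agent.FibreDepth.Syzygy

/-!
Openness of the bound on the projective dimension of fibres of a flat module, noetherian base.
-/

set_option autoImplicit false

universe u

namespace Groth.Agent.FibreDepth

open IsLocalRing TensorProduct CategoryTheory

attribute [local instance] Algebra.TensorProduct.rightAlgebra

theorem pdLE_zero_iff {P : Type u} [CommRing P] (R : Type u) [CommRing R] [IsLocalRing R] [IsNoetherianRing R]
    [Algebra P R] (M : Type u) [AddCommGroup M] [Module P M] [Module.Finite P M] :
    PdLE P R M 0 ↔ Module.Free R (R ⊗[P] M) :=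
  ⟨fun h => RegLocal.free_of_projDimLT_one _ h, fun h => haveI := h; RegLocal.hasProjectiveDimensionLT_of_free _ 0⟩

theorem free_quot_of_free {P S R : Type u} [CommRing P] [CommRing S] [CommRing R] [Algebra P S] [Algebra P R]
    (φ : S →ₐ[P] R) (hφ : Function.Surjective φ) (I : Ideal S) (hI : RingHom.ker φ.toRingHom = I)
    {M Mq : Type u} [AddCommGroup M] [Module P M] [AddCommGroup Mq] [Module S Mq] [Module P Mq] [IsScalarTower P S Mq]
    (g : M →ₗ[P] Mq) (hg : IsBaseChange S g) [Module.Free R (R ⊗[P] M)] :
    Module.Free (S ⧸ I) ((S ⧸ I) ⊗[S] Mq) := by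
  subst hI
  let e : R ≃ₐ[P] S ⧸ RingHom.ker φ.toRingHom := (Ideal.quotientKerAlgEquivOfSurjective hφ).symm
  letI : Algebra R (S ⧸ RingHom.ker φ.toRingHom) := e.toAlgHom.toRingHom.toAlgebra
  haveI : IsScalarTower P R (S ⧸ RingHom.ker φ.toRingHom) := .of_algebraMap_eq fun b => (e.commutes b).symm
  let e₁ : (S ⧸ RingHom.ker φ.toRingHom) ⊗[R] (R ⊗[P] M) ≃ₗ[S ⧸ RingHom.ker φ.toRingHom]
      (S ⧸ RingHom.ker φ.toRingHom) ⊗[P] M :=
    AlgebraTensorModule.cancelBaseChange P R (S ⧸ RingHom.ker φ.toRingHom) (S ⧸ RingHom.ker φ.toRingHom) M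
  let e₂ : (S ⧸ RingHom.ker φ.toRingHom) ⊗[S] Mq ≃ₗ[S ⧸ RingHom.ker φ.toRingHom]
      (S ⧸ RingHom.ker φ.toRingHom) ⊗[P] M :=
    (AlgebraTensorModule.congr (LinearEquiv.refl _ _) hg.equiv.symm).trans
      (AlgebraTensorModule.cancelBaseChange P S (S ⧸ RingHom.ker φ.toRingHom) (S ⧸ RingHom.ker φ.toRingHom) M)
  exact Module.Free.of_equiv (e₁.trans e₂.symm)

theorem free_of_free_localized {P S R : Type u} [CommRing P] [CommRing S] [CommRing R] [Algebra P S] [Algebra P R]
    (φ : S →ₐ[P] R) {M Mq : Type u} [AddCommGroup M] [Module P M] [AddCommGroup Mq] [Module S Mq] [Module P Mq]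
    [IsScalarTower P S Mq] (g : M →ₗ[P] Mq) (hg : IsBaseChange S g) [Module.Free S Mq] :
    Module.Free R (R ⊗[P] M) := by
  letI : Algebra S R := φ.toRingHom.toAlgebra
  haveI : IsScalarTower P S R := .of_algebraMap_eq fun b => (φ.commutes b).symm
  exact Module.Free.of_equiv ((AlgebraTensorModule.congr (LinearEquiv.refl R R) hg.equiv.symm).trans
    (AlgebraTensorModule.cancelBaseChange P S R R M))

variable {A P : Type u} [CommRing A] [IsNoetherianRing A] [CommRing P] [Algebra A P] [Algebra.FiniteType A P]

/-- The points at which the module is flat and its fibre has projective dimension at most `e`. -/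
def PdSet (A : Type u) [CommRing A] (P : Type u) [CommRing P] [Algebra A P] (M : Type u) [AddCommGroup M]
    [Module P M] [Module A M] [IsScalarTower A P M] (e : ℕ) : Set (PrimeSpectrum P) :=
  {q | Module.Flat A (LocalizedModule q.asIdeal.primeCompl M) ∧ PdLE P (FibRing A q) M e}

theorem free_localized_iff [Module.Flat A P] {M : Type u} [AddCommGroup M] [Module P M] [Module A M]
    [IsScalarTower A P M] [Module.Finite P M] (q : PrimeSpectrum P) :
    q ∈ PdSet A P M 0 ↔ q ∈ Module.freeLocus P M := by
  let S := Localization.AtPrime q.asIdeal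
  let Mq := LocalizedModule q.asIdeal.primeCompl M
  let g := LocalizedModule.mkLinearMap q.asIdeal.primeCompl M
  have hg : IsBaseChange S g := IsLocalizedModule.isBaseChange q.asIdeal.primeCompl S g
  obtain ⟨φ, hφ, hker⟩ := exists_surjective_fibRing (A := A) q
  haveI : IsNoetherianRing P := Algebra.FiniteType.isNoetherianRing A P
  constructor
  · rintro ⟨hflat, hpd⟩
    show Module.Free S Mq
    rcases subsingleton_or_nontrivial Mq with h0 | h0
    · exact Module.Free.of_subsingleton S Mq
    let p := basePrime A q
    haveI : q.asIdeal.LiesOver p := ⟨rfl⟩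
    letI := Localization.AtPrime.algebraOfLiesOver p q.asIdeal
    haveI : Localization.AtPrime.IsLiesOverAlgebra p q.asIdeal := ⟨rfl⟩
    haveI : IsLocalHom (algebraMap (Localization.AtPrime p) S) := by
      rw [Localization.AtPrime.IsLiesOverAlgebra.algebraMap_eq]
      infer_instance
    letI : Module (Localization.AtPrime p) Mq := Module.compHom Mq (algebraMap (Localization.AtPrime p) S)
    haveI : IsScalarTower (Localization.AtPrime p) S Mq := .of_algebraMap_smul fun _ _ => rfl
    haveI : IsScalarTower A (Localization.AtPrime p) Mq := .of_algebraMap_smul fun a z => by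
      show algebraMap (Localization.AtPrime p) S (algebraMap A (Localization.AtPrime p) a) • z = a • z
      rw [← IsScalarTower.algebraMap_apply, algebraMap_smul]
    haveI : Module.Flat (Localization.AtPrime p) Mq :=
      (Module.flat_iff_of_isLocalization (Localization.AtPrime p) p.primeCompl Mq).mpr hflat
    haveI : Module.Finite S Mq := Module.Finite.of_isLocalizedModule q.asIdeal.primeCompl g
    haveI : Module.Free (FibRing A q) (FibRing A q ⊗[P] M) := (pdLE_zero_iff (FibRing A q) M).1 hpd
    have hI : (maximalIdeal (Localization.AtPrime p)).map (algebraMap (Localization.AtPrime p) S) =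
        (basePrime A q).map (algebraMap A S) := by
      rw [← Localization.AtPrime.map_eq_maximalIdeal, Ideal.map_map, ← IsScalarTower.algebraMap_eq]
    exact (LocFlat.free_of_free_fibre (R := Localization.AtPrime p) (S := S) (M := Mq)
      (free_quot_of_free (S := S) (R := FibRing A q) φ hφ _ (hker.trans hI.symm) g hg)).1
  · intro h
    haveI : Module.Free S Mq := h
    haveI : Module.Flat A S := Module.Flat.trans A P S
    refine ⟨Module.Flat.trans A S Mq, (pdLE_zero_iff (FibRing A q) M).2 ?_⟩
    exact free_of_free_localized φ g hg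

theorem isOpen_pdSet [Module.Flat A P] : ∀ (e : ℕ) (M : Type u) [AddCommGroup M] [Module P M] [Module A M]
    [IsScalarTower A P M] [Module.Finite P M], IsOpen (PdSet A P M e) := by
  haveI : IsNoetherianRing P := Algebra.FiniteType.isNoetherianRing A P
  haveI : Algebra.FinitePresentation A P := Algebra.FinitePresentation.of_finiteType.1 inferInstance
  intro e
  induction e with
  | zero =>
    intro M _ _ _ _ _
    haveI : Module.FinitePresentation P M := Module.finitePresentation_of_finite P M
    rw [show PdSet A P M 0 = Module.freeLocus P M from Set.ext fun q => free_localized_iff q]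
    exact Module.isOpen_freeLocus
  | succ e ih =>
    intro M _ _ _ _ _
    haveI : Module.FinitePresentation P M := Module.finitePresentation_of_finite P M
    obtain ⟨n, f, hf⟩ := Module.Finite.exists_fin' P M
    haveI : Module.Finite P (LinearMap.ker f) := Module.Finite.of_fg (IsNoetherian.noetherian _)
    have hset : PdSet A P M (e + 1) = {q | Module.Flat A (LocalizedModule q.asIdeal.primeCompl M)} ∩
        PdSet A P (LinearMap.ker f) e := by
      ext q
      haveI : Module.Flat A (Localization.AtPrime q.asIdeal) := Module.Flat.trans A P (Localization.AtPrime q.asIdeal)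
      haveI : Module.Free (Localization.AtPrime q.asIdeal) (LocalizedModule q.asIdeal.primeCompl (Fin n → P)) :=
        Module.Free.of_equiv (IsLocalizedModule.isBaseChange q.asIdeal.primeCompl (Localization.AtPrime q.asIdeal)
          (LocalizedModule.mkLinearMap q.asIdeal.primeCompl (Fin n → P))).equiv
      haveI : Module.Flat A (LocalizedModule q.asIdeal.primeCompl (Fin n → P)) :=
        Module.Flat.trans A (Localization.AtPrime q.asIdeal) _
      constructor
      · rintro ⟨hflat, hpd⟩
        haveI := hflat
        exact ⟨hflat, flat_localized_ker f hf q, (fib_projDimLT_succ_iff f hf q e inferInstance).1 hpd⟩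
      · rintro ⟨hflat, -, hpd⟩
        haveI : Module.Flat A (LocalizedModule q.asIdeal.primeCompl M) := hflat
        exact ⟨hflat, (fib_projDimLT_succ_iff f hf q e inferInstance).2 hpd⟩
    rw [hset]
    exact (FlatLocus.isOpen_flat_locus (R := A) (S := P) (M := M)).inter (ih (LinearMap.ker f))

end Groth.Agent.FibreDepth
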