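import Groth.Agent.FibreDepth.Bridge
import Groth.Agent.FlatLocus.Main
import Groth.Agent.LocFlat.Fibre
import Groth.Agent.FerrandPush.Flat

/-!
Syzygies of a flat module and of its fibre; fibrewise free modules.
-/

set_option autoImplicit false

universe u

namespace Groth.Agent.FibreDepth

open IsLocalRing TensorProduct CategoryTheory

attribute [local instance] Algebra.TensorProduct.rightAlgebra

variable {A P : Type u} [CommRing A] [CommRing P] [Algebra A P] {F : Type u} [AddCommGroup F] [Module P F]
  [Module A F] [IsScalarTower A P F]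

theorem exists_smul_eq_zero_of_flat (K : Submodule P F) (T : Submonoid P)
    [Module.Flat A (LocalizedModule T (F ⧸ K))] {R : Type u} [AddCommGroup R] [Module A R]
    (w : K ⊗[A] R) (hw : AlgebraTensorModule.rTensor A R K.subtype w = 0) :
    ∃ s ∈ T, s • w = 0 := by
  let ι' : LocalizedModule T K →ₗ[P] LocalizedModule T F :=
    IsLocalizedModule.map T (LocalizedModule.mkLinearMap T K) (LocalizedModule.mkLinearMap T F) K.subtype
  let π' : LocalizedModule T F →ₗ[P] LocalizedModule T (F ⧸ K) :=
    IsLocalizedModule.map T (LocalizedModule.mkLinearMap T F) (LocalizedModule.mkLinearMap T (F ⧸ K)) K.mkQ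
  have hι : Function.Injective ι' := IsLocalizedModule.map_injective T _ _ _ K.subtype_injective
  have hπ : Function.Surjective π' := IsLocalizedModule.map_surjective T _ _ _ K.mkQ_surjective
  have hex : Function.Exact ι' π' :=
    IsLocalizedModule.map_exact T _ _ _ _ _ (LinearMap.exact_subtype_mkQ K)
  have h1 : Function.Injective ((ι'.restrictScalars A).lTensor R) :=
    LinearMap.lTensor_injective_of_exact_of_flat (π'.restrictScalars A) hπ (ι'.restrictScalars A) hι hex R
  rw [LinearMap.lTensor_inj_iff_rTensor_inj] at h1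
  let gK := AlgebraTensorModule.rTensor A R (LocalizedModule.mkLinearMap T K)
  have h2 : gK w = 0 := by
    apply h1
    rw [map_zero]
    have h3 : (ι'.restrictScalars A) ∘ₗ (LocalizedModule.mkLinearMap T K).restrictScalars A =
        (LocalizedModule.mkLinearMap T F).restrictScalars A ∘ₗ K.subtype.restrictScalars A :=
      LinearMap.ext fun x => IsLocalizedModule.map_apply T _ _ K.subtype x
    show (ι'.restrictScalars A).rTensor R (((LocalizedModule.mkLinearMap T K).restrictScalars A).rTensor R w) = 0
    rw [← LinearMap.rTensor_comp_apply, h3, LinearMap.rTensor_comp_apply,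
      show (K.subtype.restrictScalars A).rTensor R w = 0 from hw, map_zero]
  obtain ⟨⟨s, hs⟩, hN⟩ := (IsLocalizedModule.eq_zero_iff T gK).mp h2
  exact ⟨s, hs, hN⟩

omit [Module A F] [IsScalarTower A P F] in
theorem exists_of_baseChange_eq_zero {G R X Y : Type u} [CommRing G] [CommRing R] [Algebra G R] [Module.Flat G R]
    [AddCommGroup X] [Module G X] [AddCommGroup Y] [Module G Y] (i : X →ₗ[G] Y) (z : R ⊗[G] X)
    (hz : i.baseChange R z = 0) : ∃ v : R ⊗[G] LinearMap.ker i, (LinearMap.ker i).subtype.baseChange R v = z :=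
  ((Module.Flat.lTensor_exact (R := G) R (LinearMap.exact_subtype_ker_map i)) z).1 hz

omit [Module A F] [IsScalarTower A P F] in
theorem injective_of_ker_killed {G R : Type u} [CommRing G] [CommRing R] [Algebra P G] [Algebra P R] [Algebra G R]
    [IsScalarTower P G R] [Module.Flat G R] (K : Submodule P F) (T : Submonoid P)
    (hT : ∀ s ∈ T, IsUnit (algebraMap P R s))
    (hk : ∀ w : G ⊗[P] K, K.subtype.baseChange G w = 0 → ∃ s ∈ T, s • w = 0) :
    Function.Injective (K.subtype.baseChange R) := by
  let i : G ⊗[P] K →ₗ[G] G ⊗[P] F := K.subtype.baseChange G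
  let eK := AlgebraTensorModule.cancelBaseChange P G R R K
  let eF := AlgebraTensorModule.cancelBaseChange P G R R F
  have hcomm : ∀ z, eF (i.baseChange R z) = K.subtype.baseChange R (eK z) := by
    intro z
    induction z with
    | zero => simp
    | tmul r y =>
      induction y with
      | zero => simp
      | tmul g k => simp [i, eK, eF]
      | add x y hx hy => simp only [tmul_add, map_add, hx, hy]
    | add x y hx hy => simp only [map_add, hx, hy]
  refine (injective_iff_map_eq_zero _).2 fun x hx => ?_
  obtain ⟨z, rfl⟩ := eK.surjective x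
  rw [← hcomm, LinearEquiv.map_eq_zero_iff] at hx
  obtain ⟨v, rfl⟩ := exists_of_baseChange_eq_zero i z hx
  clear hx
  induction v with
  | zero => simp
  | tmul r w =>
    obtain ⟨s, hs, hsw⟩ := hk w.1 w.2
    refine ((hT s hs).smul_eq_zero).1 ?_
    rw [algebraMap_smul]
    show s • eK (r ⊗ₜ[G] w.1) = 0
    rw [← algebraMap_smul R s, ← map_smul, algebraMap_smul, show s • (r ⊗ₜ[G] w.1) = r ⊗ₜ[G] (s • w.1) from ?_,
      hsw, tmul_zero, map_zero]
    rw [← algebraMap_smul G s (r ⊗ₜ[G] w.1), ← tmul_smul, algebraMap_smul]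
  | add x y hx hy => rw [map_add, map_add, hx, hy, add_zero]

theorem injective_of_fibre {k R : Type u} [CommRing k] [Algebra A k] [CommRing R] [Algebra P R]
    [Algebra (k ⊗[A] P) R] [IsScalarTower P (k ⊗[A] P) R] [Module.Flat (k ⊗[A] P) R]
    (K : Submodule P F) (T : Submonoid P) [Module.Flat A (LocalizedModule T (F ⧸ K))]
    (hT : ∀ s ∈ T, IsUnit (algebraMap P R s)) : Function.Injective (K.subtype.baseChange R) := by
  refine injective_of_ker_killed (G := k ⊗[A] P) K T hT fun w hw => ?_
  let c : P ⊗[A] k ≃ₐ[P] k ⊗[A] P :=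
    { (Algebra.TensorProduct.comm A P k).toRingEquiv with
      commutes' := fun _ => rfl }
  let eK : K ⊗[A] k ≃ₗ[P] (k ⊗[A] P) ⊗[P] K :=
    ((AlgebraTensorModule.cancelBaseChange A P P K k).symm.trans
      (TensorProduct.comm P K (P ⊗[A] k))).trans
      (TensorProduct.congr c.toLinearEquiv (LinearEquiv.refl P K))
  let eF : F ⊗[A] k ≃ₗ[P] (k ⊗[A] P) ⊗[P] F :=
    ((AlgebraTensorModule.cancelBaseChange A P P F k).symm.trans
      (TensorProduct.comm P F (P ⊗[A] k))).trans
      (TensorProduct.congr c.toLinearEquiv (LinearEquiv.refl P F))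
  have hcomm : ∀ z, eF (AlgebraTensorModule.rTensor A k K.subtype z) =
      K.subtype.baseChange (k ⊗[A] P) (eK z) := by
    intro z
    induction z with
    | zero => simp
    | tmul x r => simp [eK, eF]
    | add x y hx hy => simp only [map_add, hx, hy]
  obtain ⟨z, rfl⟩ := eK.surjective w
  rw [← hcomm, LinearEquiv.map_eq_zero_iff] at hw
  obtain ⟨s, hs, hsz⟩ := exists_smul_eq_zero_of_flat K T z hw
  exact ⟨s, hs, by rw [← map_smul, hsz, map_zero]⟩

theorem fib_subtype_injective (K : Submodule P F) (q : PrimeSpectrum P)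
    [Module.Flat A (LocalizedModule q.asIdeal.primeCompl (F ⧸ K))] :
    Function.Injective (K.subtype.baseChange (FibRing A q)) :=
  haveI : Module.Flat ((basePrime A q).Fiber P) (FibRing A q) :=
    IsLocalization.flat _ (point A q).asIdeal.primeCompl
  injective_of_fibre (A := A) (k := (basePrime A q).ResidueField) (R := FibRing A q) K q.asIdeal.primeCompl
    (fun s hs => isUnit_algebraMap_fibRing q s hs)

section Step

variable {M : Type u} [AddCommGroup M] [Module P M] [Module A M] [IsScalarTower A P M]

omit [Module A F] [IsScalarTower A P F] [Module A M] [IsScalarTower A P M] in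
theorem syzygy_aux (R : Type u) [CommRing R] [Algebra P R] [Module.Free P F] (f : F →ₗ[P] M) (hf : Function.Surjective f)
    (hinj : Function.Injective ((LinearMap.ker f).subtype.baseChange R)) (e : ℕ) :
    PdLE P R M (e + 1) ↔ PdLE P R (LinearMap.ker f) e := by
  have hex : Function.Exact ((LinearMap.ker f).subtype.baseChange R) (f.baseChange R) :=
    lTensor_exact R (LinearMap.exact_subtype_ker_map f) hf
  have hsurj : Function.Surjective (f.baseChange R) := LinearMap.lTensor_surjective R hf
  show HasProjectiveDimensionLT (ModuleCat.of R (R ⊗[P] M)) (e + 2) ↔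
    HasProjectiveDimensionLT (ModuleCat.of R (R ⊗[P] LinearMap.ker f)) (e + 1)
  refine (RegLocal.syzygy_iff (f.baseChange R) hsurj e).trans ?_
  let e' : R ⊗[P] LinearMap.ker f ≃ₗ[R] LinearMap.ker (f.baseChange R) :=
    (LinearEquiv.ofInjective _ hinj).trans (LinearEquiv.ofEq _ _ (LinearMap.exact_iff.mp hex).symm)
  have iso : ModuleCat.of R (R ⊗[P] LinearMap.ker f) ≅ ModuleCat.of R (LinearMap.ker (f.baseChange R)) :=
    LinearEquiv.toModuleIso (X₁ := R ⊗[P] LinearMap.ker f) (X₂ := LinearMap.ker (f.baseChange R)) e'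
  exact ⟨fun _ => hasProjectiveDimensionLT_of_iso iso.symm _, fun _ => hasProjectiveDimensionLT_of_iso iso _⟩

theorem succ_aux {k R : Type u} [CommRing k] [Algebra A k] [CommRing R] [Algebra P R]
    [Algebra (k ⊗[A] P) R] [IsScalarTower P (k ⊗[A] P) R] [Module.Flat (k ⊗[A] P) R] [Module.Free P F]
    (f : F →ₗ[P] M) (hf : Function.Surjective f) (T : Submonoid P) [Module.Flat A (LocalizedModule T M)]
    (hT : ∀ s ∈ T, IsUnit (algebraMap P R s)) (e : ℕ) : PdLE P R M (e + 1) ↔ PdLE P R (LinearMap.ker f) e := by
  haveI : Module.Flat A (LocalizedModule T (F ⧸ LinearMap.ker f)) :=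
    Module.Flat.of_linearEquiv ((IsLocalizedModule.linearEquiv T
      (LocalizedModule.mkLinearMap T (F ⧸ LinearMap.ker f))
      ((LocalizedModule.mkLinearMap T M) ∘ₗ (f.quotKerEquivOfSurjective hf).toLinearMap)).restrictScalars A)
  exact syzygy_aux R f hf (injective_of_fibre (A := A) (k := k) (LinearMap.ker f) T hT) e

theorem fib_projDimLT_succ_iff (f : F →ₗ[P] M) (hf : Function.Surjective f) (q : PrimeSpectrum P) [Module.Flat A (LocalizedModule q.asIdeal.primeCompl M)] (e : ℕ)
    (hfree : Module.Free P F) :
    PdLE P (FibRing A q) M (e + 1) ↔ PdLE P (FibRing A q) (LinearMap.ker f) e := by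
  haveI := hfree
  haveI : Module.Flat ((basePrime A q).Fiber P) (FibRing A q) :=
    IsLocalization.flat _ (point A q).asIdeal.primeCompl
  exact succ_aux (A := A) (k := (basePrime A q).ResidueField) (R := FibRing A q) f hf q.asIdeal.primeCompl
    (fun s hs => isUnit_algebraMap_fibRing q s hs) e

theorem flat_localized_ker (f : F →ₗ[P] M) (hf : Function.Surjective f) (q : PrimeSpectrum P)
    [Module.Flat A (LocalizedModule q.asIdeal.primeCompl F)]
    [Module.Flat A (LocalizedModule q.asIdeal.primeCompl M)] :
    Module.Flat A (LocalizedModule q.asIdeal.primeCompl (LinearMap.ker f)) :=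
  FerrandPush.flat_of_exact
    ((IsLocalizedModule.map q.asIdeal.primeCompl (LocalizedModule.mkLinearMap q.asIdeal.primeCompl (LinearMap.ker f))
      (LocalizedModule.mkLinearMap q.asIdeal.primeCompl F) (LinearMap.ker f).subtype).restrictScalars A)
    (IsLocalizedModule.map_injective q.asIdeal.primeCompl _ _ _ (LinearMap.ker f).subtype_injective)
    ((IsLocalizedModule.map q.asIdeal.primeCompl (LocalizedModule.mkLinearMap q.asIdeal.primeCompl F)
      (LocalizedModule.mkLinearMap q.asIdeal.primeCompl M) f).restrictScalars A)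
    (IsLocalizedModule.map_surjective q.asIdeal.primeCompl _ _ _ hf)
    (IsLocalizedModule.map_exact q.asIdeal.primeCompl _ _ _ _ _ (LinearMap.exact_subtype_ker_map f))

end Step

end Groth.Agent.FibreDepth
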