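import Groth.Agent.FibreDepth.FibIso
import Groth.Agent.FibreDepth.Syzygy
import Groth.Agent.FibreDepth.Open
import Groth.Agent.GenFree.Scheme
import Groth.Agent.QCohLib.Coherent
import Groth.Agent.QCohLib.FiniteType

/-!
Openness of projective dimension on the prime spectrum, and rectified depth on regular schemes.
-/

set_option autoImplicit false
set_option linter.style.haveILetI false

universe u

open CategoryTheory AlgebraicGeometry IsLocalRing TensorProduct Topology

namespace Groth.Agent.FibreDepth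

theorem isOpen_pdLE_atPrime {P : Type u} [CommRing P] [IsNoetherianRing P] : ∀ (e : ℕ) (M : Type u) [AddCommGroup M]
    [Module P M] [Module.Finite P M],
    IsOpen {p : PrimeSpectrum P | PdLE P (Localization.AtPrime p.asIdeal) M e} := by
  intro e
  induction e with
  | zero =>
    intro M _ _ _
    haveI : Module.FinitePresentation P M := Module.finitePresentation_of_finite P M
    convert Module.isOpen_freeLocus (R := P) (M := M) using 1
    ext p
    have e' := (IsLocalizedModule.isBaseChange p.asIdeal.primeCompl (Localization.AtPrime p.asIdeal)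
      (LocalizedModule.mkLinearMap p.asIdeal.primeCompl M)).equiv
    refine (pdLE_zero_iff (Localization.AtPrime p.asIdeal) M).trans ?_
    exact ⟨fun _ => Module.Free.of_equiv e', fun h => by
      haveI : Module.Free (Localization.AtPrime p.asIdeal) (LocalizedModule p.asIdeal.primeCompl M) := h
      exact Module.Free.of_equiv e'.symm⟩
  | succ e ih =>
    intro M _ _ _
    obtain ⟨n, f, hf⟩ := Module.Finite.exists_fin' P M
    haveI : Module.Finite P (LinearMap.ker f) := Module.Finite.of_fg (IsNoetherian.noetherian _)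
    convert ih (LinearMap.ker f) using 1
    ext p
    exact syzygy_aux (Localization.AtPrime p.asIdeal) f hf
      (Module.Flat.lTensor_preserves_injective_linearMap _ (LinearMap.ker f).subtype_injective) e

/-- The invariants at a point of a locally noetherian scheme from an affine chart. -/
theorem tens_of_chart {P O M N : Type u} [CommRing P] [CommRing O] [IsLocalRing O] [Algebra P O] (p : Ideal P) [p.IsPrime]
    [IsLocalization.AtPrime O p] [AddCommGroup M] [Module P M] [Module.Finite P M] [AddCommGroup N] [Module P N]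
    [Module O N] [IsScalarTower P O N] (g : M →ₗ[P] N) [IsLocalizedModule p.primeCompl g] :
    tensDepth P (Localization.AtPrime p) M = LocCoh.depth O N ∧
      ringKrullDim (Localization.AtPrime p) = ringKrullDim O ∧
      (Subsingleton (Localization.AtPrime p ⊗[P] M) ↔ Subsingleton N) := by
  let E := IsLocalization.algEquiv p.primeCompl (Localization.AtPrime p) O
  let e : O ⊗[P] M ≃ₗ[O] N := (IsLocalizedModule.isBaseChange p.primeCompl O g).equiv
  refine ⟨(tens_congr M E).1.trans ?_, ringKrullDim_eq_of_ringEquiv E.toRingEquiv,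
    (fibIso_tensor M E).subsingleton_iff.trans e.toEquiv.subsingleton_congr⟩
  exact Depth.depth_congr e

/-- A lower bound for depth plus a dimension, in a regular local ring. -/
theorem natCast_le_depth_add_iff' {P R : Type u} [CommRing P] [CommRing R] [IsRegularLocalRing R] [Algebra P R]
    (M : Type u) [AddCommGroup M] [Module P M] [Module.Finite P M] (d t N : ℕ) (hd : ringKrullDim R = d)
    (hN : d + t = N) (n : ℕ) :
    (n : ℕ∞) ≤ tensDepth P R M + (t : ℕ∞) ↔ (n ≤ N ∧ PdLE P R M (N - n)) ∨ Subsingleton (R ⊗[P] M) := by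
  rw [subsingleton_iff_codimAt R M d N hd (by omega)]
  exact natCast_le_depth_add_iff R M d t N hd hN n

theorem regular_localization {P O : Type u} [CommRing P] [CommRing O] [Algebra P O] (p : Ideal P) [p.IsPrime]
    [IsLocalization.AtPrime O p] [IsRegularLocalRing O] : IsRegularLocalRing (Localization.AtPrime p) :=
  IsRegularLocalRing.of_ringEquiv (IsLocalization.algEquiv p.primeCompl O (Localization.AtPrime p)).toRingEquiv

theorem isOpen_depth_add_const {P : Type u} [CommRing P] [IsNoetherianRing P] (M : Type u) [AddCommGroup M]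
    [Module P M] [Module.Finite P M] (N n : ℕ) :
    IsOpen {p : PrimeSpectrum P | (n ≤ N ∧ PdLE P (Localization.AtPrime p.asIdeal) M (N - n)) ∨
      Subsingleton (Localization.AtPrime p.asIdeal ⊗[P] M)} := by
  have h0 : IsOpen {p : PrimeSpectrum P | Subsingleton (Localization.AtPrime p.asIdeal ⊗[P] M)} := by
    convert (Module.isClosed_support (R := P) (M := M)).isOpen_compl using 1
    ext p
    rw [Set.mem_compl_iff, Module.mem_support_iff, not_nontrivial_iff_subsingleton]
    exact (IsLocalizedModule.isBaseChange p.asIdeal.primeCompl (Localization.AtPrime p.asIdeal)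
      (LocalizedModule.mkLinearMap p.asIdeal.primeCompl M)).equiv.toEquiv.subsingleton_congr
  by_cases hn : n ≤ N
  · simp only [hn, true_and, Set.ofPred_or]
    exact (isOpen_pdLE_atPrime _ M).union h0
  · simp only [hn, false_and, false_or]
    exact h0

/-- Openness of rectified depth on a regular scheme on which `dim O_x + dim cl{x}` is constant near every point. -/
theorem isOpen_rectified_depth (X : Scheme.{u}) [IsLocallyNoetherian X]
    (hreg : ∀ x : X, IsRegularLocalRing ↑(X.presheaf.stalk x)) (F : X.Modules) (hF : Coh.IsCoh F)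
    (N : X → ℕ) (hN : ∀ x : X, ∃ d t : ℕ, ringKrullDim ↑(X.presheaf.stalk x) = (d : WithBot ℕ∞) ∧
      topologicalKrullDim ↥(closure ({x} : Set X)) = (t : WithBot ℕ∞) ∧ d + t = N x)
    (hconst : IsLocallyConstant N) (n : ℕ) :
    IsOpen {x : X | (n : WithBot ℕ∞) ≤
      ((LocCoh.depth ↑(X.presheaf.stalk x) ↑(F.presheaf.stalk x) : ℕ∞) : WithBot ℕ∞) +
        topologicalKrullDim ↥(closure ({x} : Set X))} := by
  haveI : Coh.IsQCoh F := hF.1
  refine isOpen_iff_forall_mem_open.2 fun x hx => ?_
  obtain ⟨_, ⟨W : X.Opens, (hW : IsAffineOpen W), rfl⟩, hxW, hWN⟩ :=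
    X.isBasis_affineOpens.exists_subset_of_mem_open (a := x) (u := {y | N y = N x}) rfl (hconst.isOpen_fiber _)
  let B := Γ(X, W)
  let MW := Γ(F, W)
  haveI : IsNoetherianRing B := IsLocallyNoetherian.component_noetherian ⟨W, hW⟩
  haveI : Module.Finite B MW := QCohLib.finite_sections_of_isCoh hF hW
  have hmem : ∀ q : PrimeSpectrum B, hW.fromSpec q ∈ W := fun q => by
    rw [← SetLike.mem_coe, ← hW.range_fromSpec]
    exact ⟨q, rfl⟩
  have hprime : ∀ q : PrimeSpectrum B, hW.primeIdealOf ⟨hW.fromSpec q, hmem q⟩ = q := fun q =>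
    hW.fromSpec.isOpenEmbedding.injective (hW.fromSpec_primeIdealOf _)
  have key : ∀ q : PrimeSpectrum B, ((n : WithBot ℕ∞) ≤
      ((LocCoh.depth ↑(X.presheaf.stalk (hW.fromSpec q)) ↑(F.presheaf.stalk (hW.fromSpec q)) : ℕ∞) : WithBot ℕ∞) +
        topologicalKrullDim ↥(closure ({hW.fromSpec q} : Set X))) ↔
      ((n ≤ N x ∧ PdLE B (Localization.AtPrime q.asIdeal) MW (N x - n)) ∨
        Subsingleton (Localization.AtPrime q.asIdeal ⊗[B] MW)) := by
    intro q
    let x' := hW.fromSpec q
    have hx' := hmem q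
    let O := X.presheaf.stalk x'
    letI : Algebra B O := TopCat.Presheaf.algebra_section_stalk X.presheaf ⟨x', hx'⟩
    letI := Module.compHom (F.presheaf.stalk x') (X.presheaf.germ W x' hx').hom
    haveI : IsScalarTower B O (F.presheaf.stalk x') := .of_algebraMap_smul fun _ _ => rfl
    obtain ⟨g, hg⟩ := GenFree.exists_isLocalizedModule_germ F hW x' hx'
    rw [hprime] at hg
    haveI := hg
    haveI : IsLocalization.AtPrime O q.asIdeal := by
      have h := hW.isLocalization_stalk ⟨x', hx'⟩
      rwa [hprime] at h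
    obtain ⟨h1, h2, -⟩ := tens_of_chart (O := O) (N := F.presheaf.stalk x') q.asIdeal g
    haveI := hreg x'
    haveI := regular_localization (O := O) q.asIdeal
    obtain ⟨d, t, hd, ht, hdt⟩ := hN x'
    have hNx : N x' = N x := hWN hx'
    rw [← natCast_le_depth_add_iff' (P := B) (R := Localization.AtPrime q.asIdeal) MW d t (N x) (h2.trans hd)
      (hdt.trans hNx) n, h1, ht]
    exact WithBot.coe_le_coe (a := (n : ℕ∞))
  refine ⟨hW.fromSpec '' {q | (n ≤ N x ∧ PdLE B (Localization.AtPrime q.asIdeal) MW (N x - n)) ∨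
      Subsingleton (Localization.AtPrime q.asIdeal ⊗[B] MW)}, ?_,
    hW.fromSpec.isOpenEmbedding.isOpenMap _ (isOpen_depth_add_const MW (N x) n), ?_⟩
  · rintro _ ⟨q, hq, rfl⟩
    exact (key q).2 hq
  · refine ⟨hW.primeIdealOf ⟨x, hxW⟩, (key _).1 ?_, hW.fromSpec_primeIdealOf _⟩
    rw [hW.fromSpec_primeIdealOf]
    exact hx

/-- In a biequidimensional scheme with integral local rings, `dim O_x + dim cl{x}` is the dimension. -/
theorem exists_dims_of_biequidim (X : Scheme.{u}) (hdom : ∀ x : X, IsDomain ↑(X.presheaf.stalk x))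
    (hfin : topologicalKrullDim X < ⊤)
    (hcomp : ∀ C ∈ irreducibleComponents (X : Type u), topologicalKrullDim ↥C = topologicalKrullDim X)
    (hchain : ∀ (y : X) (T : Set X), IsClosed T → IsIrreducible T → y ∈ T →
      topologicalKrullDim ↥T = topologicalKrullDim ↥(closure ({y} : Set X)) + topologicalKrullDim ↥{t : X | t ∈ T ∧ t ⤳ y})
    (x : X) : ∃ d t : ℕ, ringKrullDim ↑(X.presheaf.stalk x) = (d : WithBot ℕ∞) ∧
      topologicalKrullDim ↥(closure ({x} : Set X)) = (t : WithBot ℕ∞) ∧
      ((d + t : ℕ) : WithBot ℕ∞) = topologicalKrullDim X := by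
  haveI := hdom x
  have hemb : IsEmbedding (X.fromSpecStalk x) := (X.fromSpecStalk x).isEmbedding
  have hirr : IsIrreducible (Set.range (X.fromSpecStalk x)) :=
    Set.image_univ ▸ (IrreducibleSpace.isIrreducible_univ (X := PrimeSpectrum (X.presheaf.stalk x))).image
      (X.fromSpecStalk x) hemb.continuous.continuousOn
  obtain ⟨C, hC, hsub, hmax⟩ : ∃ C : Set X, IsIrreducible C ∧ Set.range (X.fromSpecStalk x) ⊆ C ∧
      C ∈ irreducibleComponents (X : Type u) := by
    obtain ⟨C, hC, hsub, hmax⟩ := exists_preirreducible (Set.range (X.fromSpecStalk x)) hirr.isPreirreducible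
    refine ⟨C, ⟨hirr.1.mono hsub, hC⟩, hsub, ⟨hirr.1.mono hsub, hC⟩, fun D hD hCD => ?_⟩
    exact (hmax D hD.2 hCD).le
  have hgen : {t : X | t ∈ C ∧ t ⤳ x} = Set.range (X.fromSpecStalk x) := by
    rw [Scheme.range_fromSpecStalk] at hsub ⊢
    exact Set.ext fun t => ⟨fun h => h.2, fun h => ⟨hsub h, h⟩⟩
  have hdim : topologicalKrullDim ↥{t : X | t ∈ C ∧ t ⤳ x} = ringKrullDim ↑(X.presheaf.stalk x) := by
    rw [hgen, ← IsHomeomorph.topologicalKrullDim_eq _ hemb.toHomeomorph.isHomeomorph]
    exact PrimeSpectrum.topologicalKrullDim_eq_ringKrullDim _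
  have hxC : x ∈ C := hsub (by rw [Scheme.range_fromSpecStalk]; exact specializes_rfl)
  have h := hchain x C (isClosed_of_mem_irreducibleComponents C hmax) hC hxC
  rw [hcomp C hmax, hdim] at h
  have hx0 : (0 : WithBot ℕ∞) ≤ topologicalKrullDim ↥(closure ({x} : Set X)) := by
    haveI : Nonempty (TopologicalSpace.IrreducibleCloseds ↥(closure ({x} : Set X))) :=
      ⟨⟨closure {⟨x, subset_closure rfl⟩}, isIrreducible_singleton.closure, isClosed_closure⟩⟩
    exact Order.krullDim_nonneg
  have hd0 : (0 : WithBot ℕ∞) ≤ ringKrullDim ↑(X.presheaf.stalk x) := ringKrullDim_nonneg_of_nontrivial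
  have hdX : ringKrullDim ↑(X.presheaf.stalk x) ≤ topologicalKrullDim X := h ▸ le_add_of_nonneg_left hx0
  have htX : topologicalKrullDim ↥(closure ({x} : Set X)) ≤ topologicalKrullDim X := h ▸ le_add_of_nonneg_right hd0
  have nat_of : ∀ c : WithBot ℕ∞, 0 ≤ c → c ≤ topologicalKrullDim X → ∃ k : ℕ, c = (k : WithBot ℕ∞) := by
    intro c h0 hle
    obtain ⟨c, rfl⟩ := WithBot.ne_bot_iff_exists.1 (ne_bot_of_le_ne_bot WithBot.zero_ne_bot h0)
    obtain ⟨k, rfl⟩ := ENat.ne_top_iff_exists.1 (show c ≠ ⊤ from fun hc => by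
      subst hc
      exact (lt_irrefl _ ((lt_of_le_of_lt hle hfin) : ((⊤ : ℕ∞) : WithBot ℕ∞) < ⊤)))
    exact ⟨k, rfl⟩
  obtain ⟨d, hd⟩ := nat_of _ hd0 hdX
  obtain ⟨t, ht⟩ := nat_of _ hx0 htX
  refine ⟨d, t, hd, ht, ?_⟩
  rw [h, hd, ht]
  push_cast
  rw [add_comm]

end Groth.Agent.FibreDepth
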