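import Groth.Agent.FibreDepth.AssScheme
import Groth.Agent.DimFormulaLib.FibrePoints

/-!
Associated points and components of the supports of the fibres, read on the fibres.
-/

set_option autoImplicit false
set_option linter.style.haveILetI false

universe u

open CategoryTheory AlgebraicGeometry IsLocalRing TensorProduct Topology

namespace Groth.Agent.FibreDepth

section Topology

variable {T : Type u} [TopologicalSpace T] [QuasiSober T] [T0Space T] {S : Set T} (hS : IsClosed S)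

include hS

theorem closure_subtype_dim (z : S) :
    topologicalKrullDim ↥(closure ({z} : Set S)) = topologicalKrullDim ↥(closure ({z.1} : Set T)) := by
  have hc : closure ({z} : Set S) = Subtype.val ⁻¹' closure ({z.1} : Set T) := by
    rw [IsEmbedding.subtypeVal.isInducing.closure_eq_preimage_closure_image, Set.image_singleton]
  have hsub : closure ({z.1} : Set T) ⊆ S := hS.closure_subset_iff.2 (Set.singleton_subset_iff.2 z.2)
  rw [hc]
  let g : ↥(Subtype.val ⁻¹' closure ({z.1} : Set T) : Set S) → ↥(closure ({z.1} : Set T)) := fun w => ⟨w.1.1, w.2⟩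
  have hg : IsEmbedding g := (IsEmbedding.subtypeVal.comp IsEmbedding.subtypeVal).codRestrict _ _
  exact (hg.toHomeomorphOfSurjective fun w => ⟨⟨⟨w.1, hsub w.2⟩, w.2⟩, rfl⟩).isHomeomorph.topologicalKrullDim_eq

theorem exists_component_iff (P : WithBot ℕ∞ → Prop) :
    (∃ Z ∈ irreducibleComponents ↥S, P (topologicalKrullDim ↥Z)) ↔
      ∃ z : S, (∀ w : S, w ⤳ z → w = z) ∧ P (topologicalKrullDim ↥(closure ({z.1} : Set T))) := by
  haveI : QuasiSober ↥S := hS.isClosedEmbedding_subtypeVal.quasiSober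
  constructor
  · rintro ⟨Z, hZ, hP⟩
    obtain ⟨z, hz⟩ := QuasiSober.sober hZ.1 (isClosed_of_mem_irreducibleComponents Z hZ)
    refine ⟨z, fun w hw => ?_, by rwa [← closure_subtype_dim hS z, hz.def]⟩
    have h1 : Z ≤ closure {w} := hz.def ▸ hw.closure_subset
    have h2 := hZ.2 isIrreducible_singleton.closure h1
    exact (hw.antisymm (specializes_iff_mem_closure.2 (hz.def.symm ▸ h2 (subset_closure rfl)))).eq
  · rintro ⟨z, hz, hP⟩
    refine ⟨closure {z}, ⟨isIrreducible_singleton.closure, fun Z hZ hle => ?_⟩, by rwa [closure_subtype_dim hS z]⟩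
    obtain ⟨η, hη⟩ := QuasiSober.sober hZ.closure isClosed_closure
    intro w hw
    rw [← hz η (hη.specializes (subset_closure (hle (subset_closure rfl))))]
    exact hη.def.symm ▸ subset_closure hw

theorem exists_min_le_subtype (z : S) : ∃ η : S, η ⤳ z ∧ ∀ w : S, w ⤳ η → w = η := by
  haveI : QuasiSober ↥S := hS.isClosedEmbedding_subtypeVal.quasiSober
  obtain ⟨Z, hZ, hle⟩ := exists_mem_irreducibleComponents_subset_of_isIrreducible (closure ({z} : Set S))
    isIrreducible_singleton.closure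
  obtain ⟨η, hη⟩ := QuasiSober.sober hZ.1 (isClosed_of_mem_irreducibleComponents Z hZ)
  refine ⟨η, hη.specializes (hle (subset_closure rfl)), fun w hw => ?_⟩
  have h1 : Z ≤ closure {w} := hη.def ▸ hw.closure_subset
  have h2 := hZ.2 isIrreducible_singleton.closure h1
  exact (hw.antisymm (specializes_iff_mem_closure.2 (hη.def.symm ▸ h2 (subset_closure rfl)))).eq

theorem topologicalKrullDim_le_of_min (D : WithBot ℕ∞)
    (h : ∀ η : S, (∀ w : S, w ⤳ η → w = η) → topologicalKrullDim ↥(closure ({η.1} : Set T)) ≤ D) :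
    topologicalKrullDim ↥S ≤ D := by
  haveI : QuasiSober ↥S := hS.isClosedEmbedding_subtypeVal.quasiSober
  letI : PartialOrder ↥S := specializationOrder _
  rw [topologicalKrullDim, @Order.krullDim_eq_of_orderIso _ _ _ (specializationOrder _).toPreorder
    (irreducibleSetEquivPoints (α := ↥S)), Order.krullDim_eq_iSup_height]
  refine iSup_le fun z => ?_
  obtain ⟨η, hηz, hη⟩ := exists_min_le_subtype hS z
  refine le_trans ?_ (h η hη)
  rw [← closure_subtype_dim hS η, DimFormulaLib.topologicalKrullDim_closure_aux η]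
  exact WithBot.coe_le_coe.2 (Order.height_mono hηz)

theorem closure_dim_le (z : S) : topologicalKrullDim ↥(closure ({z.1} : Set T)) ≤ topologicalKrullDim ↥S :=
  (closure_subtype_dim hS z).symm.trans_le (IsEmbedding.subtypeVal.isInducing.topologicalKrullDim_le)

end Topology

variable {X Y : Scheme.{u}} (f : X ⟶ Y) [LocallyOfFinitePresentation f] (F : X.Modules) [Coh.IsQCoh F]

/-- The support of the fibre of `F` at `y`. -/
def fibSuppSet (y : Y) : Set ↥(f.fiber y) :=
  {z | Nontrivial (((Scheme.Modules.pullback (f.fiberι y)).obj F).presheaf.stalk z)}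

theorem mem_fibSuppSet (hF : CohB1.IsFP F) (y : Y) (z : f.fiber y) :
    z ∈ fibSuppSet f F y ↔ fiberSupp f F (f.fiberι y z) ≠ ⊥ :=
  ((fib_transfer f y z fun y z => z ∈ fibSuppSet f F y).2.symm).trans (fiberSupp_ne_bot_iff f F hF _)

theorem isClosed_fibSuppSet (hF : CohB1.IsFP F) (y : Y) : IsClosed (fibSuppSet f F y) := by
  have h : IsClosed {x : X | fiberSupp f F x ≠ ⊥} := by
    rw [← isOpen_compl_iff]
    refine isOpen_of_models (exists_model f F hF) _ fun 𝔐 => ?_
    convert (((Module.isClosed_support (R := MvPolynomial (Fin 𝔐.m) 𝔐.A) (M := 𝔐.M)).preimage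
      (PrimeSpectrum.continuous_comap 𝔐.φ)).isOpen_compl) using 1
    ext q
    exact not_congr (𝔐.supp_ne_bot_iff q)
  rw [show fibSuppSet f F y = f.fiberι y ⁻¹' {x | fiberSupp f F x ≠ ⊥} from Set.ext (mem_fibSuppSet f F hF y)]
  exact h.preimage (f.fiberι y).continuous

theorem min_iff (hF : CohB1.IsFP F) (y : Y) (z : fibSuppSet f F y) :
    (∀ w : fibSuppSet f F y, w ⤳ z → w = z) ↔ fiberSupp f F (f.fiberι y z.1) = 0 := by
  have hy : f.base (f.fiberι y z.1) = y := (fib_transfer f y z.1 fun _ _ => True).1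
  constructor
  · intro h
    obtain ⟨x', hsp, hb, h0⟩ := exists_min_fibre f F hF _ ((mem_fibSuppSet f F hF y z.1).1 z.2)
    obtain ⟨w, rfl⟩ : x' ∈ Set.range (f.fiberι y) := by rw [f.range_fiberι]; exact hb.trans hy
    rw [← h ⟨w, (mem_fibSuppSet f F hF y w).2 (h0.trans_ne WithBot.zero_ne_bot)⟩
      (subtype_specializes_iff _ _ |>.2 ((f.fiberι y).isEmbedding.isInducing.specializes_iff.1 hsp))]
    exact h0
  · intro h w hw
    have hw' : f.fiberι y w.1 ⤳ f.fiberι y z.1 := ((subtype_specializes_iff _ _).1 hw).map (f.fiberι y).continuous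
    have hb : f.base (f.fiberι y w.1) = f.base (f.fiberι y z.1) :=
      (fib_transfer f y w.1 fun _ _ => True).1.trans hy.symm
    exact Subtype.ext ((f.fiberι y).isEmbedding.injective
      (eq_of_fiberSupp_zero f F hF h hw' hb ((mem_fibSuppSet f F hF y w.1).1 w.2)))

theorem exists_component_fibre_iff (hF : CohB1.IsFP F) (y : Y) (P : WithBot ℕ∞ → Prop) :
    (∃ Z ∈ irreducibleComponents ↥(fibSuppSet f F y), P (topologicalKrullDim ↥Z)) ↔
      ∃ x, f.base x = y ∧ fiberSupp f F x = 0 ∧ P (clDim f x) := by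
  rw [exists_component_iff (isClosed_fibSuppSet f F hF y)]
  constructor
  · rintro ⟨z, hz, hP⟩
    refine ⟨f.fiberι y z.1, (fib_transfer f y z.1 fun _ _ => True).1, (min_iff f F hF y z).1 hz, ?_⟩
    exact (fib_transfer f y z.1 fun y z => P (topologicalKrullDim ↥(closure ({z} : Set ↥(f.fiber y))))).2.2 hP
  · rintro ⟨x, rfl, h0, hP⟩
    have hx : f.fiberι (f.base x) (f.asFiber x) = x := f.fiberι_asFiber x
    refine ⟨⟨f.asFiber x, (mem_fibSuppSet f F hF _ _).2 (by rw [hx, h0]; exact WithBot.zero_ne_bot)⟩,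
      (min_iff f F hF _ _).2 (by rw [hx]; exact h0), hP⟩

theorem ass_iff (hF : CohB1.IsFP F) (y : Y) (z : f.fiber y) :
    z ∈ AssSch.Ass ((Scheme.Modules.pullback (f.fiberι y)).obj F) ↔ CInt.fiberDepth f F (f.fiberι y z) = 0 :=
  ((fib_transfer f y z fun y z => z ∈ AssSch.Ass ((Scheme.Modules.pullback (f.fiberι y)).obj F)).2.symm).trans
    (mem_ass_iff f F hF _)

theorem not_embedded_iff (hF : CohB1.IsFP F) (x : X) (h : CInt.fiberDepth f F x = 0) :
    (∀ z' ∈ AssSch.Ass ((Scheme.Modules.pullback (f.fiberι (f.base x))).obj F),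
      f.asFiber x ∈ closure {z'} → z' = f.asFiber x) ↔ fiberSupp f F x = 0 := by
  constructor
  · intro H
    obtain ⟨x', hsp, hb, h0⟩ := exists_min_fibre f F hF x (fiberSupp_ne_bot_of_depth_zero f F hF h)
    obtain ⟨z, rfl⟩ : x' ∈ Set.range (f.fiberι (f.base x)) := by rw [f.range_fiberι]; exact hb
    rw [H z ((ass_iff f F hF _ z).2 (fiberDepth_zero_of_supp_zero f F hF h0)) (specializes_iff_mem_closure.1
      ((f.fiberι (f.base x)).isEmbedding.isInducing.specializes_iff.1 (by rwa [f.fiberι_asFiber]))),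
      f.fiberι_asFiber] at h0
    exact h0
  · intro h0 z' hz' hcl
    have hsp := (specializes_iff_mem_closure.2 hcl).map (f.fiberι (f.base x)).continuous
    rw [f.fiberι_asFiber] at hsp
    refine (f.fiberι (f.base x)).isEmbedding.injective ?_
    rw [f.fiberι_asFiber]
    exact eq_of_fiberSupp_zero f F hF h0 hsp (fib_transfer f _ z' fun _ _ => True).1
      (fiberSupp_ne_bot_of_depth_zero f F hF ((ass_iff f F hF _ z').1 hz'))

theorem isOpen_forall_ass_dims (hF : CohB1.IsFP F) (hflat : FlatMod.IsFlatOver f F) (Φ : Finset ℕ) :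
    IsOpen {x : X | ∀ z ∈ AssSch.Ass ((Scheme.Modules.pullback (f.fiberι (f.base x))).obj F),
      f.asFiber x ∈ closure {z} →
      ∃ n ∈ Φ, topologicalKrullDim ↥(closure ({z} : Set ↥(f.fiber (f.base x)))) = (n : WithBot ℕ∞)} := by
  convert isOpen_ass_dims (exists_model f F hF) hflat Φ using 1
  ext x
  rw [Set.mem_ofPred_eq, Set.mem_ofPred_eq]
  have h := forall_fiber_iff f (fun y z => z ∈ AssSch.Ass ((Scheme.Modules.pullback (f.fiberι y)).obj F) →
    ∃ n ∈ Φ, topologicalKrullDim ↥(closure ({z} : Set ↥(f.fiber y))) = (n : WithBot ℕ∞)) x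
  refine Iff.trans ⟨fun H z hz h' => H z h' hz, fun H z hz h' => H z h' hz⟩ (h.trans (forall₃_congr fun x' _ _ => ?_))
  rw [mem_ass_iff f F hF]
  rfl

theorem isOpen_forall_noEmbedded (hF : CohB1.IsFP F) (hflat : FlatMod.IsFlatOver f F) :
    IsOpen {x : X | ∀ z ∈ AssSch.Ass ((Scheme.Modules.pullback (f.fiberι (f.base x))).obj F),
      f.asFiber x ∈ closure {z} →
      ∀ z' ∈ AssSch.Ass ((Scheme.Modules.pullback (f.fiberι (f.base x))).obj F), z ∈ closure {z'} → z' = z} := by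
  convert isOpen_ass_supp_zero (exists_model f F hF) hflat using 1
  ext x
  rw [Set.mem_ofPred_eq, Set.mem_ofPred_eq]
  have h := forall_fiber_iff f (fun y z => z ∈ AssSch.Ass ((Scheme.Modules.pullback (f.fiberι y)).obj F) →
    ∀ z' ∈ AssSch.Ass ((Scheme.Modules.pullback (f.fiberι y)).obj F), z ∈ closure {z'} → z' = z) x
  refine Iff.trans ⟨fun H z hz h' => H z h' hz, fun H z hz h' => H z h' hz⟩ (h.trans (forall₃_congr fun x' _ _ => ?_))
  rw [mem_ass_iff f F hF]
  exact forall_congr' fun h0 => not_embedded_iff f F hF x' h0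

theorem forall_ass_iff_forall_point (Q : ∀ y : Y, ↥(f.fiber y) → Prop) (y : Y) :
    (∀ z ∈ AssSch.Ass ((Scheme.Modules.pullback (f.fiberι y)).obj F), Q y z) ↔
      ∀ w : f.fiber y, ∀ z ∈ AssSch.Ass ((Scheme.Modules.pullback (f.fiberι y)).obj F), w ∈ closure {z} → Q y z :=
  ⟨fun h _ z hz _ => h z hz, fun h z hz => h z z hz (subset_closure rfl)⟩

theorem isOpen_fibre_ass_dims [IsProper f] (hF : CohB1.IsFP F) (hflat : FlatMod.IsFlatOver f F) (Φ : Finset ℕ) :
    IsOpen {y : Y | ∀ z ∈ AssSch.Ass ((Scheme.Modules.pullback (f.fiberι y)).obj F), ∃ n ∈ Φ,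
      topologicalKrullDim ↥(closure ({z} : Set ↥(f.fiber y))) = (n : WithBot ℕ∞)} := by
  simp only [fun y => forall_ass_iff_forall_point f F (fun y z => ∃ n ∈ Φ,
      topologicalKrullDim ↥(closure ({z} : Set ↥(f.fiber y))) = (n : WithBot ℕ∞)) y]
  exact isOpen_forall_fiber _ (isOpen_forall_ass_dims f F hF hflat Φ)
    (fun y w => ∀ z ∈ AssSch.Ass ((Scheme.Modules.pullback (f.fiberι y)).obj F), w ∈ closure {z} → ∃ n ∈ Φ,
      topologicalKrullDim ↥(closure ({z} : Set ↥(f.fiber y))) = (n : WithBot ℕ∞)) fun _ => Iff.rfl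

theorem isOpen_fibre_noEmbedded [IsProper f] (hF : CohB1.IsFP F) (hflat : FlatMod.IsFlatOver f F) :
    IsOpen {y : Y | AssSch.NoEmbedded ((Scheme.Modules.pullback (f.fiberι y)).obj F)} := by
  convert isOpen_forall_fiber _ (isOpen_forall_noEmbedded f F hF hflat)
    (fun y w => ∀ z ∈ AssSch.Ass ((Scheme.Modules.pullback (f.fiberι y)).obj F), w ∈ closure {z} →
      ∀ z' ∈ AssSch.Ass ((Scheme.Modules.pullback (f.fiberι y)).obj F), z ∈ closure {z'} → z' = z)
    (fun _ => Iff.rfl) using 1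
  ext y
  exact ⟨fun h w z hz _ z' hz' hcl => (h z hz z' hz' (specializes_iff_mem_closure.2 hcl)).symm,
    fun h z hz z' hz' hsp => (h z z hz (subset_closure rfl) z' hz' (specializes_iff_mem_closure.1 hsp)).symm⟩

theorem isOpen_fibre_component_dim (hF : CohB1.IsFP F) (hflat : FlatMod.IsFlatOver f F) (n : ℕ) :
    IsOpen {y : Y | ∃ Z ∈ irreducibleComponents ↥(fibSuppSet f F y), topologicalKrullDim ↥Z = (n : WithBot ℕ∞)} := by
  convert isOpen_image_min (exists_model f F hF) hflat n using 1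
  ext y
  rw [Set.mem_ofPred_eq, exists_component_fibre_iff f F hF y (fun v => v = (n : WithBot ℕ∞))]
  exact ⟨fun ⟨x, h1, h2, h3⟩ => ⟨x, ⟨h2, h3⟩, h1⟩, fun ⟨x, ⟨h2, h3⟩, h1⟩ => ⟨x, h1, h2, h3⟩⟩

theorem ass_dims_iff_components (hF : CohB1.IsFP F) (y : Y)
    (hne : AssSch.NoEmbedded ((Scheme.Modules.pullback (f.fiberι y)).obj F)) (P : WithBot ℕ∞ → Prop) :
    (∀ z ∈ AssSch.Ass ((Scheme.Modules.pullback (f.fiberι y)).obj F),
      P (topologicalKrullDim ↥(closure ({z} : Set ↥(f.fiber y))))) ↔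
      ∀ Z ∈ irreducibleComponents ↥(fibSuppSet f F y), P (topologicalKrullDim ↥Z) := by
  constructor
  · intro h Z hZ
    by_contra hP
    obtain ⟨x, rfl, h0, hP'⟩ := (exists_component_fibre_iff f F hF y (fun v => ¬ P v)).1 ⟨Z, hZ, hP⟩
    exact hP' (h _ ((mem_ass_iff f F hF x).2 (fiberDepth_zero_of_supp_zero f F hF h0)))
  · intro h z hz
    by_contra hP
    obtain ⟨hy, htr⟩ := fib_transfer f y z fun y z => (z ∈ AssSch.Ass ((Scheme.Modules.pullback (f.fiberι y)).obj F) ∧
      (∀ z' ∈ AssSch.Ass ((Scheme.Modules.pullback (f.fiberι y)).obj F), z ∈ closure {z'} → z' = z)) ∧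
      ¬ P (topologicalKrullDim ↥(closure ({z} : Set ↥(f.fiber y))))
    obtain ⟨⟨hz', hemb⟩, hP'⟩ := htr.2
      ⟨⟨hz, fun z' hz' hcl => (hne z hz z' hz' (specializes_iff_mem_closure.2 hcl)).symm⟩, hP⟩
    obtain ⟨Z, hZ, hPZ⟩ := (exists_component_fibre_iff f F hF y (fun v => ¬ P v)).2
      ⟨f.fiberι y z, hy, (not_embedded_iff f F hF _ ((mem_ass_iff f F hF _).1 hz')).1 hemb, hP'⟩
    exact hPZ (h Z hZ)

theorem exists_nat_clDim (hF : CohB1.IsFP F) (x : X) : ∃ n : ℕ, clDim f x = (n : WithBot ℕ∞) := by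
  obtain ⟨𝔐, q, rfl⟩ := exists_model f F hF x
  obtain ⟨d, t, -, ht, -⟩ := 𝔐.exists_dims q
  exact ⟨t, ht⟩

theorem finite_components [QuasiCompact f] (y : Y) : (irreducibleComponents ↥(fibSuppSet f F y)).Finite := by
  haveI : LocallyOfFiniteType (f.fiberToSpecResidueField y) := MorphismProperty.pullback_snd _ _ inferInstance
  haveI : IsLocallyNoetherian (f.fiber y) := LocallyOfFiniteType.isLocallyNoetherian (f.fiberToSpecResidueField y)
  haveI : IsNoetherian (f.fiber y) := {}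
  exact TopologicalSpace.NoetherianSpace.finite_irreducibleComponents

theorem isLocallyConstant_dim_supp [IsProper f] (hF : CohB1.IsFP F) (hflat : FlatMod.IsFlatOver f F) :
    IsLocallyConstant (fun y : Y => topologicalKrullDim ↥(fibSuppSet f F y)) := by
  classical
  refine (IsLocallyConstant.iff_exists_open _).2 fun y₀ => ?_
  -- dimensions of components
  have hle : ∀ (y : Y) (z : f.fiber y), z ∈ fibSuppSet f F y →
      topologicalKrullDim ↥(closure ({z} : Set ↥(f.fiber y))) ≤ topologicalKrullDim ↥(fibSuppSet f F y) :=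
    fun y z hz => closure_dim_le (isClosed_fibSuppSet f F hF y) ⟨z, hz⟩
  have hfin := finite_components f F y₀
  have hnat : ∀ Z ∈ irreducibleComponents ↥(fibSuppSet f F y₀), ∃ n : ℕ, topologicalKrullDim ↥Z = (n : WithBot ℕ∞) := by
    intro Z hZ
    obtain ⟨x, -, -, hx⟩ :=
      (exists_component_fibre_iff f F hF y₀ (fun v => v = topologicalKrullDim ↥Z)).1 ⟨Z, hZ, rfl⟩
    obtain ⟨n, hn⟩ := exists_nat_clDim f F hF x
    exact ⟨n, hx.symm.trans hn⟩
  choose g hg using hnat
  let Φ₀ : Finset ℕ := hfin.toFinset.attach.image fun Z => g Z.1 (hfin.mem_toFinset.1 Z.2)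
  have hΦ₀ : ∀ n, n ∈ Φ₀ ↔ ∃ Z ∈ irreducibleComponents ↥(fibSuppSet f F y₀), topologicalKrullDim ↥Z = (n : WithBot ℕ∞) := by
    intro n
    simp only [Φ₀, Finset.mem_image, Finset.mem_attach, true_and]
    constructor
    · rintro ⟨⟨Z, hZ⟩, rfl⟩
      exact ⟨Z, hfin.mem_toFinset.1 hZ, hg _ _⟩
    · rintro ⟨Z, hZ, hn⟩
      exact ⟨⟨Z, hfin.mem_toFinset.2 hZ⟩, by exact_mod_cast (hg Z hZ).symm.trans hn⟩
  -- bound on all associated points
  let Φ : Finset ℕ := (Φ₀.sup id + 1 : ℕ) |> Finset.range |>.filter fun _ => Φ₀.Nonempty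
  let v : WithBot ℕ∞ := if Φ₀.Nonempty then ((Φ₀.sup id : ℕ) : WithBot ℕ∞) else ⊥
  have hS0 : topologicalKrullDim ↥(fibSuppSet f F y₀) ≤ v := by
    refine topologicalKrullDim_le_of_min (isClosed_fibSuppSet f F hF y₀) v fun η hη => ?_
    obtain ⟨Z, hZ, hZd⟩ := (exists_component_iff (isClosed_fibSuppSet f F hF y₀)
      (fun w => w = topologicalKrullDim ↥(closure ({η.1} : Set ↥(f.fiber y₀))))).2 ⟨η, hη, rfl⟩
    have hmem := (hΦ₀ _).2 ⟨Z, hZ, hg Z hZ⟩
    rw [← hZd, hg Z hZ, show v = _ from if_pos ⟨_, hmem⟩]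
    exact Nat.cast_le.2 (Finset.le_sup (f := id) hmem)
  have hy₀ : y₀ ∈ {y : Y | ∀ z ∈ AssSch.Ass ((Scheme.Modules.pullback (f.fiberι y)).obj F), ∃ n ∈ Φ,
      topologicalKrullDim ↥(closure ({z} : Set ↥(f.fiber y))) = (n : WithBot ℕ∞)} := by
    intro z hz
    have hzS : z ∈ fibSuppSet f F y₀ :=
      (mem_fibSuppSet f F hF y₀ z).2 (fiberSupp_ne_bot_of_depth_zero f F hF ((ass_iff f F hF y₀ z).1 hz))
    obtain ⟨n, hn⟩ := exists_nat_clDim f F hF (f.fiberι y₀ z)
    have hn' : topologicalKrullDim ↥(closure ({z} : Set ↥(f.fiber y₀))) = (n : WithBot ℕ∞) :=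
      (fib_transfer f y₀ z fun y z => topologicalKrullDim ↥(closure ({z} : Set ↥(f.fiber y))) = (n : WithBot ℕ∞)).2.1 hn
    have h := (hle y₀ z hzS).trans hS0
    rw [hn'] at h
    refine ⟨n, ?_, hn'⟩
    by_cases hne : Φ₀.Nonempty
    · rw [show v = _ from if_pos hne] at h
      have h' : n ≤ Φ₀.sup id := Nat.cast_le.1 h
      simp only [Φ, Finset.mem_filter, Finset.mem_range]
      exact ⟨by omega, hne⟩
    · rw [show v = _ from if_neg hne] at h
      exact absurd (le_bot_iff.1 h) (WithBot.natCast_ne_bot n)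
  refine ⟨{y : Y | ∀ z ∈ AssSch.Ass ((Scheme.Modules.pullback (f.fiberι y)).obj F), ∃ n ∈ Φ,
      topologicalKrullDim ↥(closure ({z} : Set ↥(f.fiber y))) = (n : WithBot ℕ∞)} ∩
    ⋂ n ∈ Φ₀, {y : Y | ∃ Z ∈ irreducibleComponents ↥(fibSuppSet f F y), topologicalKrullDim ↥Z = (n : WithBot ℕ∞)},
    (isOpen_fibre_ass_dims f F hF hflat Φ).inter (isOpen_biInter_finset fun n _ => isOpen_fibre_component_dim f F hF hflat n),
    ⟨hy₀, Set.mem_iInter₂.2 fun n hn => (hΦ₀ n).1 hn⟩, ?_⟩
  suffices H : ∀ y, (∀ z ∈ AssSch.Ass ((Scheme.Modules.pullback (f.fiberι y)).obj F), ∃ n ∈ Φ,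
      topologicalKrullDim ↥(closure ({z} : Set ↥(f.fiber y))) = (n : WithBot ℕ∞)) →
      (∀ n ∈ Φ₀, ∃ Z ∈ irreducibleComponents ↥(fibSuppSet f F y), topologicalKrullDim ↥Z = (n : WithBot ℕ∞)) →
      topologicalKrullDim ↥(fibSuppSet f F y) = v by
    intro y hy
    exact (H y hy.1 (fun n hn => Set.mem_iInter₂.1 hy.2 n hn)).trans
      (H y₀ hy₀ fun n hn => (hΦ₀ n).1 hn).symm
  intro y h1 h2
  refine le_antisymm (topologicalKrullDim_le_of_min (isClosed_fibSuppSet f F hF y) v fun η hη => ?_) ?_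
  · have h0 := (min_iff f F hF y η).1 hη
    obtain ⟨n, hn, hd⟩ := h1 η.1 ((ass_iff f F hF y η.1).2 (fiberDepth_zero_of_supp_zero f F hF h0))
    simp only [Φ, Finset.mem_filter, Finset.mem_range] at hn
    rw [hd, show v = _ from if_pos hn.2]
    exact Nat.cast_le.2 (by omega)
  · by_cases hne : Φ₀.Nonempty
    · obtain ⟨n, hn, hsup⟩ := Finset.exists_mem_eq_sup _ hne id
      obtain ⟨Z, hZ, hd⟩ := h2 n hn
      rw [show v = _ from if_pos hne, hsup, id, ← hd]
      exact IsEmbedding.subtypeVal.isInducing.topologicalKrullDim_le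
    · rw [show v = _ from if_neg hne]
      exact bot_le

end Groth.Agent.FibreDepth
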