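import Groth.Agent.FibreDepth.ConstrScheme
import Groth.Agent.ConstrNoeth.Prespectral

/-!
The depth of the fibres along a closed subset: openness and constructibility on the flat locus.
-/

set_option autoImplicit false
set_option linter.style.haveILetI false

universe u

open CategoryTheory AlgebraicGeometry IsLocalRing TensorProduct Topology

namespace Groth.Agent.FibreDepth

theorem exists_fg_ideal_of_isClosed_isConstructible {R : Type u} [CommRing R] {Z : Set (PrimeSpectrum R)}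
    (h1 : IsClosed Z) (h2 : IsConstructible Z) :
    ∃ I : Ideal R, I.FG ∧ PrimeSpectrum.zeroLocus (I : Set R) = Z := by
  obtain ⟨I, hI, h⟩ := PrimeSpectrum.isCompact_isOpen_iff_ideal.1
    ⟨(ConstrPrespectral.isRetrocompact_of_isConstructible (isConstructible_compl.2 h2)).isCompact, h1.isOpen_compl⟩
  exact ⟨I, hI, compl_inj_iff.1 h⟩

theorem isConstructible_zeroLocus_of_fg {R : Type u} [CommRing R] {I : Ideal R} (hI : I.FG) :
    IsConstructible (PrimeSpectrum.zeroLocus (I : Set R)) :=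
  isConstructible_compl.1 ((PrimeSpectrum.isRetrocompact_zeroLocus_compl_of_fg hI).isConstructible
    (PrimeSpectrum.isClosed_zeroLocus _).isOpen_compl)

theorem exists_ideal_fg_if {R : Type u} [CommRing R] {Z : Set (PrimeSpectrum R)} (hZ : IsClosed Z) {Q : Prop}
    (h : Q → IsConstructible Z) :
    ∃ I : Ideal R, PrimeSpectrum.zeroLocus (I : Set R) = Z ∧ (Q → I.FG) := by
  by_cases hQ : Q
  · obtain ⟨I, hI, hIZ⟩ := exists_fg_ideal_of_isClosed_isConstructible hZ (h hQ)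
    exact ⟨I, hIZ, fun _ => hI⟩
  · obtain ⟨I, hI⟩ := (PrimeSpectrum.isClosed_iff_zeroLocus_ideal Z).1 hZ
    exact ⟨I, hI.symm, fun h' => absurd h' hQ⟩

/-- A lower bound for the depth along `V(I)` in a regular local ring, through codimensions. -/
theorem depthAlong_iff_codimAt {P R : Type u} [CommRing P] [CommRing R] [IsRegularLocalRing R] [Algebra P R]
    (M : Type u) [AddCommGroup M] [Module P M] [Module.Finite P M] (Rr : PrimeSpectrum P → Type u)
    [∀ r, CommRing (Rr r)] [∀ r, Algebra P (Rr r)] [∀ r, IsRegularLocalRing (Rr r)] (Q : PrimeSpectrum P → Prop)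
    (hloc : ∀ (𝔯 : Ideal R) [𝔯.IsPrime], ∃ r : PrimeSpectrum P, r.asIdeal = 𝔯.comap (algebraMap P R) ∧ Q r ∧
      Nonempty (Localization.AtPrime 𝔯 ≃ₐ[P] Rr r))
    (hsurj : ∀ r : PrimeSpectrum P, Q r → ∃ 𝔯 : PrimeSpectrum R, r.asIdeal = 𝔯.asIdeal.comap (algebraMap P R))
    (I : Ideal P) (m : ℕ) (hm : ringKrullDim R ≤ (m : WithBot ℕ∞)) (J : ℕ → Ideal P)
    (hJ : ∀ (e : ℕ) (r : PrimeSpectrum P), J e ≤ r.asIdeal ↔
      I ≤ r.asIdeal ∧ ¬ tensSupp P (Rr r) M = ⊥ ∧ ∀ e', e' < e → ¬ PdLE P (Rr r) M e')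
    (n : ℕ) :
    (∀ r : PrimeSpectrum P, Q r → I ≤ r.asIdeal → (n : ℕ∞) ≤ tensDepth P (Rr r) M) ↔
      ∀ e ≤ m, CodimAt R (J e) (n + e) := by
  obtain ⟨d₀, hd₀⟩ := RegLocal.exists_nat_ringKrullDim R
  have hd₀m : d₀ ≤ m := by rw [hd₀] at hm; exact_mod_cast hm
  have key : ∀ (r : PrimeSpectrum P) (𝔯 : Ideal R) [𝔯.IsPrime], Nonempty (Localization.AtPrime 𝔯 ≃ₐ[P] Rr r) →
      ∃ d : ℕ, d ≤ m ∧ 𝔯.height = d ∧ ringKrullDim (Rr r) = (d : WithBot ℕ∞) := by
    intro r 𝔯 _ hE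
    obtain ⟨E⟩ := hE
    obtain ⟨a, ha⟩ := ENat.ne_top_iff_exists.1 (Ideal.height_ne_top (I := 𝔯) Ideal.IsPrime.ne_top')
    have h := Ideal.height_le_ringKrullDim_of_ne_top (I := 𝔯) Ideal.IsPrime.ne_top'
    rw [← ha, hd₀] at h
    have h' : a ≤ d₀ := by exact_mod_cast h
    refine ⟨a, h'.trans hd₀m, ha.symm, ?_⟩
    rw [← ringKrullDim_eq_of_ringEquiv E.toRingEquiv, IsLocalization.AtPrime.ringKrullDim_eq_height 𝔯, ← ha]
    rfl
  simp only [codimAt_iff_forall_height]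
  constructor
  · intro H e _ 𝔯 _ hle
    obtain ⟨r, hr, hQ, hE⟩ := hloc 𝔯
    rw [← hr] at hle
    obtain ⟨hI, hne, hpd⟩ := (hJ e r).1 hle
    obtain ⟨d, hdm, hht, hd⟩ := key r 𝔯 hE
    haveI : Nontrivial (Rr r ⊗[P] M) :=
      (Module.supportDim_ne_bot_iff_nontrivial (Rr r) (Rr r ⊗[P] M)).1 hne
    obtain ⟨s, D, -, hD, -, hDd, -⟩ := exists_invariants (P := P) (Rr r) M d hd
    have h := H r hQ hI
    rw [tensDepth, hD] at h
    have hnD : n ≤ D := by exact_mod_cast h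
    have he : e ≤ d - D := by
      by_contra hlt
      refine hpd (d - D) (by omega) ?_
      show HasProjectiveDimensionLT _ (d - D + 1)
      rw [projDimLT_iff_le_depth d hd, hD]
      exact_mod_cast (by omega : d - (d - D) ≤ D)
    rw [hht]
    exact_mod_cast (by omega : n + e ≤ d)
  · intro H r hQ hI
    obtain ⟨𝔯, h𝔯⟩ := hsurj r hQ
    obtain ⟨r', hr', -, hE⟩ := hloc 𝔯.asIdeal
    obtain rfl : r' = r := PrimeSpectrum.ext (hr'.trans h𝔯.symm)
    obtain ⟨d, hdm, hht, hd⟩ := key r' 𝔯.asIdeal hE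
    rcases subsingleton_or_nontrivial (Rr r' ⊗[P] M) with h | h
    · rw [tensDepth, CAlgBasics.depth_eq_top]; exact le_top
    obtain ⟨s, D, hs, hD, -, hDd, -⟩ := exists_invariants (P := P) (Rr r') M d hd
    have hle : J (d - D) ≤ r'.asIdeal := by
      refine (hJ (d - D) r').2 ⟨hI, ?_, fun e' he' hpd => ?_⟩
      · rw [tensSupp, hs]; exact WithBot.coe_ne_bot
      · have h' := (projDimLT_iff_le_depth d hd e').1 hpd
        rw [hD] at h'
        have h'' : d - e' ≤ D := by exact_mod_cast h'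
        omega
    have h' := H (d - D) (by omega) 𝔯.asIdeal (h𝔯 ▸ hle)
    rw [hht] at h'
    have h'' : n + (d - D) ≤ d := by exact_mod_cast h'
    rw [tensDepth, hD]
    exact_mod_cast (by omega : n ≤ D)

theorem tensSupp_eq_bot_iff {P R : Type u} [CommRing P] [CommRing R] [IsRegularLocalRing R] [Algebra P R]
    (M : Type u) [AddCommGroup M] [Module P M] [Module.Finite P M] (d m : ℕ) (hd : ringKrullDim R = d) (hm : d ≤ m) :
    tensSupp P R M = ⊥ ↔ CodimAt R (Module.annihilator P M) (m + 1) :=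
  (Module.supportDim_eq_bot_iff_subsingleton R (R ⊗[P] M)).trans (subsingleton_iff_codimAt R M d m hd hm)

section Affine

attribute [local instance] Algebra.TensorProduct.rightAlgebra

section Points

variable {A P : Type u} [CommRing A] [CommRing P] [Algebra A P]

theorem basePrime_eq_of_prime (q : PrimeSpectrum P) (𝔯 : Ideal (FibRing A q)) [𝔯.IsPrime] (r : PrimeSpectrum P)
    (hr : r.asIdeal = 𝔯.comap (algebraMap P (FibRing A q))) (hle : r.asIdeal ≤ q.asIdeal) :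
    basePrime A r = basePrime A q := by
  obtain ⟨φ, -, hker⟩ := exists_surjective_fibRing (A := A) q
  refine le_antisymm (Ideal.comap_mono hle) fun a ha => ?_
  show algebraMap A P a ∈ r.asIdeal
  rw [hr, Ideal.mem_comap, ← φ.commutes, ← IsScalarTower.algebraMap_apply,
    show φ (algebraMap A _ a) = 0 from RingHom.mem_ker.1 (hker.symm ▸ Ideal.mem_map_of_mem _ ha)]
  exact zero_mem _

theorem exists_prime_of_le (q r : PrimeSpectrum P) (hle : r.asIdeal ≤ q.asIdeal)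
    (hb : basePrime A r = basePrime A q) :
    ∃ 𝔯 : PrimeSpectrum (FibRing A q), r.asIdeal = 𝔯.asIdeal.comap (algebraMap P (FibRing A q)) := by
  obtain ⟨φ, hφ, hker⟩ := exists_surjective_fibRing (A := A) q
  let S := Localization.AtPrime q.asIdeal
  have hdis : Disjoint (q.asIdeal.primeCompl : Set P) r.asIdeal :=
    Set.disjoint_left.2 fun x hx hx' => hx (hle hx')
  haveI : (r.asIdeal.map (algebraMap P S)).IsPrime :=
    IsLocalization.isPrime_of_isPrime_disjoint q.asIdeal.primeCompl S r.asIdeal r.isPrime hdis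
  have hk : RingHom.ker φ.toRingHom ≤ r.asIdeal.map (algebraMap P S) := by
    rw [hker, IsScalarTower.algebraMap_eq A P S, ← Ideal.map_map]
    exact Ideal.map_mono (Ideal.map_le_iff_le_comap.2 hb.ge)
  haveI := Ideal.map_isPrime_of_surjective (f := φ.toRingHom) hφ hk
  refine ⟨⟨(r.asIdeal.map (algebraMap P S)).map φ.toRingHom, inferInstance⟩, ?_⟩
  rw [show algebraMap P (FibRing A q) = φ.toRingHom.comp (algebraMap P S) from RingHom.ext fun b => (φ.commutes b).symm,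
    ← Ideal.comap_comap, Ideal.comap_map_of_surjective φ.toRingHom hφ, ← RingHom.ker_eq_comap_bot, sup_eq_left.2 hk]
  exact (IsLocalization.under_map_of_isPrime_disjoint q.asIdeal.primeCompl S r.isPrime hdis).symm

end Points

variable {A : Type u} [CommRing A] {m : ℕ}

theorem isConstructible_codimGE_of_fg {J : Ideal (MvPolynomial (Fin m) A)} (hJ : J.FG) (j : ℕ) :
    IsConstructible {q : PrimeSpectrum (MvPolynomial (Fin m) A) | CodimGE A J q j} := by
  haveI : Module.FinitePresentation (MvPolynomial (Fin m) A) (MvPolynomial (Fin m) A ⧸ J) :=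
    Module.finitePresentation_of_surjective J.mkQ J.mkQ_surjective (by rwa [Submodule.ker_mkQ])
  convert isConstructible_codimSupp (A := A) (m := m) (MvPolynomial (Fin m) A ⧸ J) j using 1
  ext q
  have h := codimAt_annihilator_iff (P := MvPolynomial (Fin m) A) (FibRing A q) (MvPolynomial (Fin m) A ⧸ J) j
  rw [Ideal.annihilator_quotient] at h
  exact h

/-- The lower bound for the depth of the fibres along a closed subset on which the module is flat. -/
theorem exists_open_depthAlong (M : Type u) [AddCommGroup M] [Module (MvPolynomial (Fin m) A) M] [Module A M]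
    [IsScalarTower A (MvPolynomial (Fin m) A) M] [Module.FinitePresentation (MvPolynomial (Fin m) A) M]
    (I : Ideal (MvPolynomial (Fin m) A))
    (hflat : ∀ r : PrimeSpectrum (MvPolynomial (Fin m) A), I ≤ r.asIdeal →
      Module.Flat A (LocalizedModule r.asIdeal.primeCompl M)) (n : ℕ) :
    ∃ W : Set (PrimeSpectrum (MvPolynomial (Fin m) A)), IsOpen W ∧ (I.FG → IsConstructible W) ∧
      ∀ q, q ∈ W ↔ ∀ r : PrimeSpectrum (MvPolynomial (Fin m) A), r.asIdeal ≤ q.asIdeal ∧ basePrime A r = basePrime A q →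
        I ≤ r.asIdeal → (n : ℕ∞) ≤ tensDepth (MvPolynomial (Fin m) A) (FibRing A r) M := by
  let P := MvPolynomial (Fin m) A
  let U : ℕ → Set (PrimeSpectrum P) := fun e =>
    {r | CodimGE A (Module.annihilator P M) r (m + 1)} ∪ ⋃ e' ∈ {e' | e' < e}, PdSet A P M e'
  let U' : ℕ → Set (PrimeSpectrum P) := fun e =>
    {r | CodimGE A (Module.annihilator P M) r (m + 1)} ∪
      ⋃ e' ∈ {e' | e' < e}, {r : PrimeSpectrum P | PdLE P (FibRing A r) M e'}
  have hU : ∀ e, IsOpen (U e) := fun e => (isOpen_codimGE _ _).union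
    (isOpen_biUnion fun e' _ => isOpen_pdSet_mvPolynomial M e')
  have hU' : ∀ e, IsConstructible (U' e) := fun e => by
    refine IsConstructible.union ?_ (IsConstructible.biUnion (Set.finite_lt_nat e) fun e' _ => isConstructible_pd M e')
    convert isConstructible_codimSupp (A := A) (m := m) M (m + 1) using 1
    ext r
    exact codimAt_annihilator_iff (P := P) (FibRing A r) M (m + 1)
  let Z : ℕ → Set (PrimeSpectrum P) := fun e => PrimeSpectrum.zeroLocus (I : Set P) ∩ (U e)ᶜ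
  have hZ' : ∀ e, Z e = PrimeSpectrum.zeroLocus (I : Set P) ∩ (U' e)ᶜ := by
    intro e
    ext r
    refine and_congr_right fun hI => not_congr (or_congr_right ?_)
    simp only [Set.mem_iUnion₂]
    exact ⟨fun ⟨e', he', h⟩ => ⟨e', he', h.2⟩, fun ⟨e', he', h⟩ => ⟨e', he', hflat r hI, h⟩⟩
  choose J hJ hJfg using fun e => exists_ideal_fg_if (Q := I.FG)
    ((PrimeSpectrum.isClosed_zeroLocus (I : Set P)).inter (hU e).isClosed_compl : IsClosed (Z e))
    (fun hI => by rw [show PrimeSpectrum.zeroLocus (I : Set P) ∩ (U e)ᶜ = _ from hZ' e]; exact (isConstructible_zeroLocus_of_fg hI).inter (isConstructible_compl.2 (hU' e)))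
  refine ⟨⋂ e ∈ {e | e ≤ m}, {q | CodimGE A (J e) q (n + e)},
    (Set.finite_le_nat m).isOpen_biInter fun e _ => isOpen_codimGE (J e) (n + e),
    fun hI => IsConstructible.biInter (Set.finite_le_nat m) fun e _ => isConstructible_codimGE_of_fg (hJfg e hI) _,
    fun q => ?_⟩
  obtain ⟨d, t, hd, -, hdm⟩ := fibRing_dim q
  haveI := isRegularLocalRing_fibRing q
  haveI : ∀ r : PrimeSpectrum P, IsRegularLocalRing (FibRing A r) := isRegularLocalRing_fibRing
  rw [depthAlong_iff_codimAt (P := P) (R := FibRing A q) M (fun r => FibRing A r)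
    (fun r => r.asIdeal ≤ q.asIdeal ∧ basePrime A r = basePrime A q) ?_ ?_ I m ?_ J ?_ n, Set.mem_iInter₂]
  · rfl
  · intro 𝔯 _
    obtain ⟨r, hr, hrq, hE⟩ := exists_algEquiv_fibRing q 𝔯
    exact ⟨r, hr, ⟨hrq, basePrime_eq_of_prime q 𝔯 r hr hrq⟩, hE⟩
  · exact fun r hr => exists_prime_of_le q r hr.1 hr.2
  · rw [hd]
    exact_mod_cast (by omega : d ≤ m)
  intro e r
  rw [show J e ≤ r.asIdeal ↔ r ∈ PrimeSpectrum.zeroLocus (J e : Set P) from Iff.rfl, hJ e,
    show PrimeSpectrum.zeroLocus (I : Set P) ∩ (U e)ᶜ = _ from hZ' e]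
  obtain ⟨dr, tr, hdr, -, hdrm⟩ := fibRing_dim r
  refine and_congr Iff.rfl ?_
  rw [tensSupp_eq_bot_iff (P := P) (R := FibRing A r) M dr m hdr (by omega)]
  simp only [U', Set.mem_compl_iff, Set.mem_union, Set.mem_iUnion₂, Set.mem_ofPred_eq, exists_prop, not_or, not_exists,
    not_and]
  rfl

end Affine

variable {X Y : Scheme.{u}} {f : X ⟶ Y}

/-- The depth of the fibres along `Z` is at least `n` at `x`. -/
def DepthAlongGE (f : X ⟶ Y) (dep : X → ℕ∞) (Z : Set X) (n : ℕ∞) (x : X) : Prop :=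
  ∀ z, z ∈ Z → z ⤳ x → f.base z = f.base x → n ≤ dep z

theorem le_fiberDepthAlong_iff (F : X.Modules) (Z : Set X) (n : ℕ∞) (x : X) :
    n ≤ CInt.fiberDepthAlong f F Z x ↔ DepthAlongGE f (CInt.fiberDepth f F) Z n x :=
  le_iInf_iff.trans ⟨fun h z h1 h2 h3 => h ⟨z, h1, h2, h3⟩, fun h z => h z.1 z.2.1 z.2.2.1 z.2.2.2⟩

namespace Model

variable {dep : X → ℕ∞} {supp : X → WithBot ℕ∞} {flatAt : X → Prop} (𝔐 : Model f dep supp flatAt)

attribute [local instance] Algebra.TensorProduct.rightAlgebra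

theorem exists_depthAlong (hflat : ∀ x, flatAt x) (Z : Set X) (hZ : IsClosed Z) (n : ℕ) :
    ∃ U : Set (PrimeSpectrum 𝔐.B), IsOpen U ∧ (IsConstructible (𝔐.emb ⁻¹' Z) → IsConstructible U) ∧
      ∀ q, q ∈ U ↔ DepthAlongGE f dep Z n (𝔐.emb q) := by
  obtain ⟨I', hI', hfg'⟩ := exists_ideal_fg_if (hZ.preimage 𝔐.isOpenEmbedding.continuous)
    (fun h : IsConstructible (𝔐.emb ⁻¹' Z) => h)
  let I := I'.comap 𝔐.φ
  have hker : ∀ r : PrimeSpectrum (MvPolynomial (Fin 𝔐.m) 𝔐.A), I ≤ r.asIdeal →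
      ∃ z : PrimeSpectrum 𝔐.B, r = 𝔐.pt z ∧ 𝔐.emb z ∈ Z := by
    intro r hr
    have hk : RingHom.ker 𝔐.φ ≤ r.asIdeal := le_trans (fun x hx => by
      show 𝔐.φ x ∈ I'
      rw [RingHom.mem_ker.1 hx]; exact zero_mem _) hr
    haveI := Ideal.map_isPrime_of_surjective 𝔐.surjective hk
    have hcm : (r.asIdeal.map 𝔐.φ).comap 𝔐.φ = r.asIdeal := by
      rw [Ideal.comap_map_of_surjective _ 𝔐.surjective, ← RingHom.ker_eq_comap_bot, sup_eq_left.2 hk]
    refine ⟨⟨r.asIdeal.map 𝔐.φ, inferInstance⟩, PrimeSpectrum.ext hcm.symm, ?_⟩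
    show (⟨r.asIdeal.map 𝔐.φ, inferInstance⟩ : PrimeSpectrum 𝔐.B) ∈ 𝔐.emb ⁻¹' Z
    rw [← hI']
    show I' ≤ r.asIdeal.map 𝔐.φ
    rw [← Ideal.map_comap_of_surjective _ 𝔐.surjective I']
    exact Ideal.map_mono hr
  obtain ⟨W, hW, hWc, h⟩ := exists_open_depthAlong (A := 𝔐.A) (m := 𝔐.m) 𝔐.M I (fun r hr => by
    obtain ⟨z, rfl, -⟩ := hker r hr
    exact 𝔐.flat z (hflat _)) n
  refine ⟨PrimeSpectrum.comap 𝔐.φ ⁻¹' W, hW.preimage (PrimeSpectrum.continuous_comap _), fun hc => ?_, fun q => ?_⟩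
  · refine CMFlatLib.isConstructible_comap 𝔐.φ (hWc ?_)
    refine Ideal.fg_of_fg_map_of_fg_inf_ker_of_surjective (f := 𝔐.φ) ?_ ?_ 𝔐.surjective
    · rw [Ideal.map_comap_of_surjective _ 𝔐.surjective]; exact hfg' hc
    · rw [show I ⊓ RingHom.ker 𝔐.φ = RingHom.ker 𝔐.φ from inf_eq_right.2 fun x (hx : x ∈ RingHom.ker 𝔐.φ) =>
        show 𝔐.φ x ∈ I' from (RingHom.mem_ker.1 hx).symm ▸ zero_mem _]
      exact 𝔐.ker_fg
  rw [Set.mem_preimage, h]
  constructor
  · intro H z hzZ hzx hb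
    obtain ⟨z', rfl⟩ := hzx.mem_open 𝔐.isOpenEmbedding.isOpen_range ⟨q, rfl⟩
    have hle : z' ≤ q := (PrimeSpectrum.le_iff_specializes z' q).2
      (𝔐.isOpenEmbedding.toIsEmbedding.isInducing.specializes_iff.1 hzx)
    have hI : I ≤ (𝔐.pt z').asIdeal := by
      refine Ideal.comap_mono ?_
      have : z' ∈ PrimeSpectrum.zeroLocus (I' : Set 𝔐.B) := by rw [hI']; exact hzZ
      exact this
    rw [𝔐.depth_eq z']
    exact H (𝔐.pt z') ⟨Ideal.comap_mono hle, (𝔐.fibre_eq z' q).1 hb⟩ hI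
  · intro H r hr hI
    obtain ⟨z, rfl, hzZ⟩ := hker r hI
    rw [← 𝔐.depth_eq z]
    refine H _ hzZ ?_ ((𝔐.fibre_eq z q).2 hr.2)
    refine ((PrimeSpectrum.le_iff_specializes z q).1 ?_).map 𝔐.isOpenEmbedding.continuous
    intro x hx
    obtain ⟨y, rfl⟩ := 𝔐.surjective x
    exact hr.1 (show y ∈ (𝔐.pt z).asIdeal from hx)

theorem dep_eq_top (q : PrimeSpectrum 𝔐.B) (h : ((𝔐.m + 1 : ℕ) : ℕ∞) ≤ dep (𝔐.emb q)) :
    dep (𝔐.emb q) = ⊤ := by
  obtain ⟨t, ht, -⟩ := 𝔐.dim_eq q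
  refine ENat.eq_top_iff_forall_ge.2 fun l => ?_
  have h1 := (𝔐.depth_add_dim_iff q (𝔐.m + 1)).1 (by
    rw [ht]
    calc ((𝔐.m + 1 : ℕ) : WithBot ℕ∞) = (((𝔐.m + 1 : ℕ) : ℕ∞) : WithBot ℕ∞) := rfl
      _ ≤ ((dep (𝔐.emb q) + t : ℕ∞) : WithBot ℕ∞) := WithBot.coe_le_coe.2 (h.trans le_self_add))
  rcases h1 with ⟨h1, -⟩ | h1
  · omega
  have h2 := (𝔐.depth_add_dim_iff q (l + t)).2 (Or.inr h1)
  rw [ht] at h2
  have h3 : ((l + t : ℕ) : ℕ∞) ≤ dep (𝔐.emb q) + t := WithBot.coe_le_coe.1 h2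
  rw [Nat.cast_add] at h3
  exact (ENat.add_le_add_iff_right (ENat.natCast_ne_top t)).1 h3

theorem depthAlongGE_top (Z : Set X) (q : PrimeSpectrum 𝔐.B)
    (h : DepthAlongGE f dep Z ((𝔐.m + 1 : ℕ) : ℕ∞) (𝔐.emb q)) : DepthAlongGE f dep Z ⊤ (𝔐.emb q) := by
  intro z h1 h2 h3
  obtain ⟨z', rfl⟩ := h2.mem_open 𝔐.isOpenEmbedding.isOpen_range ⟨q, rfl⟩
  exact (𝔐.dep_eq_top z' (h _ h1 h2 h3)).ge

end Model

end Groth.Agent.FibreDepth
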