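import Groth.Agent.FibreDepth.EquidimSk
import Groth.Agent.FibreDepth.DepthAlong

/-!
Associated points of the fibres of a flat module over affine space: openness criteria, and openness of the
image of the support of a flat finitely presented module.
-/

set_option autoImplicit false
set_option linter.style.haveILetI false

universe u

open CategoryTheory IsLocalRing TensorProduct Topology

namespace Groth.Agent.FibreDepth

section Abstract

variable {P R : Type u} [CommRing P] [CommRing R] [IsRegularLocalRing R] [Algebra P R]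
  (M : Type u) [AddCommGroup M] [Module P M] [Module.Finite P M]

theorem tensDepth_eq_zero_iff (d : ℕ) (hd : ringKrullDim R = d) :
    tensDepth P R M = 0 ↔ ¬ tensSupp P R M = ⊥ ∧ ∀ e', e' < d → ¬ PdLE P R M e' := by
  rcases subsingleton_or_nontrivial (R ⊗[P] M) with h | h
  · refine iff_of_false ?_ (fun hn => hn.1 (Module.supportDim_eq_bot_of_subsingleton R _))
    rw [tensDepth, CAlgBasics.depth_eq_top]
    exact ENat.top_ne_zero
  obtain ⟨s, D, hs, hD, -, hDd, -⟩ := exists_invariants (P := P) R M d hd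
  have hpd : ∀ e', PdLE P R M e' ↔ d - e' ≤ D := fun e' => by
    show HasProjectiveDimensionLT _ (e' + 1) ↔ _
    rw [projDimLT_iff_le_depth d hd e', hD, Nat.cast_le]
  simp only [tensDepth, hD, hpd, Nat.cast_eq_zero]
  constructor
  · intro hD0
    exact ⟨Module.supportDim_ne_bot_of_nontrivial R _, fun e' he' h' => by omega⟩
  · rintro ⟨-, h'⟩
    by_contra hne
    exact h' (d - 1) (by omega) (by omega)

theorem le_dim_of_not_pdLE (d : ℕ) (hd : ringKrullDim R = d) (e : ℕ) (h : ¬ tensSupp P R M = ⊥)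
    (hpd : ∀ e', e' < e → ¬ PdLE P R M e') : e ≤ d := by
  haveI : Nontrivial (R ⊗[P] M) := (Module.supportDim_ne_bot_iff_nontrivial R (R ⊗[P] M)).1 h
  obtain ⟨s, D, hs, hD, -, hDd, -⟩ := exists_invariants (P := P) R M d hd
  by_contra hlt
  refine hpd d (by omega) ?_
  show HasProjectiveDimensionLT _ (d + 1)
  rw [projDimLT_iff_le_depth d hd, Nat.sub_self]
  exact bot_le

variable (Rr : PrimeSpectrum P → Type u) [∀ r, CommRing (Rr r)] [∀ r, Algebra P (Rr r)]
  [∀ r, IsRegularLocalRing (Rr r)] (Q : PrimeSpectrum P → Prop)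
  (hloc : ∀ (𝔯 : Ideal R) [𝔯.IsPrime], ∃ r : PrimeSpectrum P, r.asIdeal = 𝔯.comap (algebraMap P R) ∧ Q r ∧
    Nonempty (Localization.AtPrime 𝔯 ≃ₐ[P] Rr r))

include hloc in
theorem ass_iff_codimAt (hex : ∀ r, Q r → ∃ 𝔯 : PrimeSpectrum R, r.asIdeal = 𝔯.asIdeal.comap (algebraMap P R))
    (m : ℕ) (hm : ringKrullDim R ≤ (m : WithBot ℕ∞)) (G : ℕ → Set (PrimeSpectrum P)) (J : ℕ → Ideal P)
    (hJ : ∀ (e : ℕ) (r : PrimeSpectrum P), Q r → (J e ≤ r.asIdeal ↔
      (¬ tensSupp P (Rr r) M = ⊥ ∧ ∀ e', e' < e → ¬ PdLE P (Rr r) M e') ∧ r ∉ G e)) :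
    (∀ r, Q r → ∀ d : ℕ, ringKrullDim (Rr r) = d → tensDepth P (Rr r) M = 0 → r ∈ G d) ↔
      ∀ e ≤ m, CodimAt R (J e) (e + 1) := by
  simp only [codimAt_iff_forall_height]
  obtain ⟨d₀, hd₀⟩ := RegLocal.exists_nat_ringKrullDim R
  have hd₀m : d₀ ≤ m := by rw [hd₀] at hm; exact_mod_cast hm
  have key : ∀ (𝔯 : Ideal R) [𝔯.IsPrime] (r : PrimeSpectrum P), Nonempty (Localization.AtPrime 𝔯 ≃ₐ[P] Rr r) →
      ∃ d : ℕ, d ≤ m ∧ 𝔯.height = d ∧ ringKrullDim (Rr r) = (d : WithBot ℕ∞) := by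
    rintro 𝔯 _ r ⟨E⟩
    obtain ⟨a, ha⟩ := ENat.ne_top_iff_exists.1 (Ideal.height_ne_top (I := 𝔯) Ideal.IsPrime.ne_top')
    have h := Ideal.height_le_ringKrullDim_of_ne_top (I := 𝔯) Ideal.IsPrime.ne_top'
    rw [← ha, hd₀] at h
    have h' : a ≤ d₀ := by exact_mod_cast h
    refine ⟨a, h'.trans hd₀m, ha.symm, ?_⟩
    rw [← ringKrullDim_eq_of_ringEquiv E.toRingEquiv, IsLocalization.AtPrime.ringKrullDim_eq_height 𝔯, ← ha]
    rfl
  constructor
  · intro H e _ 𝔯 _ hle
    obtain ⟨r, hr, hQ, hE⟩ := hloc 𝔯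
    obtain ⟨d, -, hh, hd⟩ := key 𝔯 r hE
    rw [← hr] at hle
    obtain ⟨⟨hne, hpd⟩, hG⟩ := (hJ e r hQ).1 hle
    have hed := le_dim_of_not_pdLE M d hd e hne hpd
    rw [hh]
    by_contra hlt
    obtain rfl : d = e := by
      have : ¬ e + 1 ≤ d := fun h => hlt (by exact_mod_cast h)
      omega
    exact hG (H r hQ d hd ((tensDepth_eq_zero_iff M d hd).2 ⟨hne, hpd⟩))
  · intro H r hQ d hd h0
    by_contra hG
    have hle : J d ≤ r.asIdeal := (hJ d r hQ).2 ⟨(tensDepth_eq_zero_iff M d hd).1 h0, hG⟩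
    obtain ⟨𝔯, h𝔯⟩ := hex r hQ
    obtain ⟨r', hr', -, hE⟩ := hloc 𝔯.asIdeal
    obtain rfl : r' = r := PrimeSpectrum.ext (hr'.trans h𝔯.symm)
    obtain ⟨d', hd'm, hh, hd'⟩ := key 𝔯.asIdeal r' hE
    obtain rfl : d' = d := by
      have h := hd'.symm.trans hd
      exact_mod_cast h
    have h := H d' hd'm 𝔯.asIdeal (h𝔯 ▸ hle)
    rw [hh] at h
    have : d' + 1 ≤ d' := by exact_mod_cast h
    omega

include hloc in
theorem exists_supp_zero (h : ¬ tensSupp P R M = ⊥) : ∃ r, Q r ∧ tensSupp P (Rr r) M = 0 := by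
  haveI : Nontrivial (R ⊗[P] M) := (Module.supportDim_ne_bot_iff_nontrivial R (R ⊗[P] M)).1 h
  obtain ⟨𝔯, h𝔯⟩ := Ideal.nonempty_minimalPrimes (I := Module.annihilator R (R ⊗[P] M))
    (fun h' => not_subsingleton (R ⊗[P] M) (Module.annihilator_eq_top_iff.1 h'))
  haveI := h𝔯.1.1
  obtain ⟨r, -, hQ, ⟨E⟩⟩ := hloc 𝔯
  refine ⟨r, hQ, (tens_congr M E).2.symm.trans ?_⟩
  show tensSupp P (Localization.AtPrime 𝔯) M = 0
  rw [tensSupp, ← (fibIso_localized M 𝔯).supportDim_eq]
  exact (minimal_iff_supportDim_zero 𝔯).1 h𝔯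

theorem eq_maximal_of_supp_zero {R' P' : Type u} [CommRing P'] [CommRing R'] [IsLocalRing R'] [IsNoetherianRing R']
    [Algebra P' R'] (M' : Type u) [AddCommGroup M'] [Module P' M'] [Module.Finite P' M']
    (h : tensSupp P' R' M' = 0) (𝔯 : Ideal R') [𝔯.IsPrime] (hne : Module.annihilator R' (R' ⊗[P'] M') ≤ 𝔯) :
    𝔯 = maximalIdeal R' := by
  haveI : Nontrivial (R' ⊗[P'] M') :=
    (Module.supportDim_ne_bot_iff_nontrivial R' (R' ⊗[P'] M')).1 (h.trans_ne WithBot.zero_ne_bot)
  have h' : Order.krullDim ↥(Module.support R' (R' ⊗[P'] M')) ≤ 0 := h.le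
  have hm := Order.krullDim_nonpos_iff_forall_isMax.1 h' ⟨⟨𝔯, inferInstance⟩, Module.mem_support_iff_of_finite.2 hne⟩
  refine le_antisymm (le_maximalIdeal Ideal.IsPrime.ne_top') ?_
  exact @hm ⟨closedPoint R', closedPoint_mem_support R' _⟩ (le_maximalIdeal Ideal.IsPrime.ne_top')

theorem eq_maximal_of_algEquiv {R₀ P' S' : Type u} [CommRing P'] [CommRing R₀] [IsRegularLocalRing R₀] [Algebra P' R₀]
    [CommRing S'] [Algebra P' S'] [IsRegularLocalRing S'] (M' : Type u) [AddCommGroup M'] [Module P' M'] [Module.Finite P' M']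
    (h : tensSupp P' R₀ M' = 0) (𝔯 : Ideal R₀) [𝔯.IsPrime] (E : Localization.AtPrime 𝔯 ≃ₐ[P'] S')
    (hne : ¬ tensSupp P' S' M' = ⊥) : 𝔯 = maximalIdeal R₀ := by
  refine eq_maximal_of_supp_zero M' h 𝔯 ?_
  refine (Module.mem_support_iff_of_finite (R := R₀) (M := R₀ ⊗[P'] M') (p := (⟨𝔯, inferInstance⟩ : PrimeSpectrum R₀))).1 (Module.mem_support_iff.2 ?_)
  rw [← Module.supportDim_ne_bot_iff_nontrivial (Localization.AtPrime 𝔯), (fibIso_localized M' 𝔯).supportDim_eq]
  exact fun h0 => hne ((tens_congr M' E).2.symm.trans h0)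

theorem tensSupp_ne_bot_iff {R₀ P' : Type u} [CommRing P'] [CommRing R₀] [IsLocalRing R₀] [Algebra P' R₀]
    (M' : Type u) [AddCommGroup M'] [Module P' M'] [Module.Finite P' M'] :
    ¬ tensSupp P' R₀ M' = ⊥ ↔ Module.annihilator P' M' ≤ (maximalIdeal R₀).comap (algebraMap P' R₀) := by
  rw [tensSupp, Module.supportDim_eq_bot_iff_subsingleton, ← Module.support_eq_empty_iff (R := R₀),
    support_baseChange, ← ne_eq, ← Set.nonempty_iff_ne_empty]
  constructor
  · rintro ⟨c, hc⟩
    exact (Ideal.map_le_iff_le_comap.1 hc).trans (Ideal.comap_mono (le_maximalIdeal Ideal.IsPrime.ne_top'))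
  · intro h
    exact ⟨closedPoint _, Ideal.map_le_iff_le_comap.2 h⟩

end Abstract

section Affine

attribute [local instance] Algebra.TensorProduct.rightAlgebra

theorem comap_maximal_fibRing {A P : Type u} [CommRing A] [CommRing P] [Algebra A P] (q : PrimeSpectrum P) :
    (maximalIdeal (FibRing A q)).comap (algebraMap P (FibRing A q)) = q.asIdeal := by
  ext x
  rw [Ideal.mem_comap, IsScalarTower.algebraMap_apply P ((basePrime A q).Fiber P) (FibRing A q),
    IsLocalization.AtPrime.to_map_mem_maximal_iff (FibRing A q) (point A q).asIdeal]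
  exact SetLike.ext_iff.1 (comap_point (A := A) q) x

variable {A : Type u} [CommRing A] {m : ℕ} (M : Type u) [AddCommGroup M] [Module (MvPolynomial (Fin m) A) M]
  [Module.Finite (MvPolynomial (Fin m) A) M]

theorem exists_supp_zero_fib (q : PrimeSpectrum (MvPolynomial (Fin m) A))
    (h : ¬ tensSupp (MvPolynomial (Fin m) A) (FibRing A q) M = ⊥) :
    ∃ r : PrimeSpectrum (MvPolynomial (Fin m) A), (r.asIdeal ≤ q.asIdeal ∧ basePrime A r = basePrime A q) ∧
      tensSupp (MvPolynomial (Fin m) A) (FibRing A r) M = 0 := by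
  haveI := isRegularLocalRing_fibRing q
  haveI : ∀ r : PrimeSpectrum (MvPolynomial (Fin m) A), IsRegularLocalRing (FibRing A r) := isRegularLocalRing_fibRing
  refine exists_supp_zero (P := MvPolynomial (Fin m) A) (R := FibRing A q) M (fun r => FibRing A r) _ (fun 𝔯 _ => ?_) h
  obtain ⟨r, hr, hrq, hE⟩ := exists_algEquiv_fibRing q 𝔯
  exact ⟨r, hr, ⟨hrq, basePrime_eq_of_prime q 𝔯 r hr hrq⟩, hE⟩

theorem eq_of_supp_zero_fib (q r : PrimeSpectrum (MvPolynomial (Fin m) A))
    (h : tensSupp (MvPolynomial (Fin m) A) (FibRing A q) M = 0) (hle : r.asIdeal ≤ q.asIdeal)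
    (hb : basePrime A r = basePrime A q) (hne : ¬ tensSupp (MvPolynomial (Fin m) A) (FibRing A r) M = ⊥) : r = q := by
  obtain ⟨𝔯, h𝔯⟩ := exists_prime_of_le q r hle hb
  obtain ⟨r', hr', -, ⟨E⟩⟩ := exists_algEquiv_fibRing q 𝔯.asIdeal
  obtain rfl : r' = r := PrimeSpectrum.ext (hr'.trans h𝔯.symm)
  haveI := isRegularLocalRing_fibRing q
  haveI := isRegularLocalRing_fibRing r'
  have h1 := eq_maximal_of_algEquiv M h 𝔯.asIdeal E hne
  refine PrimeSpectrum.ext ?_
  rw [h𝔯, h1, comap_maximal_fibRing]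

theorem mem_support_iff_fib (q : PrimeSpectrum (MvPolynomial (Fin m) A)) :
    q ∈ Module.support (MvPolynomial (Fin m) A) M ↔ ¬ tensSupp (MvPolynomial (Fin m) A) (FibRing A q) M = ⊥ := by
  rw [tensSupp_ne_bot_iff, comap_maximal_fibRing, Module.mem_support_iff_of_finite]

variable [Module A M] [IsScalarTower A (MvPolynomial (Fin m) A) M]
  [Module.FinitePresentation (MvPolynomial (Fin m) A) M]

/-- The openness criterion for conditions on the associated points of the fibres on the flat locus. -/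
theorem exists_open_assGood (G : ℕ → Set (PrimeSpectrum (MvPolynomial (Fin m) A))) (hG : ∀ e, IsOpen (G e)) :
    ∃ W : Set (PrimeSpectrum (MvPolynomial (Fin m) A)), IsOpen W ∧ ∀ q : PrimeSpectrum (MvPolynomial (Fin m) A),
      Module.Flat A (LocalizedModule q.asIdeal.primeCompl M) →
        (q ∈ W ↔ ∀ r : PrimeSpectrum (MvPolynomial (Fin m) A), r.asIdeal ≤ q.asIdeal ∧ basePrime A r = basePrime A q →
          ∀ d : ℕ, ringKrullDim (FibRing A r) = d →
            tensDepth (MvPolynomial (Fin m) A) (FibRing A r) M = 0 → r ∈ G d) := by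
  let P := MvPolynomial (Fin m) A
  let U : ℕ → Set (PrimeSpectrum P) := fun e =>
    ({r | CodimGE A (Module.annihilator P M) r (m + 1)} ∪ ⋃ e' ∈ {e' | e' < e}, PdSet A P M e') ∪ G e
  have hU : ∀ e, IsOpen (U e) := fun e => ((isOpen_codimGE _ _).union
    (isOpen_biUnion fun e' _ => isOpen_pdSet_mvPolynomial M e')).union (hG e)
  choose J hJ using fun e => (PrimeSpectrum.isClosed_iff_zeroLocus_ideal (U e)ᶜ).1 (hU e).isClosed_compl
  refine ⟨⋂ e ∈ {e | e ≤ m}, {q | CodimGE A (J e) q (e + 1)},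
    (Set.finite_le_nat m).isOpen_biInter fun e _ => isOpen_codimGE (J e) (e + 1), fun q hq => ?_⟩
  obtain ⟨d, t, hd, -, hdm⟩ := fibRing_dim q
  haveI := isRegularLocalRing_fibRing q
  haveI : ∀ r : PrimeSpectrum P, IsRegularLocalRing (FibRing A r) := isRegularLocalRing_fibRing
  rw [ass_iff_codimAt (P := P) (R := FibRing A q) M (fun r => FibRing A r)
    (fun r => r.asIdeal ≤ q.asIdeal ∧ basePrime A r = basePrime A q) ?_ ?_ m ?_ G J ?_, Set.mem_iInter₂]
  · rfl
  · intro 𝔯 _
    obtain ⟨r, hr, hrq, hE⟩ := exists_algEquiv_fibRing q 𝔯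
    exact ⟨r, hr, ⟨hrq, basePrime_eq_of_prime q 𝔯 r hr hrq⟩, hE⟩
  · exact fun r hr => exists_prime_of_le q r hr.1 hr.2
  · rw [hd]
    exact_mod_cast (by omega : d ≤ m)
  intro e r hr
  have hflat : Module.Flat A (LocalizedModule r.asIdeal.primeCompl M) :=
    (isOpen_flat_localized M).stableUnderGeneralization ((PrimeSpectrum.le_iff_specializes r q).1 hr.1) hq
  obtain ⟨dr, tr, hdr, -, hdrm⟩ := fibRing_dim r
  rw [show J e ≤ r.asIdeal ↔ r ∈ PrimeSpectrum.zeroLocus (J e : Set P) from Iff.rfl, ← hJ e,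
    tensSupp_bot_iff (P := P) (R := FibRing A r) M dr m hdr (by omega)]
  simp only [U, Set.mem_compl_iff, Set.mem_union, Set.mem_iUnion₂, Set.mem_ofPred_eq, exists_prop, not_or, not_exists,
    not_and]
  exact and_congr_left fun _ => and_congr_right fun _ =>
    ⟨fun h e' he' hp => h e' he' ⟨hflat, hp⟩, fun h e' he' hp => h e' he' hp.2⟩

theorem isConstructible_support : IsConstructible (Module.support (MvPolynomial (Fin m) A) M) := by
  rw [← isConstructible_compl]
  convert isConstructible_codimSupp (A := A) (m := m) M (m + 1) using 1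
  ext q
  obtain ⟨d, t, hd, -, hdm⟩ := fibRing_dim q
  haveI := isRegularLocalRing_fibRing q
  rw [Set.mem_compl_iff, mem_support_iff_fib, not_not,
    tensSupp_bot_iff (P := MvPolynomial (Fin m) A) (R := FibRing A q) M d m hd (by omega)]
  exact codimAt_annihilator_iff (P := MvPolynomial (Fin m) A) (FibRing A q) M (m + 1)

end Affine

theorem exists_pow_mul_mem_of_minimal {P : Type u} [CommRing P] {K Q : Ideal P} (hQ : Q ∈ K.minimalPrimes)
    {x : P} (hx : x ∈ Q) : ∃ (n : ℕ) (s : P), s ∉ Q ∧ x ^ n * s ∈ K := by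
  haveI := hQ.1.1
  let S := Localization.AtPrime Q
  have h : algebraMap P S x ∈ (K.map (algebraMap P S)).radical := by
    rw [Ideal.radical_eq_sInf, Submodule.mem_sInf]
    rintro J ⟨hJ', hJ⟩
    obtain ⟨h₁, h₂⟩ := ((IsLocalization.AtPrime.orderIsoOfPrime _ Q) ⟨J, hJ⟩).2
    rw [Ideal.map_le_iff_le_comap] at hJ'
    exact hQ.2 ⟨h₁, hJ'⟩ h₂ hx
  obtain ⟨n, hn⟩ := h
  rw [← map_pow, IsLocalization.algebraMap_mem_map_algebraMap_iff Q.primeCompl] at hn
  obtain ⟨s, hs, hsn⟩ := hn
  exact ⟨n, s, hs, by rwa [mul_comm]⟩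

/-- Generizations of the base lift to the support of a flat finite module. -/
theorem exists_le_mem_support {A P : Type u} [CommRing A] [CommRing P] [Algebra A P] (M : Type u) [AddCommGroup M]
    [Module P M] [Module A M] [IsScalarTower A P M] [Module.Finite P M] (r : PrimeSpectrum P)
    [Module.Flat A (LocalizedModule r.asIdeal.primeCompl M)] (hr : r ∈ Module.support P M)
    (p' : Ideal A) [p'.IsPrime] (hle : p' ≤ r.asIdeal.under A) :
    ∃ r' : PrimeSpectrum P, r'.asIdeal ≤ r.asIdeal ∧ r'.asIdeal.under A = p' ∧ r' ∈ Module.support P M := by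
  let I : Ideal P := p'.map (algebraMap A P)
  let M' := M ⧸ (I • ⊤ : Submodule P M)
  let N := LocalizedModule r.asIdeal.primeCompl M
  have hI : I ≤ r.asIdeal := Ideal.map_le_iff_le_comap.2 hle
  have hrM' : r ∈ Module.support P M' := by
    rw [Module.support_quotient]
    exact ⟨hr, hI⟩
  obtain ⟨Q, hQ, hQr⟩ := Ideal.exists_minimalPrimes_le (Module.mem_support_iff_of_finite.1 hrM')
  haveI := hQ.1.1
  have hQM' : (⟨Q, inferInstance⟩ : PrimeSpectrum P) ∈ Module.support P M' :=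
    Module.mem_support_iff_of_finite.2 hQ.1.2
  rw [Module.support_quotient] at hQM'
  obtain ⟨hQM, hQI⟩ := hQM'
  refine ⟨⟨Q, inferInstance⟩, hQr, le_antisymm (fun a ha => ?_) (fun a ha => hQI (Ideal.mem_map_of_mem _ ha)), hQM⟩
  by_contra hap
  -- `a` is nilpotent on `M'` near `Q`
  obtain ⟨n, s, hs, hns⟩ : ∃ (n : ℕ) (s : P), s ∉ Q ∧ (algebraMap A P a) ^ n * s ∈ Module.annihilator P M' := by
    exact exists_pow_mul_mem_of_minimal hQ (show algebraMap A P a ∈ Q from ha)
  -- `a ^ n` is injective on `N / p' N`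
  have hinj : ∀ z : N, a ^ n • z ∈ (p' • ⊤ : Submodule A N) → z ∈ (p' • ⊤ : Submodule A N) := by
    intro z hz
    let μ : A ⧸ p' →ₗ[A] A ⧸ p' := DistribMulAction.toLinearMap A (A ⧸ p') (a ^ n)
    have hμ : Function.Injective μ := by
      intro x y hxy
      obtain ⟨x, rfl⟩ := Ideal.Quotient.mk_surjective x
      obtain ⟨y, rfl⟩ := Ideal.Quotient.mk_surjective y
      have : Ideal.Quotient.mk p' (a ^ n * (x - y)) = 0 := by
        rw [mul_sub, map_sub, sub_eq_zero]
        exact hxy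
      rw [Ideal.Quotient.eq_zero_iff_mem] at this
      rw [← sub_eq_zero, ← map_sub, Ideal.Quotient.eq_zero_iff_mem]
      exact (Ideal.IsPrime.mem_or_mem inferInstance this).resolve_left fun h => hap (Ideal.IsPrime.mem_of_pow_mem inferInstance n h)
    have h1 : Function.Injective (μ.rTensor N) := Module.Flat.rTensor_preserves_injective_linearMap μ hμ
    let e := TensorProduct.quotTensorEquivQuotSMul N p'
    have h2 : ∀ w, e (μ.rTensor N w) = a ^ n • e w := by
      intro w
      rw [← map_smul]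
      congr 1
    rw [← Submodule.Quotient.mk_eq_zero] at hz ⊢
    obtain ⟨w, hw⟩ := e.surjective (Submodule.Quotient.mk z)
    rw [← hw]
    rw [Submodule.Quotient.mk_smul, ← hw, ← h2, EmbeddingLike.map_eq_zero_iff, ← map_zero (μ.rTensor N)] at hz
    rw [h1 hz, map_zero]
  -- hence `s` kills `M'` near `r`
  let g := LocalizedModule.mkLinearMap r.asIdeal.primeCompl M
  let π := (LocalizedModule.map r.asIdeal.primeCompl (I • ⊤ : Submodule P M).mkQ).restrictScalars A
  have hπ : (p' • ⊤ : Submodule A N) ≤ LinearMap.ker π := by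
    refine Submodule.smul_le.2 fun b hb z _ => ?_
    rw [LinearMap.mem_ker, map_smul]
    induction π z using LocalizedModule.induction_on with
    | h v t =>
      obtain ⟨v, rfl⟩ := Submodule.Quotient.mk_surjective _ v
      rw [← algebraMap_smul P b, LocalizedModule.smul'_mk, ← Submodule.Quotient.mk_smul,
        (Submodule.Quotient.mk_eq_zero _).2 (Submodule.smul_mem_smul (Ideal.mem_map_of_mem _ hb) Submodule.mem_top),
        LocalizedModule.zero_mk]
  refine hQ.1.1.ne_top (absurd hQM ?_)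
  intro hQM
  have hQM' : (⟨Q, inferInstance⟩ : PrimeSpectrum P) ∈ Module.support P M' := by
    rw [Module.support_quotient]
    exact ⟨hQM, hQI⟩
  obtain ⟨x, hx⟩ := Module.mem_support_iff'.1 hQM'
  obtain ⟨x, rfl⟩ := Submodule.Quotient.mk_surjective _ x
  have h1 : a ^ n • g (s • x) ∈ (I • ⊤ : Submodule P M).map g := by
    refine ⟨(algebraMap A P a) ^ n • (s • x), ?_, ?_⟩
    · rw [SetLike.mem_coe, smul_smul, ← Submodule.Quotient.mk_eq_zero, Submodule.Quotient.mk_smul]
      exact Module.mem_annihilator.1 hns _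
    · rw [map_smul, ← map_pow, algebraMap_smul]
  have h2 : a ^ n • g (s • x) ∈ (p' • ⊤ : Submodule A N) := by
    obtain ⟨w, hw, hw'⟩ := h1
    rw [← hw']
    clear hw'
    refine Submodule.smul_induction_on hw (fun c hc v _ => ?_) fun v w hv hw => ?_
    · rw [map_smul]
      refine Submodule.span_induction (p := fun c _ => c • g v ∈ (p' • ⊤ : Submodule A N)) ?_ ?_ ?_ ?_ hc
      · rintro _ ⟨b, hb, rfl⟩
        rw [algebraMap_smul]
        exact Submodule.smul_mem_smul hb trivial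
      · rw [zero_smul]; exact zero_mem _
      · intro c d _ _ hc hd
        rw [add_smul]
        exact add_mem hc hd
      · intro c d _ hd
        rw [smul_eq_mul, mul_smul]
        exact smul_mem_smul_top c hd
    · rw [map_add]
      exact add_mem hv hw
  have h3 : π (g (s • x)) = 0 := hπ (hinj _ h2)
  have h4 : LocalizedModule.mkLinearMap r.asIdeal.primeCompl M' (Submodule.Quotient.mk (s • x)) = 0 := by
    rw [← h3]
    show _ = LocalizedModule.map r.asIdeal.primeCompl (I • ⊤ : Submodule P M).mkQ (LocalizedModule.mk (s • x) 1)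
    rw [LocalizedModule.map_mk]
    rfl
  obtain ⟨⟨u, hu⟩, hu'⟩ := (IsLocalizedModule.eq_zero_iff r.asIdeal.primeCompl _).1 h4
  refine hx (u * s) (fun h => ?_) ?_
  · exact (Ideal.IsPrime.mem_or_mem inferInstance h).elim (fun h' => hu (hQr h')) hs
  · rw [mul_smul, ← Submodule.Quotient.mk_smul (p := (I • ⊤ : Submodule P M)) s x]
    exact hu'
where
  smul_mem_smul_top {A P N : Type u} [CommRing A] [CommRing P] [Algebra A P] [AddCommGroup N] [Module P N]
      [Module A N] [IsScalarTower A P N] {p : Ideal A} (c : P) {z : N} (hz : z ∈ (p • ⊤ : Submodule A N)) :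
      c • z ∈ (p • ⊤ : Submodule A N) := by
    refine Submodule.smul_induction_on hz (fun b hb v _ => ?_) fun v w hv hw => ?_
    · rw [smul_comm]
      exact Submodule.smul_mem_smul hb trivial
    · rw [smul_add]
      exact add_mem hv hw

attribute [local instance] Algebra.TensorProduct.rightAlgebra in
/-- The image of the support of a module in an open set on which it is flat is open. -/
theorem isOpen_image_support {A : Type u} [CommRing A] {m : ℕ} (M : Type u) [AddCommGroup M]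
    [Module (MvPolynomial (Fin m) A) M] [Module A M] [IsScalarTower A (MvPolynomial (Fin m) A) M]
    [Module.FinitePresentation (MvPolynomial (Fin m) A) M]
    (U : Set (PrimeSpectrum (MvPolynomial (Fin m) A))) (hU : IsOpen U)
    (hflat : ∀ r ∈ U ∩ Module.support (MvPolynomial (Fin m) A) M,
      Module.Flat A (LocalizedModule r.asIdeal.primeCompl M)) :
    IsOpen (PrimeSpectrum.comap (algebraMap A (MvPolynomial (Fin m) A)) '' (U ∩ Module.support (MvPolynomial (Fin m) A) M)) := by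
  let P := MvPolynomial (Fin m) A
  let c := PrimeSpectrum.comap (algebraMap A P)
  refine isOpen_iff_forall_mem_open.2 ?_
  rintro _ ⟨r, ⟨hrU, hrM⟩, rfl⟩
  obtain ⟨_, ⟨g, rfl⟩, hg, hgU⟩ := PrimeSpectrum.isTopologicalBasis_basic_opens.exists_subset_of_mem_open hrU hU
  refine ⟨c '' (↑(PrimeSpectrum.basicOpen g) ∩ Module.support P M), Set.image_mono (Set.inter_subset_inter_left _ hgU),
    ?_, r, ⟨hg, hrM⟩, rfl⟩
  refine PrimeSpectrum.isOpen_of_stableUnderGeneralization_of_isConstructible ?_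
    (PrimeSpectrum.isConstructible_comap_image (RingHom.finitePresentation_algebraMap.mpr inferInstance)
      (PrimeSpectrum.isConstructible_basicOpen.inter (isConstructible_support M)))
  rintro _ p' hp' ⟨r₁, ⟨hg₁, hM₁⟩, rfl⟩
  haveI := hflat r₁ ⟨hgU hg₁, hM₁⟩
  obtain ⟨r', hle, hu, hM'⟩ := exists_le_mem_support (A := A) M r₁ hM₁ p'.asIdeal
    ((PrimeSpectrum.le_iff_specializes p' _).2 hp')
  exact ⟨r', ⟨(PrimeSpectrum.basicOpen g).2.stableUnderGeneralization ((PrimeSpectrum.le_iff_specializes r' r₁).1 hle) hg₁,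
    hM'⟩, PrimeSpectrum.ext hu⟩

end Groth.Agent.FibreDepth
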