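import Groth.Agent.FibreDepth.Local
import Groth.Agent.DimFormulaLib.Fibre
import Groth.Agent.QFCoverLib.Basic

/-!
The local ring of the fibre at a prime of a finitely generated algebra, and the fibre of a module.
-/

set_option autoImplicit false

universe u

namespace Groth.Agent.FibreDepth

open IsLocalRing TensorProduct

attribute [local instance] Algebra.TensorProduct.rightAlgebra

variable {A P : Type u} [CommRing A] [CommRing P] [Algebra A P]

/-- The prime of the base under `q`. -/
abbrev basePrime (A : Type u) [CommRing A] [Algebra A P] (q : PrimeSpectrum P) : Ideal A := q.asIdeal.under A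

/-- The point of the fibre given by `q`. -/
noncomputable def point (A : Type u) [CommRing A] [Algebra A P] (q : PrimeSpectrum P) :
    PrimeSpectrum ((basePrime A q).Fiber P) :=
  PrimeSpectrum.preimageEquivFiber A P ⟨basePrime A q, inferInstance⟩ ⟨q, rfl⟩

theorem comap_point (q : PrimeSpectrum P) :
    (point A q).asIdeal.comap (Algebra.TensorProduct.includeRight : P →ₐ[A] (basePrime A q).Fiber P).toRingHom =
      q.asIdeal :=
  congrArg (fun z => z.1.asIdeal)
    ((PrimeSpectrum.preimageEquivFiber A P ⟨basePrime A q, inferInstance⟩).symm_apply_apply ⟨q, rfl⟩)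

theorem point_unique (q : PrimeSpectrum P) (Q : PrimeSpectrum ((basePrime A q).Fiber P))
    (h : Q.asIdeal.comap (Algebra.TensorProduct.includeRight : P →ₐ[A] (basePrime A q).Fiber P).toRingHom =
      q.asIdeal) : Q = point A q := by
  refine (PrimeSpectrum.preimageEquivFiber A P ⟨basePrime A q, inferInstance⟩).symm.injective ?_
  refine Subtype.ext (PrimeSpectrum.ext ?_)
  rw [point, Equiv.symm_apply_apply]
  exact h

instance (q : PrimeSpectrum P) : (point A q).asIdeal.LiesOver q.asIdeal := ⟨(comap_point q).symm⟩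

/-- The local ring of the fibre at `q`. -/
abbrev FibRing (A : Type u) [CommRing A] [Algebra A P] (q : PrimeSpectrum P) : Type u :=
  Localization.AtPrime (point A q).asIdeal

theorem exists_surjective_fibRing (q : PrimeSpectrum P) :
    ∃ φ : Localization.AtPrime q.asIdeal →ₐ[P] FibRing A q, Function.Surjective φ ∧
      RingHom.ker φ.toRingHom = (basePrime A q).map (algebraMap A (Localization.AtPrime q.asIdeal)) := by
  let p := basePrime A q
  let Q := (point A q).asIdeal
  let ι : P →+* p.Fiber P := (Algebra.TensorProduct.includeRight : P →ₐ[A] p.Fiber P).toRingHom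
  let φ := Localization.localRingHom q.asIdeal Q ι (comap_point q).symm
  have hone : ∀ a : A, ι (algebraMap A P a) = algebraMap A (p.Fiber P) a := fun a =>
    (Algebra.TensorProduct.includeRight : P →ₐ[A] p.Fiber P).commutes a
  have hunit : ∀ r ∉ p, IsUnit (algebraMap A (p.Fiber P) r) := fun r hr => by
    rw [IsScalarTower.algebraMap_apply A p.ResidueField (p.Fiber P)]
    exact (Ne.isUnit (fun h => hr (Ideal.algebraMap_residueField_eq_zero.1 h))).map _
  have hnotq : ∀ r ∉ p, algebraMap A P r ∉ q.asIdeal := fun r hr h => hr h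
  have hclear : ∀ z : p.Fiber P, ∃ r ∉ p, ∃ b : P, ι (algebraMap A P r) * z = ι b := fun z => by
    obtain ⟨r, hr, b, e⟩ := Ideal.Fiber.exists_smul_eq_one_tmul p z
    refine ⟨r, hr, b, ?_⟩
    rw [hone, ← Algebra.smul_def, e]
    rfl
  have hmemQ : ∀ b : P, ι b ∈ Q ↔ b ∈ q.asIdeal := fun b => SetLike.ext_iff.1 (comap_point (A := A) q) b
  have hsurj : Function.Surjective φ := fun z => by
    obtain ⟨x, ⟨s, hs⟩, rfl⟩ := IsLocalization.exists_mk'_eq Q.primeCompl z
    obtain ⟨r, hr, b, hb⟩ := hclear x
    obtain ⟨r', hr', b', hb'⟩ := hclear s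
    have hb'q : b' ∉ q.asIdeal := fun h => by
      have h1 : ι (algebraMap A P r') * s ∈ Q := hb' ▸ (hmemQ b').2 h
      rcases Ideal.IsPrime.mem_or_mem inferInstance h1 with h2 | h2
      · exact hnotq r' hr' ((hmemQ _).1 h2)
      · exact hs h2
    refine ⟨IsLocalization.mk' _ (b * algebraMap A P r') (⟨b' * algebraMap A P r, fun h =>
      (q.isPrime.mem_or_mem h).elim hb'q (hnotq r hr)⟩ : q.asIdeal.primeCompl), ?_⟩
    rw [Localization.localRingHom_mk']
    refine IsLocalization.mk'_eq_of_eq ?_
    show ι (b' * algebraMap A P r) * x = s * ι (b * algebraMap A P r')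
    rw [map_mul, map_mul, ← hb, ← hb']
    ring
  refine ⟨{ φ with commutes' := fun b => Localization.localRingHom_to_map _ _ _ _ b }, hsurj, ?_⟩
  show RingHom.ker φ = _
  rw [IsScalarTower.algebraMap_eq A P (Localization.AtPrime q.asIdeal), ← Ideal.map_map]
  refine le_antisymm (fun z hz => ?_) (Ideal.map_le_iff_le_comap.2 (Ideal.map_le_iff_le_comap.2 fun a ha => ?_))
  · obtain ⟨b, ⟨s, hs⟩, rfl⟩ := IsLocalization.exists_mk'_eq q.asIdeal.primeCompl z
    rw [RingHom.mem_ker, Localization.localRingHom_mk', IsLocalization.mk'_eq_zero_iff] at hz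
    obtain ⟨⟨u, hu⟩, hu0⟩ := hz
    obtain ⟨r, hr, b', hb'⟩ := hclear u
    have hb'q : b' ∉ q.asIdeal := fun h => by
      have h1 : ι (algebraMap A P r) * u ∈ Q := hb' ▸ (hmemQ b').2 h
      rcases Ideal.IsPrime.mem_or_mem inferInstance h1 with h2 | h2
      · exact hnotq r hr ((hmemQ _).1 h2)
      · exact hu h2
    have h0 : ι (b' * b) = 0 := by rw [map_mul, ← hb', mul_assoc, hu0, mul_zero]
    obtain ⟨r', hr', hmem⟩ := QFCoverLib.exists_mul_mem_of_tmul_eq_zero p (z := b' * b) h0
    rw [IsLocalization.mk'_mem_map_algebraMap_iff]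
    exact ⟨algebraMap A P r' * b', fun h => (q.isPrime.mem_or_mem h).elim (hnotq r' hr') hb'q,
      by rw [mul_assoc]; exact hmem⟩
  · show φ (algebraMap P (Localization.AtPrime q.asIdeal) (algebraMap A P a)) = 0
    rw [Localization.localRingHom_to_map, hone, IsScalarTower.algebraMap_apply A p.ResidueField (p.Fiber P),
      Ideal.algebraMap_residueField_eq_zero.2 ha, map_zero, map_zero]

theorem isUnit_algebraMap_fibRing (q : PrimeSpectrum P) (s : P) (hs : s ∉ q.asIdeal) :
    IsUnit (algebraMap P (FibRing A q) s) := by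
  obtain ⟨φ, -, -⟩ := exists_surjective_fibRing (A := A) q
  rw [← φ.commutes]
  exact (IsLocalization.map_units (Localization.AtPrime q.asIdeal) (⟨s, hs⟩ : q.asIdeal.primeCompl)).map φ

instance isNoetherianRing_fibRing [Algebra.FiniteType A P] (q : PrimeSpectrum P) : IsNoetherianRing (FibRing A q) :=
  haveI : IsNoetherianRing ((basePrime A q).Fiber P) :=
    Algebra.FiniteType.isNoetherianRing (basePrime A q).ResidueField _
  IsLocalization.isNoetherianRing (point A q).asIdeal.primeCompl _ inferInstance

variable (A) in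
/-- The fibre of a module at `q`. -/
abbrev FibMod (M : Type u) [AddCommGroup M] [Module P M] (q : PrimeSpectrum P) : Type u :=
  FibRing A q ⊗[P] M

end Groth.Agent.FibreDepth
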