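import Groth.Agent.FibreDepth.Sk
import Groth.Agent.FibreDepth.BaseChange

/-!
Depth and dimension of support under flat local homomorphisms of regular local rings.
-/

set_option autoImplicit false

universe u

namespace Groth.Agent.FibreDepth

open IsLocalRing TensorProduct CategoryTheory

/-- The codimension of the support of `R ⊗ M` is at least `j`. -/
def CodimSupp (P : Type u) [CommRing P] (R : Type u) [CommRing R] [Algebra P R] (M : Type u) [AddCommGroup M]
    [Module P M] (j : ℕ) : Prop :=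
  tensSupp P R M + j ≤ ringKrullDim R

theorem exists_dims {R R' : Type u} [CommRing R] [CommRing R'] [IsLocalRing R] [IsLocalRing R'] [IsNoetherianRing R]
    [IsNoetherianRing R'] [Algebra R R'] [IsLocalHom (algebraMap R R')] [Module.Flat R R'] :
    ∃ d d' : ℕ, ringKrullDim R = d ∧ ringKrullDim R' = d' ∧ d ≤ d' := by
  obtain ⟨d, hd⟩ := RegLocal.exists_nat_ringKrullDim R
  obtain ⟨d', hd'⟩ := RegLocal.exists_nat_ringKrullDim R'
  refine ⟨d, d', hd, hd', ?_⟩
  have h := RatliffLib.dim_flat_local (A := R) (A' := R')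
  haveI : Nontrivial (R' ⧸ (maximalIdeal R).map (algebraMap R R')) := Ideal.Quotient.nontrivial_iff.2
    fun h => (maximalIdeal.isMaximal R').ne_top
      (top_le_iff.1 (h ▸ RatliffLib.map_le_maximal _ (maximalIdeal.isMaximal R).ne_top))
  have h0 : (0 : WithBot ℕ∞) ≤ ringKrullDim (R' ⧸ (maximalIdeal R).map (algebraMap R R')) :=
    ringKrullDim_nonneg_of_nontrivial
  rw [hd, hd'] at h
  have h' := le_add_of_nonneg_right (a := (d : WithBot ℕ∞)) h0
  rw [← h] at h'
  exact_mod_cast h'

section Local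

variable {P P' R R' : Type u} [CommRing P] [CommRing P'] [CommRing R] [CommRing R'] [IsRegularLocalRing R]
  [IsRegularLocalRing R'] [Algebra P P'] [Algebra P R] [Algebra P' R']
  [Algebra P R'] [IsScalarTower P P' R'] [Algebra R R'] [IsScalarTower P R R'] [IsLocalHom (algebraMap R R')]
  [Module.Flat R R'] (M : Type u) [AddCommGroup M] [Module P M] [Module.Finite P M]

omit [IsRegularLocalRing R] [IsRegularLocalRing R'] [IsLocalHom (algebraMap R R')] [Module.Flat R R'] in
theorem tensSupp_shift [IsLocalRing R] [IsLocalRing R'] [IsNoetherianRing R] [IsNoetherianRing R']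
    [IsLocalHom (algebraMap R R')] [Module.Flat R R'] :
    tensSupp P' R' (P' ⊗[P] M) + ringKrullDim R = tensSupp P R M + ringKrullDim R' :=
  (transfer_aux (P := P) (P' := P') (R := R) (R' := R') M 0).2

/-- The numerical data on both sides. -/
theorem exists_shift :
    (tensSupp P R M = ⊥ ∧ tensSupp P' R' (P' ⊗[P] M) = ⊥) ∨
      ∃ s s' D D' d d' : ℕ, tensSupp P R M = s ∧ tensSupp P' R' (P' ⊗[P] M) = s' ∧
        tensDepth P R M = D ∧ tensDepth P' R' (P' ⊗[P] M) = D' ∧ ringKrullDim R = d ∧ ringKrullDim R' = d' ∧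
        d ≤ d' ∧ s' + d = s + d' ∧ D' + d = D + d' := by
  have h := tensSupp_shift (P := P) (P' := P') (R := R) (R' := R') M
  obtain ⟨d, d', hd, hd', hle⟩ := exists_dims (R := R) (R' := R')
  rcases subsingleton_or_nontrivial (R ⊗[P] M) with hM | hM
  · have h1 : tensSupp P R M = ⊥ := Module.supportDim_eq_bot_of_subsingleton R _
    rw [h1, WithBot.bot_add, WithBot.add_eq_bot, hd] at h
    exact Or.inl ⟨h1, h.resolve_right WithBot.coe_ne_bot⟩
  obtain ⟨s, D, hs, hD, hsd, hDd, hDs⟩ := exists_invariants (P := P) R M d hd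
  rcases subsingleton_or_nontrivial (R' ⊗[P'] (P' ⊗[P] M)) with hM' | hM'
  · have h1 : tensSupp P' R' (P' ⊗[P] M) = ⊥ := Module.supportDim_eq_bot_of_subsingleton R' _
    rw [h1, WithBot.bot_add, tensSupp, hs, hd'] at h
    exact absurd h.symm WithBot.coe_ne_bot
  obtain ⟨s', D', hs', hD', -, hDd', -⟩ := exists_invariants (P := P') R' (P' ⊗[P] M) d' hd'
  refine Or.inr ⟨s, s', D, D', d, d', hs, hs', hD, hD', hd, hd', hle, ?_, ?_⟩
  · rw [tensSupp, hs', tensSupp, hs, hd, hd'] at h
    exact_mod_cast h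
  have key : ∀ e, d - e ≤ D ↔ d' - e ≤ D' := by
    intro e
    have h1 := (transfer_aux (P := P) (P' := P') (R := R) (R' := R') M e).1
    unfold PdLE at h1
    rw [projDimLT_iff_le_depth d hd, projDimLT_iff_le_depth d' hd', hD, hD'] at h1
    exact_mod_cast h1.symm
  have h1 := (key (d - D)).1 (by omega)
  have h2 := (key (d' - D')).2 (by omega)
  omega

theorem codimSupp_shift (j : ℕ) : CodimSupp P' R' (P' ⊗[P] M) j ↔ CodimSupp P R M j := by
  rw [CodimSupp, CodimSupp]
  rcases exists_shift (P := P) (P' := P') (R := R) (R' := R') M with ⟨h1, h2⟩ | ⟨s, s', D, D', d, d', h1, h2, -, -, hd, hd', hle, h5, -⟩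
  · rw [h1, h2]; simp
  · rw [h1, h2, hd, hd']
    constructor
    · intro h
      have : s' + j ≤ d' := by exact_mod_cast h
      exact_mod_cast (by omega : s + j ≤ d)
    · intro h
      have : s + j ≤ d := by exact_mod_cast h
      exact_mod_cast (by omega : s' + j ≤ d')

theorem cmAt_shift : CMAt P' R' (P' ⊗[P] M) ↔ CMAt P R M := by
  rw [CMAt, CMAt]
  rcases exists_shift (P := P) (P' := P') (R := R) (R' := R') M with ⟨h1, h2⟩ | ⟨s, s', D, D', d, d', h1, h2, h3, h4, -, -, hle, h5, h6⟩
  · rw [h1, h2]; simp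
  · rw [h1, h2, h3, h4]
    constructor
    · intro h
      have : s' ≤ D' + 0 := by exact_mod_cast h
      exact_mod_cast (by omega : s ≤ D + 0)
    · intro h
      have : s ≤ D + 0 := by exact_mod_cast h
      exact_mod_cast (by omega : s' ≤ D' + 0)

end Local

/-- Serre's condition ascends and descends along flat local homomorphisms of regular local rings. -/
theorem tensSk_baseChange {P P' R R' : Type u} [CommRing P] [CommRing P'] [CommRing R] [CommRing R']
    [IsRegularLocalRing R] [IsRegularLocalRing R'] [Algebra P P'] [Algebra P R] [Algebra P' R']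
    [Algebra P R'] [IsScalarTower P P' R'] [Algebra R R'] [IsScalarTower P R R'] [IsLocalHom (algebraMap R R')]
    [Module.Flat R R'] (M : Type u) [AddCommGroup M] [Module P M] [Module.Finite P M]
    (hreg : ∀ (𝔯 : Ideal R) [𝔯.IsPrime], IsRegularLocalRing (Localization.AtPrime 𝔯))
    (hreg' : ∀ (𝔯 : Ideal R') [𝔯.IsPrime], IsRegularLocalRing (Localization.AtPrime 𝔯)) (k : ℕ) :
    TensSk P' R' (P' ⊗[P] M) k ↔ TensSk P R M k := by
  simp only [TensSk, hasSk_tensor_iff]
  have key : ∀ (𝔯 : Ideal R) [𝔯.IsPrime] (𝔯' : Ideal R') [𝔯'.IsPrime], 𝔯'.under R = 𝔯 →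
      (tensSupp P (Localization.AtPrime 𝔯) M = ⊥ ∧ tensSupp P' (Localization.AtPrime 𝔯') (P' ⊗[P] M) = ⊥) ∨
        ∃ s s' D D' d d' : ℕ, tensSupp P (Localization.AtPrime 𝔯) M = s ∧
          tensSupp P' (Localization.AtPrime 𝔯') (P' ⊗[P] M) = s' ∧
          tensDepth P (Localization.AtPrime 𝔯) M = D ∧
          tensDepth P' (Localization.AtPrime 𝔯') (P' ⊗[P] M) = D' ∧ 𝔯.height = d ∧ 𝔯'.height = d' ∧
          d ≤ d' ∧ s' + d = s + d' ∧ D' + d = D + d' := by
    intro 𝔯 _ 𝔯' _ hover
    haveI : 𝔯'.LiesOver 𝔯 := ⟨hover.symm⟩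
    letI := Localization.AtPrime.algebraOfLiesOver 𝔯 𝔯'
    haveI : Localization.AtPrime.IsLiesOverAlgebra 𝔯 𝔯' := ⟨rfl⟩
    haveI := hreg 𝔯
    haveI := hreg' 𝔯'
    haveI : IsLocalHom (algebraMap (Localization.AtPrime 𝔯) (Localization.AtPrime 𝔯')) := by
      rw [Localization.AtPrime.IsLiesOverAlgebra.algebraMap_eq]
      infer_instance
    haveI : IsScalarTower P (Localization.AtPrime 𝔯) (Localization.AtPrime 𝔯') := .of_algebraMap_eq fun b => by
      rw [IsScalarTower.algebraMap_apply P R' (Localization.AtPrime 𝔯'), IsScalarTower.algebraMap_apply P R R',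
        IsScalarTower.algebraMap_apply P R (Localization.AtPrime 𝔯), ← IsScalarTower.algebraMap_apply R R',
        ← IsScalarTower.algebraMap_apply R (Localization.AtPrime 𝔯)]
    haveI : IsScalarTower P P' (Localization.AtPrime 𝔯') := .of_algebraMap_eq fun b => by
      rw [IsScalarTower.algebraMap_apply P R' (Localization.AtPrime 𝔯'), IsScalarTower.algebraMap_apply P P' R',
        ← IsScalarTower.algebraMap_apply P' R']
    rcases exists_shift (P := P) (P' := P') (R := Localization.AtPrime 𝔯) (R' := Localization.AtPrime 𝔯') M with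
      h | ⟨s, s', D, D', d, d', h1, h2, h3, h4, h5, h6, h7⟩
    · exact Or.inl h
    · rw [IsLocalization.AtPrime.ringKrullDim_eq_height 𝔯] at h5
      rw [IsLocalization.AtPrime.ringKrullDim_eq_height 𝔯'] at h6
      exact Or.inr ⟨s, s', D, D', d, d', h1, h2, h3, h4, WithBot.coe_injective h5, WithBot.coe_injective h6, h7⟩
  constructor
  · intro H 𝔯 _
    haveI : Module.FaithfullyFlat R R' := Module.FaithfullyFlat.of_flat_of_isLocalHom
    obtain ⟨Q, hQ⟩ := PrimeSpectrum.comap_surjective_of_faithfullyFlat (B := R') ⟨𝔯, inferInstance⟩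
    have hle : 𝔯.map (algebraMap R R') ≤ Q.asIdeal := Ideal.map_le_iff_le_comap.2
      (le_of_eq (congrArg PrimeSpectrum.asIdeal hQ).symm)
    obtain ⟨𝔯', hmin, -⟩ := Ideal.exists_minimalPrimes_le hle
    haveI := hmin.1.1
    rcases key 𝔯 𝔯' (RatliffLib.under_eq_of_minimal hmin) with
      ⟨h1, -⟩ | ⟨s, s', D, D', d, d', h1, h2, h3, h4, h5, h6, hdd, h7, h8⟩
    · rw [h1, min_eq_right bot_le]; exact bot_le
    · have hd : d' = d := by
        have := RatliffLib.height_eq_of_minimal hmin
        rw [h5, h6] at this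
        exact_mod_cast this
      have h := H 𝔯'
      rw [h2, h4] at h
      rw [h1, h3]
      rw [show s = s' by omega, show D = D' by omega]
      exact h
  · intro H 𝔯' _
    rcases key (𝔯'.under R) 𝔯' rfl with ⟨-, h2⟩ | ⟨s, s', D, D', d, d', h1, h2, h3, h4, h5, h6, hdd, h7, h8⟩
    · rw [h2, min_eq_right bot_le]; exact bot_le
    · have h := H (𝔯'.under R)
      rw [h1, h3] at h
      rw [h2, h4]
      rcases le_total k s with hks | hks
      · rw [min_eq_left (by exact_mod_cast hks)] at h
        have : k ≤ D := by exact_mod_cast h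
        exact le_trans (min_le_left _ _) (by exact_mod_cast (by omega : k ≤ D'))
      · rw [min_eq_right (by exact_mod_cast hks)] at h
        have : s ≤ D := by exact_mod_cast h
        exact le_trans (min_le_right _ _) (by exact_mod_cast (by omega : s' ≤ D'))

end Groth.Agent.FibreDepth
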