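import Groth.Agent.FibreDepth.Stratify
import Groth.Agent.FibreDepth.Shift
import Groth.Agent.FibreDepth.Descent

/-!
Constructibility of the loci cut out by depth, dimension and Serre's conditions on the fibres.
-/

set_option autoImplicit false
set_option linter.style.haveILetI false

universe u

open MvPolynomial TensorProduct Topology

namespace Groth.Agent.FibreDepth

open Groth.Agent.GenFree Groth.Agent.FlatLocus

attribute [local instance] Algebra.TensorProduct.rightAlgebra MvPolynomial.algebraMvPolynomial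

section General

variable {A A' P P' : Type u} [CommRing A] [CommRing A'] [CommRing P] [CommRing P']
  [Algebra A A'] [Algebra A P] [Algebra A' P'] [Algebra P P'] [Algebra A P']
  [IsScalarTower A A' P'] [IsScalarTower A P P'] [Algebra.IsPushout A A' P P']
  [Algebra.FiniteType A P] [Algebra.FiniteType A' P']

/-- Invariance of the codimension of the support and of Serre's condition on fibres under base change. -/
theorem fib_shift (hreg : ∀ r : PrimeSpectrum P, IsRegularLocalRing (FibRing A r))
    (hreg' : ∀ r : PrimeSpectrum P', IsRegularLocalRing (FibRing A' r)) (M : Type u) [AddCommGroup M] [Module P M]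
    [Module.Finite P M] (q' : PrimeSpectrum P') (q : PrimeSpectrum P) (hq : q'.asIdeal.under P = q.asIdeal) :
    (∀ j, CodimSupp P' (FibRing A' q') (P' ⊗[P] M) j ↔ CodimSupp P (FibRing A q) M j) ∧
      (∀ k, TensSk P' (FibRing A' q') (P' ⊗[P] M) k ↔ TensSk P (FibRing A q) M k) ∧
      (CMAt P' (FibRing A' q') (P' ⊗[P] M) ↔ CMAt P (FibRing A q) M) := by
  obtain ⟨ψ, hflat, hloc, hψ⟩ := exists_flat_fibRing_hom (A := A) (A' := A') q' q hq
  haveI := hreg q
  haveI := hreg' q'
  letI : Algebra (FibRing A q) (FibRing A' q') := ψ.toAlgebra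
  haveI : Module.Flat (FibRing A q) (FibRing A' q') := hflat
  haveI : IsLocalHom (algebraMap (FibRing A q) (FibRing A' q')) := hloc
  letI : Algebra P (FibRing A' q') := ((algebraMap P' (FibRing A' q')).comp (algebraMap P P')).toAlgebra
  haveI : IsScalarTower P P' (FibRing A' q') := .of_algebraMap_eq fun _ => rfl
  haveI : IsScalarTower P (FibRing A q) (FibRing A' q') := .of_algebraMap_eq fun b => (hψ b).symm
  refine ⟨fun j => codimSupp_shift (P := P) (P' := P') (R := FibRing A q) (R' := FibRing A' q') M j,
    fun k => tensSk_baseChange (P := P) (P' := P') (R := FibRing A q) (R' := FibRing A' q') M ?_ ?_ k,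
    cmAt_shift (P := P) (P' := P') (R := FibRing A q) (R' := FibRing A' q') M⟩
  · intro 𝔯 _
    obtain ⟨r, -, -, ⟨e⟩⟩ := exists_algEquiv_fibRing q 𝔯
    haveI := hreg r
    exact regular_of_algEquiv (R := FibRing A r) e
  · intro 𝔯 _
    obtain ⟨r, -, -, ⟨e⟩⟩ := exists_algEquiv_fibRing q' 𝔯
    haveI := hreg' r
    exact regular_of_algEquiv (R := FibRing A' r) e

end General

theorem fibIso_congr {P R M M' : Type u} [CommRing P] [CommRing R] [Algebra P R] [AddCommGroup M] [Module P M]
    [AddCommGroup M'] [Module P M'] (e : M ≃ₗ[P] M') : FibIso R (R ⊗[P] M) R (R ⊗[P] M') :=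
  ⟨RingHom.id R, Function.surjective_id, (AlgebraTensorModule.congr (LinearEquiv.refl R R) e).toAddEquiv,
    fun r n => (AlgebraTensorModule.congr (LinearEquiv.refl R R) e).map_smul r n⟩

theorem tens_congr_module {P R M M' : Type u} [CommRing P] [CommRing R] [IsLocalRing R] [Algebra P R] [AddCommGroup M]
    [Module P M] [Module.Finite P M] [AddCommGroup M'] [Module P M'] [Module.Finite P M'] (e : M ≃ₗ[P] M') :
    tensDepth P R M = tensDepth P R M' ∧ tensSupp P R M = tensSupp P R M' ∧
      (∀ j, CodimSupp P R M j ↔ CodimSupp P R M' j) ∧ (∀ k, TensSk P R M k ↔ TensSk P R M' k) := by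
  have h : tensSupp P R M = tensSupp P R M' := (fibIso_congr (R := R) e).supportDim_eq
  exact ⟨(fibIso_congr (R := R) e).depth_eq, h, fun j => by rw [CodimSupp, CodimSupp, h],
    fun k => (fibIso_congr (R := R) e).hasSk_iff k⟩

variable {a m : ℕ}

/-- The fibre has projective dimension at most `e`. -/
def predPd (a m e : ℕ) : PointPred.{u} a m := fun A _ K q =>
  PdLE (MvPolynomial (Fin m) A) (FibRing A q) (FreeMod A a m ⧸ K) e

/-- The support of the fibre has codimension at least `j`. -/
def predCodim (a m j : ℕ) : PointPred.{u} a m := fun A _ K q =>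
  CodimSupp (MvPolynomial (Fin m) A) (FibRing A q) (FreeMod A a m ⧸ K) j

/-- The fibre satisfies `S_k`. -/
def predSk (a m k : ℕ) : PointPred.{u} a m := fun A _ K q =>
  TensSk (MvPolynomial (Fin m) A) (FibRing A q) (FreeMod A a m ⧸ K) k

section Poly

variable {A A' : Type u} [CommRing A] [CommRing A'] [Algebra A A']

theorem pred_baseChange (M : Type u) [AddCommGroup M] [Module (MvPolynomial (Fin m) A) M]
    [Module.Finite (MvPolynomial (Fin m) A) M] (M' : Type u) [AddCommGroup M']
    [Module (MvPolynomial (Fin m) A') M'] [Module.Finite (MvPolynomial (Fin m) A') M']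
    (ε : M' ≃ₗ[MvPolynomial (Fin m) A'] MvPolynomial (Fin m) A' ⊗[MvPolynomial (Fin m) A] M)
    (q' : PrimeSpectrum (MvPolynomial (Fin m) A')) :
    (∀ j, CodimSupp (MvPolynomial (Fin m) A') (FibRing A' q') M' j ↔
        CodimSupp (MvPolynomial (Fin m) A) (FibRing A (PrimeSpectrum.comap (MvPolynomial.map (algebraMap A A')) q')) M j) ∧
      (∀ k, TensSk (MvPolynomial (Fin m) A') (FibRing A' q') M' k ↔
        TensSk (MvPolynomial (Fin m) A) (FibRing A (PrimeSpectrum.comap (MvPolynomial.map (algebraMap A A')) q')) M k) := by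
  obtain ⟨h1, h2, -⟩ := fib_shift (A := A) (A' := A') isRegularLocalRing_fibRing isRegularLocalRing_fibRing M q'
    (PrimeSpectrum.comap (MvPolynomial.map (algebraMap A A')) q') rfl
  obtain ⟨-, -, h3, h4⟩ := tens_congr_module (R := FibRing A' q') ε
  exact ⟨fun j => (h3 j).trans (h1 j), fun k => (h4 k).trans (h2 k)⟩

theorem finite_freeMod_quot (K : Submodule (MvPolynomial (Fin m) A) (FreeMod A a m)) :
    Module.Finite (MvPolynomial (Fin m) A) (FreeMod A a m ⧸ K) := inferInstance

end Poly

theorem stableBC_predPd (e : ℕ) : StableBC (predPd.{u} a m e) := by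
  intro A A' _ _ _ K q
  obtain ⟨η⟩ := nonempty_baseChange_quot (A₁ := A) (A := A') K
  exact pdLE_descent (FreeMod A' a m ⧸ locN A' K) (FreeMod A a m ⧸ K) η.symm e q _ rfl

theorem stableBC_predCodim (j : ℕ) : StableBC (predCodim.{u} a m j) := by
  intro A A' _ _ _ K q
  obtain ⟨η⟩ := nonempty_baseChange_quot (A₁ := A) (A := A') K
  exact (pred_baseChange (FreeMod A a m ⧸ K) (FreeMod A' a m ⧸ locN A' K) η.symm q).1 j

theorem stableBC_predSk (k : ℕ) : StableBC (predSk.{u} a m k) := by
  intro A A' _ _ _ K q
  obtain ⟨η⟩ := nonempty_baseChange_quot (A₁ := A) (A := A') K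
  exact (pred_baseChange (FreeMod A a m ⧸ K) (FreeMod A' a m ⧸ locN A' K) η.symm q).2 k

theorem openFlat_predPd (e : ℕ) : OpenFlat (predPd.{u} a m e) := by
  intro A _ _ K hK
  haveI : Module.FinitePresentation (MvPolynomial (Fin m) A) (FreeMod A a m ⧸ K) :=
    Module.finitePresentation_of_finite _ _
  rw [show {q | predPd a m e A K q} = PdSet A (MvPolynomial (Fin m) A) (FreeMod A a m ⧸ K) e from
    Set.ext fun q => ⟨fun h => ⟨hK q, h⟩, fun h => h.2⟩]
  exact isOpen_pdSet_mvPolynomial (A := A) (FreeMod A a m ⧸ K) e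

theorem openFlat_predCodim (j : ℕ) : OpenFlat (predCodim.{u} a m j) := by
  intro A _ _ K _
  convert isOpen_codimGE (Module.annihilator (MvPolynomial (Fin m) A) (FreeMod A a m ⧸ K)) j using 1
  ext q
  exact (codimAt_annihilator_iff (FibRing A q) (FreeMod A a m ⧸ K) j).symm

theorem openFlat_predSk (k : ℕ) : OpenFlat (predSk.{u} a m k) := by
  intro A _ _ K hK
  haveI : Module.FinitePresentation (MvPolynomial (Fin m) A) (FreeMod A a m ⧸ K) :=
    Module.finitePresentation_of_finite _ _
  obtain ⟨W, hW, h⟩ := exists_open_hasSk (A := A) (m := m) (FreeMod A a m ⧸ K) k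
  convert hW using 1
  ext q
  exact (h q (hK q)).symm

variable {A : Type u} [CommRing A] (M : Type u) [AddCommGroup M] [Module (MvPolynomial (Fin m) A) M]
  [Module.FinitePresentation (MvPolynomial (Fin m) A) M]

theorem isConstructible_pd (e : ℕ) :
    IsConstructible {q : PrimeSpectrum (MvPolynomial (Fin m) A) | PdLE (MvPolynomial (Fin m) A) (FibRing A q) M e} := by
  obtain ⟨a, K, ε, hK⟩ := Module.FinitePresentation.exists_fin (MvPolynomial (Fin m) A) M
  convert isConstructible_of_stable (stableBC_predPd (a := a) (m := m) e) (openFlat_predPd e) K hK using 1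
  ext q
  exact pdLE_congr (FibRing A q) ε e

theorem isConstructible_codimSupp (j : ℕ) :
    IsConstructible {q : PrimeSpectrum (MvPolynomial (Fin m) A) | CodimSupp (MvPolynomial (Fin m) A) (FibRing A q) M j} := by
  obtain ⟨a, K, ε, hK⟩ := Module.FinitePresentation.exists_fin (MvPolynomial (Fin m) A) M
  convert isConstructible_of_stable (stableBC_predCodim (a := a) (m := m) j) (openFlat_predCodim j) K hK using 1
  ext q
  exact (tens_congr_module (R := FibRing A q) ε).2.2.1 j

theorem isConstructible_tensSk (k : ℕ) :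
    IsConstructible {q : PrimeSpectrum (MvPolynomial (Fin m) A) | TensSk (MvPolynomial (Fin m) A) (FibRing A q) M k} := by
  obtain ⟨a, K, ε, hK⟩ := Module.FinitePresentation.exists_fin (MvPolynomial (Fin m) A) M
  convert isConstructible_of_stable (stableBC_predSk (a := a) (m := m) k) (openFlat_predSk k) K hK using 1
  ext q
  exact (tens_congr_module (R := FibRing A q) ε).2.2.2 k

end Groth.Agent.FibreDepth
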