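import Groth.Agent.FibreDepth.Descent

/-!
Fibre invariants of a module over a finitely presented algebra through a presentation.
-/

set_option autoImplicit false

universe u

namespace Groth.Agent.FibreDepth

open IsLocalRing TensorProduct

attribute [local instance] Algebra.TensorProduct.rightAlgebra

variable {A P B : Type u} [CommRing A] [CommRing P] [CommRing B] [Algebra A P] [Algebra A B] [Algebra P B]
  [IsScalarTower A P B] {M : Type u} [AddCommGroup M] [Module B M] [Module P M] [IsScalarTower P B M]

theorem primeCompl_eq_image (hπ : Function.Surjective (algebraMap P B)) (q : PrimeSpectrum B) :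
    Algebra.algebraMapSubmonoid B (PrimeSpectrum.comap (algebraMap P B) q).asIdeal.primeCompl =
      q.asIdeal.primeCompl := by
  ext x
  constructor
  · rintro ⟨y, hy, rfl⟩; exact hy
  · intro hx
    obtain ⟨y, rfl⟩ := hπ x
    exact ⟨y, hx, rfl⟩

theorem fib_eq_quot_aux {R S O : Type u} [CommRing R] [IsLocalRing R] [CommRing S] [IsLocalRing S] [CommRing O]
    [IsLocalRing O] [Algebra P R] [Algebra P S] [Algebra S O] [Module.Finite P M] (hsurj : Function.Surjective (algebraMap S O))
    {Mx : Type u} [AddCommGroup Mx] [Module O Mx] [Module S Mx] [IsScalarTower S O Mx] [Module.Finite O Mx]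
    (I : Ideal S) (J : Ideal O) (hIJ : I.map (algebraMap S O) = J)
    (h : LocCoh.depth R (R ⊗[P] M) = LocCoh.depth S (Mx ⧸ (I • ⊤ : Submodule S Mx)) ∧
      Module.supportDim R (R ⊗[P] M) = Module.supportDim S (Mx ⧸ (I • ⊤ : Submodule S Mx)) ∧
      (Subsingleton (R ⊗[P] M) ↔ Subsingleton (Mx ⧸ (I • ⊤ : Submodule S Mx)))) :
    tensDepth P R M = LocCoh.depth O (Mx ⧸ (J • ⊤ : Submodule O Mx)) ∧
      tensSupp P R M = Module.supportDim O (Mx ⧸ (J • ⊤ : Submodule O Mx)) ∧
      (Subsingleton (R ⊗[P] M) ↔ Subsingleton (Mx ⧸ (J • ⊤ : Submodule O Mx))) := by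
  obtain ⟨h1, h2, h3⟩ := h
  have hsub : (J • ⊤ : Submodule O Mx).restrictScalars S = (I • ⊤ : Submodule S Mx) := by
    rw [← hIJ]
    ext z
    rw [Submodule.restrictScalars_mem]
    exact (LocFlat.mem_smul_top_iff (R := S) (S := O) I z).symm
  let e : (Mx ⧸ (I • ⊤ : Submodule S Mx)) ≃ₗ[S] (Mx ⧸ (J • ⊤ : Submodule O Mx)) :=
    (Submodule.quotEquivOfEq _ _ hsub.symm).trans (Submodule.Quotient.restrictScalarsEquiv S _)
  refine ⟨h1.trans ((CAlgBasics.idealDepth_congr e).trans (depth_of_surjective hsurj)),
    h2.trans ((Module.supportDim_eq_of_equiv e).trans (supportDim_of_surjective hsurj)),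
    h3.trans e.toEquiv.subsingleton_congr⟩

/-- Fibre invariants computed in a localization of `B`. -/
theorem fib_of_presentation [Module.Finite P M] (hπ : Function.Surjective (algebraMap P B)) (q : PrimeSpectrum B)
    {O Mx : Type u} [CommRing O] [IsLocalRing O] [Algebra B O] [IsLocalization.AtPrime O q.asIdeal]
    [Algebra A O] [IsScalarTower A B O] [AddCommGroup Mx] [Module O Mx] [Module B Mx] [IsScalarTower B O Mx]
    (g : M →ₗ[B] Mx) [IsLocalizedModule q.asIdeal.primeCompl g] :
    tensDepth P (FibRing A (PrimeSpectrum.comap (algebraMap P B) q)) M =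
        LocCoh.depth O (Mx ⧸ ((q.asIdeal.under A).map (algebraMap A O) • ⊤ : Submodule O Mx)) ∧
      tensSupp P (FibRing A (PrimeSpectrum.comap (algebraMap P B) q)) M =
        Module.supportDim O (Mx ⧸ ((q.asIdeal.under A).map (algebraMap A O) • ⊤ : Submodule O Mx)) ∧
      (Subsingleton (FibMod A M (PrimeSpectrum.comap (algebraMap P B) q)) ↔
        Subsingleton (Mx ⧸ ((q.asIdeal.under A).map (algebraMap A O) • ⊤ : Submodule O Mx))) := by
  let q' := PrimeSpectrum.comap (algebraMap P B) q
  let S := Localization.AtPrime q'.asIdeal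
  have hunit : ∀ y : q'.asIdeal.primeCompl, IsUnit (((algebraMap B O).comp (algebraMap P B)) y) := fun y =>
    IsLocalization.map_units O (⟨algebraMap P B y, y.2⟩ : q.asIdeal.primeCompl)
  letI : Algebra P O := ((algebraMap B O).comp (algebraMap P B)).toAlgebra
  haveI : IsScalarTower P B O := .of_algebraMap_eq fun _ => rfl
  letI : Algebra S O := (IsLocalization.lift (M := q'.asIdeal.primeCompl) (S := S) hunit).toAlgebra
  haveI : IsScalarTower P S O := .of_algebraMap_eq fun b => (IsLocalization.lift_eq hunit b).symm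
  have hsurj : Function.Surjective (algebraMap S O) := fun z => by
    obtain ⟨x, ⟨s, hs⟩, rfl⟩ := IsLocalization.exists_mk'_eq q.asIdeal.primeCompl z
    obtain ⟨x, rfl⟩ := hπ x
    obtain ⟨s, rfl⟩ := hπ s
    refine ⟨IsLocalization.mk' S x (⟨s, hs⟩ : q'.asIdeal.primeCompl), ?_⟩
    show IsLocalization.lift hunit _ = _
    rw [IsLocalization.lift_mk'_spec]
    show algebraMap B O (algebraMap P B x) = algebraMap B O (algebraMap P B s) * _
    exact (IsLocalization.mk'_spec' O (algebraMap P B x) (⟨algebraMap P B s, hs⟩ : q.asIdeal.primeCompl)).symm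
  letI : Module S Mx := Module.compHom Mx (algebraMap S O)
  haveI : IsScalarTower S O Mx := .of_algebraMap_smul fun _ _ => rfl
  letI : Module P Mx := Module.compHom Mx (algebraMap P B)
  haveI : IsScalarTower P B Mx := .of_algebraMap_smul fun _ _ => rfl
  haveI : IsScalarTower P S Mx := .of_algebraMap_smul fun b z => by
    show algebraMap S O (algebraMap P S b) • z = algebraMap P B b • z
    rw [← IsScalarTower.algebraMap_apply, IsScalarTower.algebraMap_apply P B O, algebraMap_smul]
  haveI : IsLocalizedModule (Algebra.algebraMapSubmonoid B q'.asIdeal.primeCompl) g := by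
    rw [primeCompl_eq_image hπ q]; infer_instance
  haveI : IsLocalizedModule q'.asIdeal.primeCompl (g.restrictScalars P) := IsLocalizedModule.restrictScalars _ _
  haveI : Module.Finite B M := Module.Finite.of_restrictScalars_finite P B M
  haveI : Module.Finite O Mx := Module.Finite.of_isLocalizedModule q.asIdeal.primeCompl g
  refine fib_eq_quot_aux (S := S) (O := O) hsurj ((basePrime A q').map (algebraMap A S)) _ ?_
    (fibMod_eq_quot q' (g.restrictScalars P))
  have hp : basePrime A q' = q.asIdeal.under A := by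
    ext a
    show algebraMap P B (algebraMap A P a) ∈ q.asIdeal ↔ algebraMap A B a ∈ q.asIdeal
    rw [← IsScalarTower.algebraMap_apply]
  rw [hp, Ideal.map_map]
  congr 1
  ext a
  show algebraMap S O (algebraMap A S a) = _
  rw [IsScalarTower.algebraMap_apply A P S, ← IsScalarTower.algebraMap_apply P S O,
    IsScalarTower.algebraMap_apply A B O, IsScalarTower.algebraMap_apply A P B]
  rfl

/-- The residual transcendence degree does not depend on the presentation. -/
theorem trdeg_of_presentation (hπ : Function.Surjective (algebraMap P B)) (q : PrimeSpectrum B) :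
    Algebra.trdeg (A ⧸ basePrime A (PrimeSpectrum.comap (algebraMap P B) q))
        (P ⧸ (PrimeSpectrum.comap (algebraMap P B) q).asIdeal) =
      Algebra.trdeg (A ⧸ q.asIdeal.under A) (B ⧸ q.asIdeal) := by
  let q' := PrimeSpectrum.comap (algebraMap P B) q
  have hp : basePrime A q' = q.asIdeal.under A := by
    ext a
    show algebraMap P B (algebraMap A P a) ∈ q.asIdeal ↔ algebraMap A B a ∈ q.asIdeal
    rw [← IsScalarTower.algebraMap_apply]
  let e : (P ⧸ q'.asIdeal) ≃+* B ⧸ q.asIdeal :=
    RingEquiv.ofBijective (Ideal.quotientMap q.asIdeal (algebraMap P B) le_rfl)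
      ⟨Ideal.quotientMap_injective, Ideal.quotientMap_surjective hπ⟩
  haveI : q'.asIdeal.LiesOver (basePrime A q') := ⟨rfl⟩
  haveI : q.asIdeal.LiesOver (q.asIdeal.under A) := ⟨rfl⟩
  exact DimFormulaLib.trdeg_eq_of_ringEquiv (R := A ⧸ basePrime A q') (R' := A ⧸ q.asIdeal.under A)
    (A := P ⧸ q'.asIdeal) (A' := B ⧸ q.asIdeal) (Ideal.quotEquivOfEq hp) e fun x => by
      obtain ⟨x, rfl⟩ := Ideal.Quotient.mk_surjective x
      exact congrArg (Ideal.Quotient.mk q.asIdeal) (IsScalarTower.algebraMap_apply A P B x)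

end Groth.Agent.FibreDepth
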